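import Cfsg.Agent.BS.SEMain

/-! Automorphisms of `PSL(2, 2^n)` via the Suzuki structure. -/

set_option autoImplicit false

namespace Cfsg.Agent.H7

open Subgroup Cfsg.Agent.BS Cfsg.Agent.H8

universe u

variable {G : Type u} [Group G] [Finite G]

theorem suz_cent (X : Suz G) {x : G} (hx : x * X.s = X.s * x) :
    ∃ y ∈ X.Q, ∃ v ∈ X.V, x = y * v := by
  have hH : x ∈ X.H := X.mem_H_of_conj X.sQ X.s1 (by rw [hx, mul_inv_cancel_right]; exact X.Q_le X.sQ)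
  obtain ⟨y, hy, d, hd, rfl⟩ := X.sdp.exists_mul hH
  refine ⟨y, hy, d, X.mem_V'.2 ⟨hd, ?_⟩, rfl⟩
  have h1 := X.Z_comm X.s_mem_Z hy
  apply mul_left_cancel (a := y)
  rw [← mul_assoc, hx, ← mul_assoc, h1, mul_assoc]

theorem suz_cent' (X : Suz G) (hD : X.D ≤ X.K) {x : G} (hx : x * X.s = X.s * x) :
    x ∈ X.Q := by
  obtain ⟨y, hy, v, hv, rfl⟩ := suz_cent X hx
  rcases X.K_fpf (hD (X.V_le hv)) X.sQ (X.mem_V'.1 hv).2 with e | e
  · rw [e, mul_one]; exact hy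
  · exact absurd e X.s1

theorem suz_aut (X : Suz G) (hQ : X.Q = X.Z) (hD : X.D ≤ X.K) {F : Type} [Field F] [Finite F]
    (c : X.Fd F) (α : MulAut G) :
    ∃ (g : G) (σ : RingAut F), α X.t = g * X.t * g⁻¹ ∧ ∀ a, α (c.z a) = g * c.z (σ a) * g⁻¹ := by
  have keyQ : ∀ β : MulAut G, β X.s = X.s → ∀ y ∈ X.Q, β y ∈ X.Q := fun β hβ y hy =>
    suz_cent' X hD (by rw [← hβ, ← map_mul, ← map_mul, X.Z_comm X.s_mem_Z hy])
  have keyH : ∀ β : MulAut G, β X.s = X.s → ∀ h ∈ X.H, β h ∈ X.H := fun β hβ h hh =>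
    X.mem_H_of_conj X.sQ X.s1 (by
      have := keyQ β hβ _ (X.conj_mem_Q hh X.sQ)
      rw [map_mul, map_mul, map_inv, hβ] at this
      exact X.Q_le this)
  obtain ⟨g0, hg0⟩ := X.conj_s (a := α X.s) (by rw [← map_mul, X.ss, map_one])
    (fun e => X.s1 (α.injective (by rw [e, map_one])))
  set β0 : MulAut G := MulAut.conj g0⁻¹ * α with hβ0
  have b0 : ∀ x, β0 x = g0⁻¹ * α x * g0 := fun x => by simp [hβ0]
  have hs0 : β0 X.s = X.s := by rw [b0, ← hg0]; group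
  have ht0 : β0 X.t ∉ X.H := fun e => X.tH (by
    have := keyH β0⁻¹ (by rw [MulAut.inv_def, MulEquiv.symm_apply_eq, hs0]) _ e
    simpa using this)
  obtain ⟨h, hh, hht⟩ := X.conj_t (a := β0 X.t) (by rw [← map_mul, X.tt, map_one]) ht0
  set β : MulAut G := MulAut.conj h * β0 with hβ
  have b1 : ∀ x, β x = h * β0 x * h⁻¹ := fun x => by simp [hβ]
  have bQ : ∀ y ∈ X.Q, β y ∈ X.Q := fun y hy => by
    rw [b1]; exact X.conj_mem_Q hh (keyQ β0 hs0 y hy)
  have bt : β X.t = X.t := by rw [b1, hht]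
  have bs : β X.s = X.s := (X.pair_unique (bQ _ X.sQ) (bQ _ X.rQ) (by
    have := congrArg β X.tst
    simpa only [map_mul, map_inv, bt] using this)).1
  have bD : ∀ d ∈ X.D, β d ∈ X.D := fun d hd => X.mem_D.2 ⟨keyH β bs d (X.D_le hd), by
    have := keyH β bs _ (X.mem_D.1 hd).2
    simpa only [map_mul, bt] using this⟩
  have hz : ∀ a, ∃ b, c.z b = β (c.z a) := fun a =>
    (c.mem_Z _).1 (hQ ▸ bQ _ (X.Z_le ((c.mem_Z _).2 ⟨a, rfl⟩)))
  choose σ0 hσ using hz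
  have z0 : c.z 0 = 1 := by
    have := c.z_add 0 0
    rw [add_zero] at this
    exact left_eq_mul.mp this
  have add : ∀ a b, σ0 (a + b) = σ0 a + σ0 b := fun a b => c.z_inj (by
    rw [hσ, c.z_add, c.z_add, map_mul, hσ, hσ])
  have one : σ0 1 = 1 := c.z_inj (by rw [hσ, c.z_one, bs])
  have zero : σ0 0 = 0 := c.z_inj (by rw [hσ, z0, map_one])
  have mul : ∀ a b, σ0 (a * b) = σ0 a * σ0 b := fun a b => by
    by_cases ha : a = 0
    · rw [ha, zero_mul, zero, zero_mul]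
    obtain ⟨l, hl⟩ := (c.mem_K _).1 (hD (bD _ (X.K_le ((c.mem_K _).2 ⟨Units.mk0 a ha, rfl⟩))))
    have key : ∀ b, σ0 (a * b) = l * σ0 b := fun b => c.z_inj (by
      rw [hσ, ← c.conj l, hl, hσ, ← map_inv, ← map_mul, ← map_mul, c.conj]; rfl)
    have := key 1
    rw [mul_one, one, mul_one] at this
    rw [key, this]
  let τ : F →+* F := ⟨⟨⟨σ0, one⟩, mul⟩, zero, add⟩
  refine ⟨g0 * h⁻¹, RingEquiv.ofBijective τ (Finite.injective_iff_bijective.mp τ.injective), ?_,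
    fun a => ?_⟩
  · rw [b0] at hht
    nth_rewrite 2 [← hht]
    group
  · show _ = _ * c.z (σ0 a) * _
    rw [hσ, b1, b0]; group

theorem suz_card_aut (X : Suz G) (hQ : X.Q = X.Z) (hD : X.D ≤ X.K)
    (hg : closure (insert X.t (X.Q : Set G)) = ⊤) {n : ℕ} (hn : Nat.card X.Z = 2 ^ n) :
    Nat.card (MulAut G) ≤ Nat.card G * n := by
  obtain ⟨F, _, _, -, hF, ⟨c⟩⟩ := X.exists_fd
  choose g σ h1 h2 using suz_aut X hQ hD c
  rw [← H1.U3.card_ringAut (F := F) (m := n) (hF.trans hn), ← Nat.card_prod]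
  have : Finite (RingAut F) := Finite.of_injective (fun e : RingAut F => (e : F → F))
    DFunLike.coe_injective
  refine Nat.card_le_card_of_injective (fun α => (g α, σ α)) fun α β e => ?_
  obtain ⟨e1, e2⟩ := Prod.mk.inj e
  have : α.toMonoidHom = β.toMonoidHom := MonoidHom.eq_of_eqOn_dense hg (by
    rintro x (rfl | hx)
    · show α _ = β _
      rw [h1, h1, e1]
    · obtain ⟨a, rfl⟩ := (c.mem_Z _).1 (hQ ▸ hx)
      show α _ = β _
      rw [h2, h2, e1, e2])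
  exact MulEquiv.ext fun x => DFunLike.congr_fun this x

end Cfsg.Agent.H7
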