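import Cfsg.Agent.H8.SylowIn
import Cfsg.Agent.H4.Dihedral
import Cfsg.Agent.H5.PBasic
import Cfsg.Agent.H6.Count
import Cfsg.Agent.H9.BSW3
import Cfsg.Agent.H7.TwoTools

set_option autoImplicit false

/-! Self-centralizing abelian subgroups (`C(y) = Q` for all `y ∈ Q#`). -/

namespace Cfsg.Agent.H7.CA

open Subgroup H8

variable {G : Type*} [Group G]

/-- `C(y) = Q` for every non-identity `y ∈ Q` -/
def SC (Q : Subgroup G) : Prop := ∀ y ∈ Q, y ≠ 1 → centralizer ({y} : Set G) = Q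

/-- `x` is conjugate to a non-identity element of `Q` -/
def In (Q : Subgroup G) (x : G) : Prop := ∃ y ∈ Q, y ≠ 1 ∧ IsConj y x

theorem mem_cen {x y : G} : x ∈ centralizer ({y} : Set G) ↔ x * y = y * x :=
  mem_centralizer_singleton_iff

theorem In.ne_one {Q : Subgroup G} {x : G} (h : In Q x) : x ≠ 1 := by
  obtain ⟨y, -, hy, hc⟩ := h
  rintro rfl
  exact hy (isConj_one_left.mp hc)

theorem In.of_isConj {Q : Subgroup G} {x y : G} (h : In Q x) (hc : IsConj x y) : In Q y := by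
  obtain ⟨z, hz, hz1, hc'⟩ := h
  exact ⟨z, hz, hz1, hc'.trans hc⟩

theorem In.of_mem {Q : Subgroup G} {x : G} (h : x ∈ Q) (h1 : x ≠ 1) : In Q x :=
  ⟨x, h, h1, IsConj.refl x⟩

theorem In.exists_cj {Q : Subgroup G} {x : G} (h : In Q x) : ∃ g, x ∈ cj g Q := by
  obtain ⟨y, hy, -, hc⟩ := h
  obtain ⟨g, rfl⟩ := isConj_iff.mp hc
  exact ⟨g, conj_mem_cj g hy⟩

theorem In.of_mem_cj {Q : Subgroup G} {x g : G} (h : x ∈ cj g Q) (h1 : x ≠ 1) : In Q x := by
  refine ⟨g⁻¹ * x * g, mem_cj.mp h, fun h2 => h1 ?_, isConj_iff.mpr ⟨g, by group⟩⟩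
  have : x = g * (g⁻¹ * x * g) * g⁻¹ := by group
  rw [this, h2]; simp

namespace SC

variable {Q : Subgroup G}

theorem mem (h : SC Q) {y x : G} (hy : y ∈ Q) (hy1 : y ≠ 1) (hc : x * y = y * x) : x ∈ Q :=
  h y hy hy1 ▸ mem_cen.mpr hc

theorem comm (h : SC Q) : ∀ a ∈ Q, ∀ b ∈ Q, a * b = b * a := by
  intro a ha b hb
  by_cases hb1 : b = 1
  · simp [hb1]
  · exact mem_cen.mp ((h b hb hb1).symm ▸ ha)

theorem cj (h : SC Q) (g : G) : SC (H8.cj g Q) := by
  intro y hy hy1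
  have h1 : g⁻¹ * y * g ≠ 1 := fun h2 => hy1 (by
    have : y = g * (g⁻¹ * y * g) * g⁻¹ := by group
    rw [this, h2]; simp)
  rw [← h _ (mem_cj.mp hy) h1, cj_centralizer_singleton]
  congr 2; group

theorem card_cen (h : SC Q) {x : G} (hx : In Q x) :
    Nat.card (centralizer ({x} : Set G)) = Nat.card Q := by
  obtain ⟨y, hy, hy1, hc⟩ := hx
  rw [← H6.card_centralizer_eq_of_isConj hc, h y hy hy1]

theorem in_of_comm (h : SC Q) {x y : G} (hx : In Q x) (hy : y ≠ 1) (hc : y * x = x * y) :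
    In Q y := by
  obtain ⟨g, hg⟩ := hx.exists_cj
  exact In.of_mem_cj ((h.cj g).mem hg hx.ne_one hc) hy

variable [Finite G]

theorem exists_sylow_le (h : SC Q) {p : ℕ} (hp : p.Prime) (hd : p ∣ Nat.card Q) :
    ∃ R, IsSylowIn p R ⊤ ∧ R ≤ Q := by
  have := Fact.mk hp
  obtain ⟨v, hv⟩ := exists_prime_orderOf_dvd_card' (G := Q) p hd
  have hv' : orderOf (v : G) = p := by rw [orderOf_coe, hv]
  have hv1 : (v : G) ≠ 1 := fun h1 => hp.one_lt.ne' (by rw [← hv', h1, orderOf_one])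
  have hz : IsPGroup p (zpowers (v : G)) := by
    apply IsPGroup.of_card (n := 1)
    rw [Nat.card_zpowers, hv', pow_one]
  obtain ⟨R, hR, hle⟩ := exists_isSylowIn_ge (K := ⊤) hz le_top
  have hR1 : R ≠ ⊥ := fun h0 => hv1 (mem_bot.mp (h0 ▸ hle (mem_zpowers _)))
  obtain ⟨z, hzR, hzo, hzc, -⟩ :=
    H5.exists_mem_centralizer_of_isPGroup hR.pgroup hR.pgroup le_normalizer hR1
  have hz1 : z ≠ 1 := fun h1 => hp.one_lt.ne' (by rw [← hzo, h1, orderOf_one])
  have hzQ : z ∈ Q := h.mem v.2 hv1 (hzc _ (hle (mem_zpowers _))).symm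
  exact ⟨R, hR, fun r hr => h.mem hzQ hz1 (hzc r hr)⟩

theorem not_dvd_index (h : SC Q) {p : ℕ} (hp : p.Prime) (hd : p ∣ Nat.card Q) :
    ¬ p ∣ Q.index := by
  have := Fact.mk hp
  obtain ⟨R, hR, hle⟩ := h.exists_sylow_le hp hd
  intro h2
  apply hR.not_dvd_relIndex
  rw [relIndex_top_right]
  exact h2.trans (index_dvd_of_le hle)

theorem coprime_index (h : SC Q) : (Nat.card Q).Coprime Q.index :=
  Nat.coprime_of_dvd fun _ hp hd => h.not_dvd_index hp hd

theorem in_of_dvd (h : SC Q) {p : ℕ} (hp : p.Prime) (hd : p ∣ Nat.card Q) {x : G} (hx : x ≠ 1)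
    (hc : p ∣ Nat.card (centralizer ({x} : Set G))) : In Q x := by
  have := Fact.mk hp
  obtain ⟨R, hR, hle⟩ := h.exists_sylow_le hp hd
  obtain ⟨v, hv⟩ := exists_prime_orderOf_dvd_card' (G := centralizer ({x} : Set G)) p hc
  have hv' : orderOf (v : G) = p := by rw [orderOf_coe, hv]
  have hv1 : (v : G) ≠ 1 := fun h1 => hp.one_lt.ne' (by rw [← hv', h1, orderOf_one])
  have hz : IsPGroup p (zpowers (v : G)) := by
    apply IsPGroup.of_card (n := 1)
    rw [Nat.card_zpowers, hv', pow_one]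
  obtain ⟨R', hR', hle'⟩ := exists_isSylowIn_ge (K := ⊤) hz le_top
  obtain ⟨g, -, rfl⟩ := hR.exists_cj_eq hR'
  have : In Q (v : G) := In.of_mem_cj (cj_mono g hle (hle' (mem_zpowers _))) hv1
  exact h.in_of_comm this hx (mem_cen.mp v.2).symm

theorem coprime_cen (h : SC Q) {x : G} (hx : x ≠ 1) (hn : ¬ In Q x) :
    (Nat.card Q).Coprime (Nat.card (centralizer ({x} : Set G))) :=
  Nat.coprime_of_dvd fun _ hp hd hc => hn (h.in_of_dvd hp hd hx hc)

theorem in_of_card_eq (h : SC Q) (hQ : Q ≠ ⊥) {x : G} (hx : x ≠ 1)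
    (hc : Nat.card (centralizer ({x} : Set G)) = Nat.card Q) : In Q x := by
  by_contra hn
  have := h.coprime_cen hx hn
  rw [hc, Nat.coprime_self] at this
  exact hQ (card_eq_one.mp this)

theorem ncard_in (h : SC Q) :
    {z | In Q z}.ncard * Nat.card (normalizer (Q : Set G)) = Nat.card G * (Nat.card Q - 1) :=
  H9.ncard_conj_selfcent h

theorem mem_normalizer (h : SC Q) {n y : G} (hy : y ∈ Q) (hy1 : y ≠ 1) (hn : n * y * n⁻¹ ∈ Q) :
    n ∈ normalizer (Q : Set G) :=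
  H9.mem_normalizer_of_selfcent h hy hy1 hn

end SC

/-- the number of involutions inverting `x`, when `C(x)` is inverted by one of them -/
theorem ncard_inverting [Finite G] {x s : G} (hs : orderOf s = 2) (hsx : s * x * s⁻¹ = x⁻¹)
    (hinv : ∀ a ∈ centralizer ({x} : Set G), s * a * s⁻¹ = a⁻¹)
    (hodd : Odd (Nat.card (centralizer ({x} : Set G)))) :
    {u | orderOf u = 2 ∧ u * x * u⁻¹ = x⁻¹}.ncard = Nat.card (centralizer ({x} : Set G)) := by
  have hs2 := H4.mul_self_of_orderOf_two hs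
  have hs' := H4.inv_eq_of_mul_self hs2
  have : {u | orderOf u = 2 ∧ u * x * u⁻¹ = x⁻¹} =
      (fun a => s * a) '' (centralizer ({x} : Set G) : Set G) := by
    ext u
    constructor
    · rintro ⟨-, hu⟩
      refine ⟨s * u, mem_cen.mpr ?_, by simp only; rw [← mul_assoc, hs2, one_mul]⟩
      have h1 : s * x⁻¹ * s⁻¹ = x := by rw [← conj_inv, hsx, inv_inv]
      have : s * u * x * (s * u)⁻¹ = x := by
        have e : s * u * x * (s * u)⁻¹ = s * (u * x * u⁻¹) * s⁻¹ := by group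
        rw [e, hu, h1]
      exact mul_inv_eq_iff_eq_mul.mp this
    · rintro ⟨a, ha, rfl⟩
      have hax := mem_cen.mp ha
      refine ⟨H4.orderOf_eq_two_of ?_ ?_, ?_⟩
      · have e : s * a * (s * a) = (s * a * s⁻¹) * a := by rw [hs']; group
        simp only
        rw [e, hinv a ha]; simp
      · intro h1
        have h2 : a = s := by
          have : a = s * (s * a) := by rw [← mul_assoc, hs2, one_mul]
          simp only at h1
          rw [this, h1, mul_one]
        have := orderOf_dvd_natCard (⟨a, ha⟩ : centralizer ({x} : Set G))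
        rw [← orderOf_coe, coe_mk, h2, hs] at this
        exact (Nat.not_even_iff_odd.mpr hodd) (even_iff_two_dvd.mpr this)
      · have e : s * a * x * (s * a)⁻¹ = s * (a * x * a⁻¹) * s⁻¹ := by group
        simp only
        rw [e, hax, mul_inv_cancel_right, hsx]
  rw [this, ncard_image_mul_left]

end Cfsg.Agent.H7.CA
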