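import Cfsg.Agent.H7.CA1
import Cfsg.Agent.H6.PSLEven
import Cfsg.Agent.L0.Char4

set_option autoImplicit false

/-! Simple groups with an involution whose centralizer is self-centralizing abelian and at most
three centralizer orders: `PSL(2, 2^m)`. -/

namespace Cfsg.Agent.H7.CA

open Subgroup H8

theorem arith1 {i x y : ℤ} (hi : 3 ≤ i) (hx : 0 < x) (h1 : 2 * (i - 1) * (x * y) < i * (x + y))
    (hxy : x ≤ y) : x = 1 ∧ (y = 1 ∨ (y = 2 ∧ i = 3)) := by
  have hx1 : x = 1 := by
    by_contra h2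
    have h3 : 2 ≤ x := by omega
    have : x + y ≤ x * y := by nlinarith
    nlinarith
  subst hx1
  refine ⟨rfl, ?_⟩
  by_cases hy1 : y = 1
  · exact Or.inl hy1
  have : y = 2 := by
    by_contra h2
    have : 3 ≤ y := by omega
    nlinarith
  subst this
  exact Or.inr ⟨rfl, by omega⟩

theorem arith2 {i a b : ℤ} (hi : 3 ≤ i) (hia : i ∣ a) (hb : Odd b) (ha1 : 1 < a) (hb1 : 1 < b)
    (E : (i + 1) * (a + b) = 2 * a * b + 2) : a = i ∧ b = i + 2 := by
  obtain ⟨a', rfl⟩ := hia
  have : i ∣ b - 2 := ⟨2 * a' * b - (i + 1) * a' - b, by linarith⟩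
  obtain ⟨c, hc⟩ := this
  obtain rfl : b = 2 + i * c := by linarith
  have ha' : 0 < a' := by
    by_contra h1
    nlinarith
  have hc0 : 0 ≤ c := by
    by_contra h1
    nlinarith
  have hc1 : c ≠ 0 := by
    rintro rfl
    rw [mul_zero, add_zero] at hb
    exact absurd hb (by decide)
  have hc2 : 1 ≤ c := by omega
  have E2 : i * (2 * a' * c - a' - c) = c + 2 - 3 * a' := by
    apply mul_left_cancel₀ (by omega : i ≠ 0); linarith
  have h4 : 0 ≤ 2 * a' * c - a' - c := by nlinarith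
  have h5 : 6 * a' * c ≤ 4 * c + 2 := by nlinarith
  have ha1' : a' = 1 := by
    by_contra h1
    have : 2 ≤ a' := by omega
    nlinarith
  subst ha1'
  have : c = 1 := by omega
  subst this
  exact ⟨by ring, by ring⟩

theorem arith3 {a b r s : ℤ} (hab : IsCoprime a b) (ha : Odd a) (hb : Odd b) (h3 : 3 ∣ a)
    (ha1 : 1 < a) (hb1 : 1 < b) (hrs : (r = 7 ∧ s = 5) ∨ (r = 5 ∧ s = 7))
    (E : (a - r) * (b - s) = 32) : False := by
  have h4 : ¬ 3 ∣ b := fun hy => by
    have := hab.isUnit_of_dvd' h3 hy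
    rw [Int.isUnit_iff] at this
    omega
  obtain ⟨a₀, ha₀⟩ := ha
  obtain ⟨b₀, hb₀⟩ := hb
  clear hab
  rcases hrs with ⟨rfl, rfl⟩ | ⟨rfl, rfl⟩
  · have h5 : a ≤ 39 := by
      by_contra h5
      rcases le_or_gt b 5 with h6 | h6 <;> nlinarith
    interval_cases a <;> omega
  · have h5 : a ≤ 37 := by
      by_contra h5
      rcases le_or_gt b 7 with h6 | h6 <;> nlinarith
    interval_cases a <;> omega

theorem arith4 {i a b u v : ℤ} (hi : 3 ≤ i) (ha1 : 1 < a) (hb1 : 1 < b) (hu : 0 < u) (hv : 0 < v)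
    (E : (i - 1) * a * b * (2 * u) * (2 * v) =
      (a - 1) * (i * b - 1) * (2 * v) + (b - 1) * (i * a - 1) * (2 * u)) :
    2 * (i - 1) * (u * v) < i * (u + v) := by
  have h1 : (a - 1) * (i * b - 1) < a * (i * b) := by nlinarith
  have h2 : (b - 1) * (i * a - 1) < b * (i * a) := by nlinarith
  have h1' := mul_lt_mul_of_pos_right h1 hv
  have h2' := mul_lt_mul_of_pos_right h2 hu
  have h3 : a * b * (2 * (i - 1) * (u * v)) < a * b * (i * (u + v)) := by linarith
  exact lt_of_mul_lt_mul_left h3 (by positivity)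

theorem arith {h i a b u v cH cA cB : ℤ} (hi : 3 ≤ i) (hia : i ∣ a)
    (hab : IsCoprime a b) (ha : Odd a) (hb : Odd b) (ha1 : 1 < a) (hb1 : 1 < b) (hu : 0 < u)
    (hv : 0 < v) (hh : 0 < h)
    (eH : cH * (h * i) = a * b * h * (h - 1)) (eA : cA * (a * (2 * u)) = a * b * h * (a - 1))
    (eB : cB * (b * (2 * v)) = a * b * h * (b - 1)) (cls : 1 + cH + cA + cB = a * b * h)
    (pair : a * b * (a * b - i) = a * cA + b * cB) : h = i + 1 ∧ a = i ∧ b = i + 2 := by
  have eH' : cH * i = a * b * (h - 1) := by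
    apply mul_left_cancel₀ hh.ne'; linear_combination eH
  have eA' : cA * (2 * u) = b * h * (a - 1) := by
    apply mul_left_cancel₀ (by omega : a ≠ 0); linear_combination eA
  have eB' : cB * (2 * v) = a * h * (b - 1) := by
    apply mul_left_cancel₀ (by omega : b ≠ 0); linear_combination eB
  have P : (a * b - i) * (2 * u) * (2 * v) = h * ((a - 1) * (2 * v) + (b - 1) * (2 * u)) := by
    apply mul_left_cancel₀ (by positivity : a * b ≠ 0)
    linear_combination (2 * u) * (2 * v) * pair + a * (2 * v) * eA' + b * (2 * u) * eB'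
  have E : (i - 1) * a * b * (2 * u) * (2 * v) =
      (a - 1) * (i * b - 1) * (2 * v) + (b - 1) * (i * a - 1) * (2 * u) := by
    apply mul_left_cancel₀ hh.ne'
    linear_combination (-(i * (2 * u) * (2 * v))) * cls - P + (2 * u) * (2 * v) * eH' +
      i * (2 * v) * eA' + i * (2 * u) * eB'
  have hlt := arith4 hi ha1 hb1 hu hv E
  clear eH eA eB cls pair eH' eA' eB'
  have main : u = 1 → v = 1 → h = i + 1 ∧ a = i ∧ b = i + 2 := by
    rintro rfl rfl
    have E' : (i + 1) * (a + b) = 2 * a * b + 2 := by linarith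
    refine ⟨?_, arith2 hi hia hb ha1 hb1 E'⟩
    apply mul_right_cancel₀ (by omega : a + b - 2 ≠ 0); linarith
  rcases le_total u v with huv | huv
  · obtain ⟨rfl, rfl | ⟨rfl, rfl⟩⟩ := arith1 hi hu hlt huv
    · exact main rfl rfl
    · exact (arith3 hab ha hb hia ha1 hb1 (Or.inl ⟨rfl, rfl⟩) (by linarith)).elim
  · obtain ⟨rfl, rfl | ⟨rfl, rfl⟩⟩ := arith1 hi hv (by linarith) huv
    · exact main rfl rfl
    · exact (arith3 hab ha hb hia ha1 hb1 (Or.inr ⟨rfl, rfl⟩) (by linarith)).elim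

end Cfsg.Agent.H7.CA
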