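import Cfsg.Agent.H7.CA2

set_option autoImplicit false

/-! Simple groups with an involution whose centralizer is self-centralizing abelian. -/

namespace Cfsg.Agent.H7.CA

open Subgroup H8

variable {G : Type*} [Group G] [Finite G]

omit [Finite G] in
theorem orderOf_conj' (g x : G) : orderOf (g * x * g⁻¹) = orderOf x := (MulAut.conj g).orderOf_eq x

section
variable {t : G} {H : Subgroup G} (ht : orderOf t = 2) (htH : t ∈ H) (hH : SC H)
include ht htH hH

omit [Finite G] in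
theorem cen_eq : centralizer ({t} : Set G) = H := hH t htH (H4.ne_one_of_orderOf_two ht)

theorem odd_mul {s : G} (hs : orderOf s = 2) (hsH : s ∉ H) : Odd (orderOf (t * s)) := by
  by_contra h
  obtain ⟨z, -, hz, h1, h2⟩ := H4.exists_central_involution_of_even_orderOf_mul
    (H4.mul_self_of_orderOf_two ht) (H4.mul_self_of_orderOf_two hs) (isOfFinOrder_of_finite _)
    (Nat.not_odd_iff_even.mp h)
  exact hsH (hH.mem (hH.mem htH (H4.ne_one_of_orderOf_two ht) h1) (H4.ne_one_of_orderOf_two hz)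
    h2.symm)

theorem mem_of_mem_normalizer {s : G} (hs : orderOf s = 2) (hsN : s ∈ normalizer (H : Set G)) :
    s ∈ H := by
  by_contra h
  have h1 := odd_mul ht htH hH hs h
  have h2 : t * s * (t * s) ∈ H := by
    have : t * s * (t * s) = t * (s * t * s⁻¹) := by
      rw [H4.inv_eq_of_mul_self (H4.mul_self_of_orderOf_two hs)]; group
    rw [this]
    exact H.mul_mem htH ((mem_normalizer_iff.mp hsN t).mp htH)
  have h3 := H9.mem_of_sq_mem_of_odd (fun h => (Nat.not_even_iff_odd.mpr h1)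
    (even_iff_two_dvd.mpr h)) h2
  exact h ((H.mul_mem_cancel_left htH).mp h3)

variable [IsSimpleGroup G] (hG : ¬ IsMulCommutative G)
include hG

omit [Finite G] in
theorem normalizer_ne_top : normalizer (H : Set G) ≠ ⊤ := by
  refine H6.normalizer_ne_top_of_simple (fun h => ?_) ?_
  · rw [h] at htH; exact H4.ne_one_of_orderOf_two ht htH
  · rw [← cen_eq ht htH hH]
    exact H6.centralizer_ne_top_of_simple hG (H4.ne_one_of_orderOf_two ht)

theorem exists_inv_not_mem : ∃ s, orderOf s = 2 ∧ s ∉ H := by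
  obtain ⟨g, -, hg⟩ := SetLike.exists_of_lt (lt_top_iff_ne_top.mpr (normalizer_ne_top ht htH hH hG))
  exact ⟨g * t * g⁻¹, by rw [orderOf_conj', ht],
    fun h => hg (hH.mem_normalizer htH (H4.ne_one_of_orderOf_two ht) h)⟩

theorem isConj_inv {u : G} (hu : orderOf u = 2) : IsConj t u := by
  have key : ∀ {v s : G}, orderOf v = 2 → v ∈ H → orderOf s = 2 → s ∉ H → IsConj v s :=
    fun hv hvH hs hsH => H4.isConj_of_odd_orderOf_mul (H4.mul_self_of_orderOf_two hv)
      (H4.mul_self_of_orderOf_two hs) (odd_mul hv hvH hH hs hsH)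
  by_cases huH : u ∈ H
  · obtain ⟨s, hs, hsH⟩ := exists_inv_not_mem ht htH hH hG
    exact (key ht htH hs hsH).trans (key hu huH hs hsH).symm
  · exact key ht htH hu huH

theorem cl_eq : H6.cl t = {u | orderOf u = 2} := by
  ext u
  exact ⟨fun h => (H6.orderOf_eq_of_isConj h).symm.trans ht, fun h => isConj_inv ht htH hH hG h⟩

theorem ncard_inv : {u : G | orderOf u = 2}.ncard * Nat.card H = Nat.card G := by
  rw [← cl_eq ht htH hH hG, ← cen_eq ht htH hH, H6.ncard_cl_mul_card_centralizer]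

theorem ncard_inv_mem : ({u : G | orderOf u = 2} ∩ H).ncard * Nat.card H =
    Nat.card (normalizer (H : Set G)) := by
  rw [← cl_eq ht htH hH hG, ← H6.ncard_subgroup (normalizer (H : Set G))]
  conv_lhs => rw [← cen_eq ht htH hH]
  rw [cen_eq ht htH hH, ← cen_eq ht htH hH, ← H6.ncard_conj_mem, cen_eq ht htH hH]
  congr 1
  ext g
  exact ⟨fun h => hH.mem_normalizer htH (H4.ne_one_of_orderOf_two ht) h,
    fun h => (mem_normalizer_iff.mp h t).mp htH⟩

theorem in_of_inv {u : G} (hu : orderOf u = 2) : In H u :=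
  (In.of_mem htH (H4.ne_one_of_orderOf_two ht)).of_isConj (isConj_inv ht htH hH hG hu)

theorem exists_cen_eq {u : G} (hu : orderOf u = 2) : ∃ g, centralizer ({u} : Set G) = cj g H := by
  obtain ⟨g, hg⟩ := (in_of_inv ht htH hH hG hu).exists_cj
  exact ⟨g, hH.cj g u hg (H4.ne_one_of_orderOf_two hu)⟩

/-- every coset of `H` outside `N(H)` contains an involution -/
theorem exists_inv_coset {g : G} (hg : g ∉ normalizer (H : Set G)) :
    ∃ h ∈ H, orderOf (h * g) = 2 := by
  set N := normalizer (H : Set G) with hN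
  set I : Set G := {u : G | orderOf u = 2} with hI
  have hIN : I ∩ N = I ∩ H := by
    ext u
    exact ⟨fun h => ⟨h.1, mem_of_mem_normalizer ht htH hH h.1 h.2⟩,
      fun h => ⟨h.1, le_normalizer h.2⟩⟩
  let f : G × G → G := fun p => p.1 * p.2
  have hinj : Set.InjOn f ((H : Set G) ×ˢ (I \ N)) := by
    rintro ⟨h, s⟩ ⟨hh, hs, hsN⟩ ⟨h', s'⟩ ⟨hh', hs', -⟩ he
    simp only [f] at he hh hs hsN hh' hs'
    have hs2 := H4.mul_self_of_orderOf_two hs
    have hs2' := H4.mul_self_of_orderOf_two hs'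
    have e1 : s' * s = h'⁻¹ * h := by
      have : s' = h'⁻¹ * (h * s) := by rw [he]; group
      rw [this, mul_assoc, mul_assoc, hs2, mul_one]
    have hk : s' * s ∈ H := e1 ▸ H.mul_mem (H.inv_mem hh') hh
    have e2 : s' * s = 1 := by
      by_contra h1
      refine hsN (hH.mem_normalizer hk h1 ?_)
      rw [H4.right_conj_mul_eq_inv hs2' hs2]
      exact H.inv_mem hk
    have e3 : s' = s := by
      rw [← H4.inv_eq_of_mul_self hs2]; exact eq_inv_of_mul_eq_one_left e2
    subst e3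
    rw [mul_right_cancel he]
  have hsub : f '' ((H : Set G) ×ˢ (I \ N)) ⊆ (N : Set G)ᶜ := by
    rintro _ ⟨⟨h, s⟩, ⟨hh, -, hsN⟩, rfl⟩ h1
    exact hsN ((N.mul_mem_cancel_left (le_normalizer hh)).mp h1)
  have hcard : ((N : Set G)ᶜ).ncard ≤ (f '' ((H : Set G) ×ˢ (I \ N))).ncard := by
    rw [hinj.ncard_image, Set.ncard_prod, H6.ncard_subgroup]
    have h1 := Set.ncard_add_ncard_compl (N : Set G)
    have h2 := Set.ncard_inter_add_ncard_sdiff_eq_ncard I N
    have h3 := ncard_inv ht htH hH hG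
    have h4 := ncard_inv_mem ht htH hH hG
    rw [H6.ncard_subgroup] at h1
    rw [hIN] at h2
    rw [← hI] at h3 h4
    rw [← hN] at h4
    rw [← h2, add_mul] at h3
    rw [mul_comm]
    omega
  have := Set.eq_of_subset_of_ncard_le hsub hcard
  obtain ⟨⟨h, s⟩, ⟨hh, hs, -⟩, he⟩ := this.ge hg
  refine ⟨h⁻¹, H.inv_mem hh, ?_⟩
  simp only [f] at he
  rw [← he, inv_mul_cancel_left]
  exact hs

omit [IsSimpleGroup G] hG in
theorem odd_cen {x : G} (hx : x ≠ 1) (hn : ¬ In H x) :
    Odd (Nat.card (centralizer ({x} : Set G))) := by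
  have h1 := hH.coprime_cen hx hn
  have h2 : 2 ∣ Nat.card H := ht ▸ H.orderOf_dvd_natCard htH
  exact Nat.coprime_two_left.mp (Nat.Coprime.coprime_dvd_left h2 h1)

theorem inverts_cen {x s : G} (hx : x ≠ 1) (hn : ¬ In H x) (hs : orderOf s = 2)
    (hsx : s * x * s⁻¹ = x⁻¹) : ∀ a ∈ centralizer ({x} : Set G), s * a * s⁻¹ = a⁻¹ := by
  intro a ha
  refine H6.inverts_of_fpf' ?_ (H4.mul_self_of_orderOf_two hs) (fun g hg hc => ?_) ha
  · rw [← cj_eq_self_iff, cj_centralizer_singleton, hsx]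
    ext y
    rw [mem_cen, mem_cen]
    exact ⟨fun h => (Commute.inv_right_iff.mp h), fun h => Commute.inv_right_iff.mpr h⟩
  · by_contra hg1
    exact hn (hH.in_of_comm (hH.in_of_comm (in_of_inv ht htH hH hG hs) hg1 hc) hx
      (mem_cen.mp hg).symm)

theorem sc_cen {x s : G} (hx : x ≠ 1) (hn : ¬ In H x) (hs : orderOf s = 2)
    (hsx : s * x * s⁻¹ = x⁻¹) : SC (centralizer ({x} : Set G)) := by
  intro a ha ha1
  have h1 := inverts_cen ht htH hH hG hx hn hs hsx
  have han : ¬ In H a := fun h => hn (hH.in_of_comm h hx (mem_cen.mp ha).symm)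
  have h2 := inverts_cen ht htH hH hG ha1 han hs (h1 a ha)
  apply le_antisymm
  · intro y hy
    exact mem_cen.mpr (H9.comm_of_inverted h2 y hy x (mem_cen.mpr (mem_cen.mp ha).symm))
  · intro y hy
    exact mem_cen.mpr (H9.comm_of_inverted h1 y hy a ha)

theorem ncard_inverted {s : G} (hs : orderOf s = 2) :
    {x | (x ≠ 1 ∧ ¬ In H x) ∧ s * x * s⁻¹ = x⁻¹}.ncard =
      {u : G | orderOf u = 2}.ncard - ({u : G | orderOf u = 2} ∩ H).ncard := by
  obtain ⟨g, hg⟩ := exists_cen_eq ht htH hH hG hs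
  have hs2 := H4.mul_self_of_orderOf_two hs
  have hs' := H4.inv_eq_of_mul_self hs2
  have hsg : s ∈ cj g H := hg ▸ mem_cen.mpr rfl
  have e : {x | (x ≠ 1 ∧ ¬ In H x) ∧ s * x * s⁻¹ = x⁻¹} =
      (fun u => s * u) '' ({u : G | orderOf u = 2} \ cj g H) := by
    ext x
    constructor
    · rintro ⟨⟨hx1, hx⟩, hsx⟩
      refine ⟨s * x, ⟨H4.orderOf_eq_two_of ?_ ?_, fun h => ?_⟩, by
        simp only; rw [← mul_assoc, hs2, one_mul]⟩
      · have e : s * x * (s * x) = (s * x * s⁻¹) * x := by rw [hs']; group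
        rw [e, hsx]; simp
      · intro h1
        have : x = s := by rw [← hs']; exact eq_inv_of_mul_eq_one_right h1
        exact hx (this ▸ in_of_inv ht htH hH hG hs)
      · exact hx (In.of_mem_cj (((cj g H).mul_mem_cancel_left hsg).mp h) hx1)
    · rintro ⟨u, ⟨hu, huH⟩, rfl⟩
      have hu2 := H4.mul_self_of_orderOf_two hu
      have hinv := H4.left_conj_mul_eq_inv hs2 hu2
      have h1 : s * u ≠ 1 := fun h => huH (by
        have : u = s := by rw [← hs']; exact eq_inv_of_mul_eq_one_right h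
        exact this ▸ hsg)
      refine ⟨⟨h1, fun h => ?_⟩, hinv⟩
      obtain ⟨k, hk⟩ := h.exists_cj
      have h2 : s ∈ normalizer ((cj k H : Subgroup G) : Set G) :=
        (hH.cj k).mem_normalizer hk h1 (hinv ▸ (cj k H).inv_mem hk)
      have h3 : s ∈ cj k H := mem_of_mem_normalizer (t := k * t * k⁻¹)
        (by rw [orderOf_conj', ht]) (conj_mem_cj k htH) (hH.cj k) hs h2
      have h4 : u ∈ cj k H := ((cj k H).mul_mem_cancel_left h3).mp hk
      exact huH (hg ▸ mem_cen.mpr ((hH.cj k).comm u h4 s h3))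
  rw [e, Set.ncard_image_of_injective _ (mul_right_injective s)]
  have h1 := Set.ncard_inter_add_ncard_sdiff_eq_ncard {u : G | orderOf u = 2} (cj g H)
  have h2 := ncard_inv_mem hs hsg (hH.cj g) hG
  rw [← cj_normalizer, card_cj, card_cj, ← ncard_inv_mem ht htH hH hG] at h2
  have h3 := Nat.eq_of_mul_eq_mul_right Nat.card_pos h2
  omega

theorem pairs {S T : Set G} (hST : Disjoint S T) (hU : S ∪ T = {x | x ≠ 1 ∧ ¬ In H x}) {α β : ℕ}
    (hα : ∀ x ∈ S, {u | orderOf u = 2 ∧ u * x * u⁻¹ = x⁻¹}.ncard = α)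
    (hβ : ∀ x ∈ T, {u | orderOf u = 2 ∧ u * x * u⁻¹ = x⁻¹}.ncard = β) :
    {u : G | orderOf u = 2}.ncard *
      ({u : G | orderOf u = 2}.ncard - ({u : G | orderOf u = 2} ∩ H).ncard) =
      S.ncard * α + T.ncard * β := by
  let P : Set G → Set (G × G) := fun X => {p | orderOf p.1 = 2 ∧ p.2 ∈ X ∧ p.1 * p.2 * p.1⁻¹ = p.2⁻¹}
  have h1 : ∀ (X : Set G) (γ : ℕ), (∀ x ∈ X, {u | orderOf u = 2 ∧ u * x * u⁻¹ = x⁻¹}.ncard = γ) →
      (P X).ncard = X.ncard * γ := by
    intro X γ h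
    refine H6.ncard_eq_mul_of_fibers Prod.snd _ _ (fun p hp => hp.2.1) fun x hx => ?_
    rw [← h x hx, ← Set.ncard_image_of_injective {u | orderOf u = 2 ∧ u * x * u⁻¹ = x⁻¹}
      (Prod.mk_left_injective x)]
    congr 1
    ext ⟨a, b⟩
    constructor
    · rintro ⟨⟨h1, -, h2⟩, rfl⟩
      exact ⟨a, ⟨h1, h2⟩, rfl⟩
    · rintro ⟨u, ⟨h1, h2⟩, he⟩
      obtain ⟨rfl, rfl⟩ := Prod.ext_iff.mp he
      exact ⟨⟨h1, hx, h2⟩, rfl⟩
  have h2 : P (S ∪ T) = P S ∪ P T := by
    ext p
    simp only [P, Set.mem_ofPred_eq, Set.mem_union]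
    tauto
  rw [← h1 S α hα, ← h1 T β hβ, ← Set.ncard_union_eq (Set.disjoint_left.mpr fun p hp hq =>
    Set.disjoint_left.mp hST hp.2.1 hq.2.1), ← h2, hU]
  symm
  refine H6.ncard_eq_mul_of_fibers Prod.fst _ _ (fun p hp => hp.1) fun s hs => ?_
  rw [← ncard_inverted ht htH hH hG hs, ← Set.ncard_image_of_injective
    {x | (x ≠ 1 ∧ ¬ In H x) ∧ s * x * s⁻¹ = x⁻¹} (Prod.mk_right_injective s)]
  congr 1
  ext ⟨a, b⟩
  constructor
  · rintro ⟨⟨-, h1, h2⟩, rfl⟩
    exact ⟨b, ⟨h1, h2⟩, rfl⟩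
  · rintro ⟨u, ⟨h1, h2⟩, he⟩
    obtain ⟨rfl, rfl⟩ := Prod.ext_iff.mp he
    exact ⟨⟨hs, h1, h2⟩, rfl⟩

theorem odd_ncard_inv_mem : Odd ({u : G | orderOf u = 2} ∩ H).ncard := by
  have h1 := ncard_inv_mem ht htH hH hG
  have h2 := hH.not_dvd_index Nat.prime_two (ht ▸ H.orderOf_dvd_natCard htH)
  rw [← L0.relIndex_mul_card_of_le (le_normalizer (H := H))] at h1
  rw [Nat.eq_of_mul_eq_mul_right Nat.card_pos h1, ← Nat.not_even_iff_odd, even_iff_two_dvd]
  exact fun h => h2 (h.trans (relIndex_dvd_index_of_le le_normalizer))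

theorem three_le_ncard_inv_mem : 3 ≤ ({u : G | orderOf u = 2} ∩ H).ncard := by
  obtain ⟨k, hk⟩ := odd_ncard_inv_mem ht htH hH hG
  by_contra h
  have h1 := ncard_inv_mem ht htH hH hG
  rw [show ({u : G | orderOf u = 2} ∩ H).ncard = 1 by omega, one_mul] at h1
  have h2 : H = normalizer (H : Set G) := eq_of_le_of_card_ge le_normalizer h1.ge
  obtain ⟨K, hK, -, hc⟩ := L0.exists_frobenius_kernel (H := H) fun g hg a ha hga => by
    by_contra ha1
    exact hg (h2 ▸ hH.mem_normalizer ha ha1 hga)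
  rcases hK.eq_bot_or_eq_top with rfl | rfl
  · exact normalizer_ne_top ht htH hH hG (h2 ▸ isComplement'_bot_left.mp hc)
  · have := isComplement'_top_left.mp hc
    rw [this] at htH
    exact H4.ne_one_of_orderOf_two ht htH

/-- an element inverted by an involution whose centralizer has order divisible by `|N(H) : H|` -/
theorem exists_inverted : ∃ k s : G, k ≠ 1 ∧ ¬ In H k ∧ orderOf s = 2 ∧ s * k * s⁻¹ = k⁻¹ ∧
    ({u : G | orderOf u = 2} ∩ H).ncard ∣ Nat.card (centralizer ({k} : Set G)) := by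
  obtain ⟨s, hs, hsH⟩ := exists_inv_not_mem ht htH hH hG
  set N := normalizer (H : Set G) with hN
  have hsN : s ∉ N := fun h => hsH (mem_of_mem_normalizer ht htH hH hs h)
  have hs2 := H4.mul_self_of_orderOf_two hs
  have hs' := H4.inv_eq_of_mul_self hs2
  have hi := ncard_inv_mem ht htH hH hG
  rw [← hN, ← L0.relIndex_mul_card_of_le (le_normalizer (H := H))] at hi
  replace hi := Nat.eq_of_mul_eq_mul_right Nat.card_pos hi
  have hD : ∀ n ∈ N, ∃ h ∈ H, s * (h * n) * s⁻¹ = (h * n)⁻¹ := by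
    intro n hn
    obtain ⟨h, hh, h2⟩ := exists_inv_coset ht htH hH hG (g := n * s)
      fun h => hsN ((N.mul_mem_cancel_left hn).mp h)
    refine ⟨h, hh, ?_⟩
    have h3 := H4.mul_self_of_orderOf_two h2
    rw [hs', eq_inv_iff_mul_eq_one]
    have : s * (h * n) * s * (h * n) = s * (h * (n * s) * (h * (n * s))) * s⁻¹ := by
      rw [hs']
      calc s * (h * n) * s * (h * n) = s * (h * n) * s * (h * n) * (s * s) := by rw [hs2, mul_one]
        _ = _ := by group
    rw [this, h3]; simp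
  set E : Subgroup G := N ⊓ cj s N with hE
  have hEH : ∀ k ∈ E, k ∈ H → k = 1 := by
    intro k hk hkH
    by_contra hk1
    have h1 : zpowers k ≤ cj s H := by
      refine L0.le_of_card_coprime_relIndex (K := normalizer ((cj s H : Subgroup G) : Set G))
        (zpowers_le.mpr (by rw [← cj_normalizer]; exact hk.2)) normal_in_normalizer ?_
      refine Nat.Coprime.coprime_dvd_right (relIndex_dvd_index_of_le le_normalizer) ?_
      refine Nat.Coprime.coprime_dvd_left ?_ (hH.cj s).coprime_index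
      rw [card_cj]
      exact card_dvd_of_le (zpowers_le.mpr hkH)
    have h2 : cj s H = H := by
      rw [← (hH.cj s) k (h1 (mem_zpowers k)) hk1, hH k hkH hk1]
    exact hsN (cj_eq_self_iff.mp h2)
  have hDE : ∀ k ∈ N, s * k * s⁻¹ = k⁻¹ → k ∈ E := fun k hk h =>
    ⟨hk, mem_cj.mpr (by rw [hs', ← inv_mem_iff]; rw [hs'] at h; rw [h, inv_inv]; exact hk)⟩
  have hEinv : ∀ k ∈ E, s * k * s⁻¹ = k⁻¹ := by
    intro k hk
    obtain ⟨h, hh, h2⟩ := hD k hk.1
    have h3 := hDE _ (N.mul_mem (le_normalizer hh) hk.1) h2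
    rw [hEH h ((E.mul_mem_cancel_right hk).mp h3) hh, one_mul] at h2
    exact h2
  have hEcard : Nat.card E = H.relIndex N := by
    have h1 : E ⊔ H = N := by
      refine le_antisymm (sup_le inf_le_left le_normalizer) fun n hn => ?_
      obtain ⟨h, hh, h2⟩ := hD n hn
      have h3 := hDE _ (N.mul_mem (le_normalizer hh) hn) h2
      have : n = h⁻¹ * (h * n) := by group
      rw [this]
      exact mul_mem (mem_sup_right (H.inv_mem hh)) (mem_sup_left h3)
    have h2 : E ⊓ H = ⊥ := eq_bot_iff.mpr fun k hk => mem_bot.mpr (hEH k hk.1 hk.2)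
    have h3 := L0.card_sup_mul_card_inf_of_le_normalizer (H := E) (K := H) inf_le_left
    rw [h1, h2, card_bot, mul_one, ← L0.relIndex_mul_card_of_le (le_normalizer (H := H))] at h3
    exact (Nat.eq_of_mul_eq_mul_right Nat.card_pos h3).symm
  have h3 := three_le_ncard_inv_mem ht htH hH hG
  have hE1 : E ≠ ⊥ := fun h => by
    rw [h, card_bot, ← hi] at hEcard; omega
  obtain ⟨⟨k, hk⟩, hk1⟩ := ne_bot_iff_exists_ne_one.mp hE1
  have hk1' : k ≠ 1 := fun h => hk1 (Subtype.ext h)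
  refine ⟨k, s, hk1', fun hin => ?_, hs, hEinv k hk, ?_⟩
  · have h1 : orderOf k ∣ Nat.card H := by
      obtain ⟨y, hy, -, hc⟩ := hin
      rw [← H6.orderOf_eq_of_isConj hc]
      exact H.orderOf_dvd_natCard hy
    have h2 : orderOf k ∣ H.index :=
      (E.orderOf_dvd_natCard hk).trans (hEcard ▸ relIndex_dvd_index_of_le le_normalizer)
    exact hk1' (orderOf_eq_one_iff.mp (Nat.eq_one_of_dvd_coprimes hH.coprime_index h1 h2))
  · rw [hi, ← hEcard]
    exact card_dvd_of_le fun a ha => mem_cen.mpr (H9.comm_of_inverted hEinv a ha k hk)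

end

end Cfsg.Agent.H7.CA
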