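import Cfsg.Agent.H7.CA3
import Mathlib.FieldTheory.Finite.GaloisField

set_option autoImplicit false

/-! Simple groups with an involution whose centralizer is self-centralizing abelian and at most
three centralizer orders are `PSL(2, 2^m)`. -/

namespace Cfsg.Agent.H7.CA

open Subgroup H8

variable {G : Type*} [Group G] [Finite G]

/-- order of the centralizer -/
noncomputable abbrev co (x : G) : ℕ := Nat.card (centralizer ({x} : Set G))

/-- at most three centralizer orders -/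
def Three (G : Type*) [Group G] : Prop :=
  ∀ x y z w : G, x ≠ 1 → y ≠ 1 → z ≠ 1 → w ≠ 1 → co x ≠ co y → co x ≠ co z → co y ≠ co z →
    co w = co x ∨ co w = co y ∨ co w = co z

theorem card_normalizer_of_inverts {A : Subgroup G} {s : G} (hs : orderOf s = 2)
    (h : ∀ a ∈ A, s * a * s⁻¹ = a⁻¹) (hA : Odd (Nat.card A)) :
    ∃ u, 0 < u ∧ Nat.card (normalizer (A : Set G)) = Nat.card A * (2 * u) := by
  have h1 : s ∈ normalizer (A : Set G) :=
    mem_normalizer_fintype fun a ha => by rw [h a ha]; exact A.inv_mem ha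
  have h2 : 2 ∣ Nat.card (normalizer (A : Set G)) := hs ▸ orderOf_dvd_natCard _ h1
  rw [← L0.relIndex_mul_card_of_le (le_normalizer (H := A))] at h2 ⊢
  obtain ⟨u, hu⟩ := (Nat.coprime_two_left.mpr hA).dvd_of_dvd_mul_right h2
  refine ⟨u, Nat.pos_of_ne_zero fun h0 => ?_, by rw [hu, mul_comm]⟩
  rw [h0, mul_zero] at hu
  exact index_ne_zero_of_finite hu

variable {t : G} {H : Subgroup G} (ht : orderOf t = 2) (htH : t ∈ H) (hH : SC H)
  [IsSimpleGroup G] (hG : ¬ IsMulCommutative G)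
include ht htH hH hG

theorem ncard_of_in {k s : G} (hk1 : k ≠ 1) (hk : ¬ In H k) (hs : orderOf s = 2)
    (hsk : s * k * s⁻¹ = k⁻¹) {x : G} (hx : In (centralizer ({k} : Set G)) x) :
    ¬ In H x ∧ {u | orderOf u = 2 ∧ u * x * u⁻¹ = x⁻¹}.ncard = co k := by
  have hA := sc_cen ht htH hH hG hk1 hk hs hsk
  have hc := hA.card_cen hx
  have hxH : ¬ In H x := fun h => by
    have h1 := odd_cen ht htH hH hk1 hk
    rw [← hc, hH.card_cen h] at h1
    exact (Nat.not_even_iff_odd.mpr h1) (even_iff_two_dvd.mpr (ht ▸ H.orderOf_dvd_natCard htH))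
  refine ⟨hxH, ?_⟩
  have hx1 := hx.ne_one
  obtain ⟨y, hy, -, hyx⟩ := hx
  obtain ⟨g, rfl⟩ := isConj_iff.mp hyx
  have h1 : orderOf (g * s * g⁻¹) = 2 := by rw [orderOf_conj', hs]
  have h2 : g * s * g⁻¹ * (g * y * g⁻¹) * (g * s * g⁻¹)⁻¹ = (g * y * g⁻¹)⁻¹ := by
    have e : g * s * g⁻¹ * (g * y * g⁻¹) * (g * s * g⁻¹)⁻¹ = g * (s * y * s⁻¹) * g⁻¹ := by group
    rw [e, inverts_cen ht htH hH hG hk1 hk hs hsk y hy]; group
  rw [ncard_inverting h1 h2 (inverts_cen ht htH hH hG hx1 hxH h1 h2) (odd_cen ht htH hH hx1 hxH),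
    hc]

theorem card_eq_of_three (h3 : Three G) :
    Nat.card H = ({u : G | orderOf u = 2} ∩ H).ncard + 1 ∧
      Nat.card G = (Nat.card H + 1) * (Nat.card H * (Nat.card H - 1)) := by
  obtain ⟨k, s, hk1, hk, hs, hsk, hia⟩ := exists_inverted ht htH hH hG
  have ht1 := H4.ne_one_of_orderOf_two ht
  have hA := sc_cen ht htH hH hG hk1 hk hs hsk
  have hAo := odd_cen ht htH hH hk1 hk
  obtain ⟨u, hu, hNA⟩ := card_normalizer_of_inverts hs (inverts_cen ht htH hH hG hk1 hk hs hsk) hAo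
  have eA := hA.ncard_in
  have eH := hH.ncard_in
  have hn := ncard_inv ht htH hH hG
  have hi := ncard_inv_mem ht htH hH hG
  have hi3 := three_le_ncard_inv_mem ht htH hH hG
  have hS := fun x => ncard_of_in ht htH hH hG hk1 hk hs hsk (x := x)
  set A := centralizer ({k} : Set G) with hAdef
  have hA1 : A ≠ ⊥ := fun h => hk1 (mem_bot.mp (h ▸ (mem_cen.mpr rfl : k ∈ A)))
  have hH1 : H ≠ ⊥ := fun h => ht1 (mem_bot.mp (h ▸ htH))
  set n := {u : G | orderOf u = 2}.ncard with hndef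
  set i := ({u : G | orderOf u = 2} ∩ H).ncard with hidef
  let T : Set G := {x | x ≠ 1 ∧ ¬ In H x ∧ ¬ In A x}
  have hST : Disjoint {x | In A x} T := Set.disjoint_left.mpr fun x hx hx' => hx'.2.2 hx
  have hU : {x | In A x} ∪ T = {x | x ≠ 1 ∧ ¬ In H x} := by
    ext x
    constructor
    · rintro (h | h)
      · exact ⟨h.ne_one, (hS x h).1⟩
      · exact ⟨h.1, h.2.1⟩
    · intro h
      by_cases h' : In A x
      · exact Or.inl h'
      · exact Or.inr ⟨h.1, h.2, h'⟩
  have hin : i ∣ n := by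
    have := card_subgroup_dvd_card (normalizer (H : Set G))
    rw [← hi, ← hn] at this
    exact Nat.dvd_of_mul_dvd_mul_right Nat.card_pos this
  have hnidx : n = H.index := by
    rw [← H.index_mul_card] at hn
    exact Nat.eq_of_mul_eq_mul_right Nat.card_pos hn
  have hih : i.Coprime (Nat.card H) :=
    Nat.Coprime.coprime_dvd_left (hnidx ▸ hin) hH.coprime_index.symm
  have hn0 : 0 < n := hnidx ▸ Nat.pos_of_ne_zero index_ne_zero_of_finite
  have ha1 : 1 < Nat.card A := (one_lt_card_iff_ne_bot A).mpr hA1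
  by_cases hT : ∃ x ∈ T, ∃ v, orderOf v = 2 ∧ v * x * v⁻¹ = x⁻¹
  swap
  · exfalso
    have hp := pairs ht htH hH hG hST hU (α := co k) (β := 0) (fun x hx => (hS x hx).2)
      (fun x hx => by
        rw [Set.ncard_eq_zero, Set.eq_empty_iff_forall_notMem]
        exact fun v hv => hT ⟨x, hx, v, hv⟩)
    rw [← hndef, ← hidef, mul_zero, add_zero] at hp
    rw [hNA, ← hn, ← mul_assoc, ← hp, mul_assoc, mul_assoc] at eA
    have h1 := Nat.eq_of_mul_eq_mul_left hn0 eA
    have h2 : i ∣ Nat.card H * (Nat.card A - 1) :=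
      h1 ▸ Dvd.dvd.mul_right (Nat.dvd_sub hin dvd_rfl) _
    have h4 := Nat.dvd_sub hia (hih.dvd_of_dvd_mul_left h2)
    rw [show Nat.card A - (Nat.card A - 1) = 1 by omega] at h4
    have := Nat.le_of_dvd one_pos h4
    omega
  obtain ⟨x₀, ⟨hx1, hxH, hxA⟩, v, hv, hvx⟩ := hT
  have hB := sc_cen ht htH hH hG hx1 hxH hv hvx
  have hBo := odd_cen ht htH hH hx1 hxH
  obtain ⟨u', hu', hNB⟩ :=
    card_normalizer_of_inverts hv (inverts_cen ht htH hH hG hx1 hxH hv hvx) hBo
  have eB := hB.ncard_in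
  have hS' := fun x => ncard_of_in ht htH hH hG hx1 hxH hv hvx (x := x)
  have hHA := hH.coprime_cen hk1 hk
  have hHB := hH.coprime_cen hx1 hxH
  have hAB := hA.coprime_cen hx1 hxA
  set B := centralizer ({x₀} : Set G) with hBdef
  have hB1 : B ≠ ⊥ := fun h => hx1 (mem_bot.mp (h ▸ (mem_cen.mpr rfl : x₀ ∈ B)))
  have hb1 : 1 < Nat.card B := (one_lt_card_iff_ne_bot B).mpr hB1
  have hct : co t = Nat.card H := by rw [co, cen_eq ht htH hH]
  have hTB : T = {x | In B x} := by
    ext x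
    constructor
    · rintro ⟨h1, h2, h4⟩
      rcases h3 t k x₀ x ht1 hk1 hx1 h1 (fun h => hk (hH.in_of_card_eq hH1 hk1 (h.symm.trans hct)))
        (fun h => hxH (hH.in_of_card_eq hH1 hx1 (h.symm.trans hct)))
        (fun h => hxA (hA.in_of_card_eq hA1 hx1 h.symm)) with h | h | h
      · exact (h2 (hH.in_of_card_eq hH1 h1 (h.trans hct))).elim
      · exact (h4 (hA.in_of_card_eq hA1 h1 h)).elim
      · exact hB.in_of_card_eq hB1 h1 h
    · intro h
      refine ⟨h.ne_one, (hS' x h).1, fun h' => ?_⟩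
      rw [← hA.card_cen h', hB.card_cen h, Nat.coprime_self] at hAB
      omega
  have hp := pairs ht htH hH hG hST hU (α := co k) (β := co x₀) (fun x hx => (hS x hx).2)
    (fun x hx => (hS' x (hTB ▸ hx :)).2)
  rw [← hndef, ← hidef, hTB] at hp
  -- the class equation
  have hcls : 1 + {x | In H x}.ncard + {x | In A x}.ncard + {x | In B x}.ncard = Nat.card G := by
    have h1 := Set.ncard_union_eq hST
    rw [hU, hTB] at h1
    have h2 := Set.ncard_add_ncard_compl {x : G | x ≠ 1 ∧ ¬ In H x}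
    have h4 : {x : G | x ≠ 1 ∧ ¬ In H x}ᶜ = insert 1 {x | In H x} := by
      ext x
      simp only [Set.mem_compl_iff, Set.mem_ofPred_eq, Set.mem_insert_iff]
      tauto
    rw [h4, Set.ncard_insert_of_notMem (s := {x | In H x}) (fun h => In.ne_one h rfl)] at h2
    omega
  -- `n = a b`
  have hnab : n = Nat.card A * Nat.card B := by
    have h1 : ∀ Q : Subgroup G, (Nat.card H).Coprime (Nat.card Q) → Nat.card Q ∣ n := fun Q h =>
      h.symm.dvd_of_dvd_mul_right (hn ▸ card_subgroup_dvd_card Q)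
    obtain ⟨m, hm⟩ := hAB.mul_dvd_of_dvd_of_dvd (h1 A hHA) (h1 B hHB)
    by_cases hm1 : m = 1
    · rw [hm, hm1, mul_one]
    exfalso
    obtain ⟨p, hp, hpm⟩ := Nat.exists_prime_and_dvd hm1
    have := Fact.mk hp
    have hG' : Nat.card G = Nat.card A * Nat.card B * m * Nat.card H := by rw [← hm, hn]
    obtain ⟨y, hy⟩ := exists_prime_orderOf_dvd_card' (G := G) p
      (hG' ▸ (hpm.mul_left _).mul_right _)
    have hy1 : y ≠ 1 := fun h => hp.one_lt.ne' (by rw [← hy, h, orderOf_one])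
    have hpy : p ∣ co y := hy ▸ orderOf_dvd_natCard _ (mem_cen.mpr rfl)
    have key : ∀ (Q : Subgroup G) (c : ℕ), SC Q → Nat.card G = c * m * Nat.card Q → ¬ In Q y := by
      intro Q c hQ hc hy
      refine hQ.not_dvd_index hp (hQ.card_cen hy ▸ hpy) ?_
      rw [← Q.index_mul_card] at hc
      exact Nat.eq_of_mul_eq_mul_right Nat.card_pos hc ▸ hpm.mul_left _
    refine key B (Nat.card A * Nat.card H) hB (by rw [hG']; ring) (hTB.le ⟨hy1, ?_, ?_⟩)
    · exact key H _ hH hG'
    · exact key A (Nat.card B * Nat.card H) hA (by rw [hG']; ring)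
  have hile : i ≤ n := Nat.le_of_dvd hn0 hin
  rw [← hi, mul_comm i] at eH
  rw [hNA] at eA
  rw [hNB] at eB
  rw [← hn, hnab] at eH eA eB hcls
  rw [hnab] at hp hile
  have hh : 0 < Nat.card H := Nat.card_pos
  rw [← hn, hnab]
  change Nat.card A * Nat.card B * (Nat.card A * Nat.card B - i) =
    _ * Nat.card A + _ * Nat.card B at hp
  generalize Nat.card A = a at *
  generalize Nat.card B = b at *
  generalize Nat.card H = h at *
  have := arith (h := h) (i := i) (a := a) (b := b) (u := u) (v := u')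
    (cH := {x | In H x}.ncard) (cA := {x | In A x}.ncard) (cB := {x | In B x}.ncard)
    (by exact_mod_cast hi3) (by exact_mod_cast hia) (Nat.isCoprime_iff_coprime.mpr hAB)
    (by exact_mod_cast hAo) (by exact_mod_cast hBo) (by exact_mod_cast ha1)
    (by exact_mod_cast hb1) (by exact_mod_cast hu) (by exact_mod_cast hu') (by exact_mod_cast hh)
    (by zify [hh] at eH; linarith) (by zify [ha1.le] at eA; linarith)
    (by zify [hb1.le] at eB; linarith) (by exact_mod_cast hcls)
    (by zify [hile] at hp; linarith)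
  obtain ⟨h1, h2, h4⟩ := this
  have h1' : h = i + 1 := by exact_mod_cast h1
  have h2' : a = i := by exact_mod_cast h2
  have h4' : b = i + 2 := by exact_mod_cast h4
  refine ⟨h1', ?_⟩
  rw [h1', h2', h4', Nat.add_sub_cancel]; ring

theorem psl_of_three (h3 : Three G) :
    ∃ (m : ℕ) (F : Type) (_ : Field F) (_ : Fintype F), 2 ≤ m ∧ Fintype.card F = 2 ^ m ∧
      Nonempty (G ≃* Matrix.ProjectiveSpecialLinearGroup (Fin 2) F) := by
  obtain ⟨h1, h2⟩ := card_eq_of_three ht htH hH hG h3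
  have hi3 := three_le_ncard_inv_mem ht htH hH hG
  have hall : {u : G | orderOf u = 2} ∩ H = (H : Set G) \ {1} := by
    refine Set.eq_of_subset_of_ncard_le (fun x hx => ⟨hx.2, H4.ne_one_of_orderOf_two hx.1⟩) ?_
    rw [Set.ncard_sdiff_singleton_of_mem H.one_mem, H6.ncard_subgroup]
    omega
  have ht2 := H4.mul_self_of_orderOf_two ht
  have hc : ∀ y, y * t = t * y → y ≠ 1 → IsConj t y := fun y hy hy1 =>
    isConj_inv ht htH hH hG
      (hall.ge ⟨hH.mem htH (H4.ne_one_of_orderOf_two ht) hy, hy1⟩).1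
  obtain ⟨m, hm⟩ := H6.exists_card_cent_eq ht2 hc
  rw [cen_eq ht htH hH] at hm
  have hm2 : 2 ≤ m := by
    by_contra h
    interval_cases m <;> omega
  have := Fact.mk Nat.prime_two
  let F := GaloisField 2 m
  let _ : Fintype F := Fintype.ofFinite F
  have hF : Fintype.card F = 2 ^ m := by
    rw [← Nat.card_eq_fintype_card]; exact GaloisField.card 2 m (by omega)
  exact ⟨m, F, inferInstance, inferInstance, hm2, hF, H6.psl_even ht2 hc hF (hm ▸ h2)
    (H4.ne_one_of_orderOf_two ht) (by rw [cen_eq ht htH hH, hm])⟩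

end Cfsg.Agent.H7.CA
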