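import Cfsg.Agent.H7.CA1
import Cfsg.Agent.L0.Char5

set_option autoImplicit false

/-! A self-centralizing abelian subgroup acting regularly on a conjugacy class. -/

namespace Cfsg.Agent.H7.CA

open Subgroup Cfsg.Agent.L0
open scoped ComplexConjugate

variable {G : Type*} [Group G]

/-- conjugation on `B` by an element of the normalizer -/
def cB (B : Subgroup G) (n : normalizer (B : Set G)) : B ≃* B := B.normalizerMonoidHom n

theorem coe_cB (B : Subgroup G) (n : normalizer (B : Set G)) (b : B) :
    (cB B n b : G) = n * b * (n : G)⁻¹ := rfl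

/-- the conjugate of an irreducible character of `B` -/
def act (B : Subgroup G) (n : normalizer (B : Set G)) (l : IrrCharacter B) : IrrCharacter B :=
  ⟨fun b => l.1 (cB B n b),
    IsIrrCharacter.comp_of_surjective l.2 (cB B n).toMonoidHom (cB B n).surjective⟩

variable [Fintype G] {B : Subgroup G} [Fintype B]

omit [Fintype G] in
theorem classInner_act {χ : G → ℂ} (hχ : IsClassFunction G χ) (n : normalizer (B : Set G))
    (l : IrrCharacter B) :
    classInner (fun b : B => χ b) (act B n l).1 = classInner (fun b : B => χ b) l.1 := by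
  rw [classInner_def, classInner_def]
  congr 1
  refine Fintype.sum_equiv (cB B n).toEquiv _ _ fun b => ?_
  have : χ (cB B n b) = χ b := (IsClassFunction.eq_of_isConj hχ (isConj_iff.mpr ⟨n, rfl⟩)).symm
  simp only [act, MulEquiv.toEquiv_eq_coe, EquivLike.coe_coe, this]

omit [Fintype B] in
theorem indFun_restrict (hB : SC B) [Fintype (normalizer (B : Set G))] {α : B → ℂ} (h1 : α 1 = 0) :
    (fun b : B => indFun B α b) =
      (Nat.card B : ℂ)⁻¹ • ∑ n : normalizer (B : Set G), fun b => α (cB B n b) := by
  classical
  ext b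
  rw [indFun_apply', Pi.smul_apply, smul_eq_mul, Finset.sum_apply]
  congr 1
  rw [← Finset.sum_subset (Finset.subset_univ (Finset.univ.filter (· ∈ normalizer (B : Set G)))),
    Finset.sum_subtype (p := (· ∈ normalizer (B : Set G))) _ (by simp)]
  · exact Finset.sum_congr rfl fun n _ => extendByZero_coe B α (cB B n b)
  · intro x _ hx
    by_cases hb : (b : G) = 1
    · rw [hb, mul_one, mul_inv_cancel, extendByZero_of_mem B α B.one_mem]
      exact h1
    · exact extendByZero_of_not_mem B α fun h => hx (by simpa using hB.mem_normalizer b.2 hb h)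

omit [Fintype G] in
theorem act_eq_iff (hB : SC B) {l : IrrCharacter B} (hl : l ≠ irrOne B)
    (n : normalizer (B : Set G)) : act B n l = l ↔ (n : G) ∈ B := by
  have hc : IsMulCommutative B := ⟨⟨fun a b => Subtype.ext (hB.comm a a.2 b b.2)⟩⟩
  constructor
  · intro h
    by_contra hn
    apply hl
    obtain ⟨φ, hφ⟩ := IsCharacter.exists_monoidHom_of_apply_one (IsIrrCharacter.isCharacter l.2)
      (IsIrrCharacter.apply_one_of_isMulCommutative l.2)
    have hinj : Function.Injective fun b : B => b⁻¹ * cB B n b := by
      intro b c hbc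
      have h1 : cB B n (b * c⁻¹) = b * c⁻¹ := by
        simp only at hbc
        rw [map_mul, map_inv, mul_inv_eq_iff_eq_mul, mul_assoc, ← hbc]; group
      by_contra hne
      have h2 : ((b * c⁻¹ : B) : G) ≠ 1 := fun h => hne (mul_inv_eq_one.mp (Subtype.ext h))
      have h3 := congrArg Subtype.val h1
      rw [coe_cB, mul_inv_eq_iff_eq_mul] at h3
      exact hn (hB.mem (b * c⁻¹).2 h2 h3)
    have hsurj := Finite.injective_iff_surjective.mp hinj
    apply Subtype.ext
    ext c
    obtain ⟨b, rfl⟩ := hsurj c
    have h1 : l.1 (cB B n b) = l.1 b := congrFun (congrArg Subtype.val h) b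
    rw [hφ] at h1
    simp only [hφ, map_mul, h1, irrOne_apply]
    rw [← map_mul, inv_mul_cancel, map_one]
  · intro hn
    apply Subtype.ext
    ext b
    have : cB B n b = b := Subtype.ext (by
      rw [coe_cB, hB.comm _ hn _ b.2, mul_inv_cancel_right])
    simp only [act, this]

omit [Fintype G] in
open Classical in
theorem sum_act_self (hB : SC B) [Fintype (normalizer (B : Set G))] {l : IrrCharacter B}
    (hl : l ≠ irrOne B) :
    ∑ n : normalizer (B : Set G), classInner (act B n l).1 l.1 = Nat.card B := by
  simp only [classInner_irr, act_eq_iff hB hl]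
  rw [Finset.sum_boole, ← card_subgroupOf_of_le (le_normalizer (H := B)), Nat.card_eq_fintype_card,
    Fintype.card_subtype]
  rfl

theorem classInner_ind_sub (hB : SC B) [Fintype (normalizer (B : Set G))]
    (l m l' m' : IrrCharacter B) :
    classInner (indFun B (l.1 - m.1)) (indFun B (l'.1 - m'.1)) =
      (Nat.card B : ℂ)⁻¹ * ∑ n : normalizer (B : Set G),
        (classInner (act B n l).1 l'.1 - classInner (act B n l).1 m'.1 -
          classInner (act B n m).1 l'.1 + classInner (act B n m).1 m'.1) := by
  have hc : IsMulCommutative B := ⟨⟨fun a b => Subtype.ext (hB.comm a a.2 b b.2)⟩⟩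
  rw [classInner_indFun_right _ _ (indFun_isClassFunction _ _), indFun_restrict hB (by
    rw [Pi.sub_apply, IsIrrCharacter.apply_one_of_isMulCommutative l.2,
      IsIrrCharacter.apply_one_of_isMulCommutative m.2, sub_self]),
    classInner_smul_left, classInner_sum_left]
  congr 1
  refine Finset.sum_congr rfl fun n _ => ?_
  have : (fun b => (l.1 - m.1) (cB B n b)) = (act B n l).1 - (act B n m).1 := rfl
  rw [this, classInner_sub_left, classInner_sub_right, classInner_sub_right]
  ring

omit [Fintype G] [Fintype B] in
/-- If `B` is regular on the class of `y`, then `y` is isolated. -/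
theorem eq_of_isConj_of_regular [Finite G] [IsSimpleGroup G] (hG : ¬ IsMulCommutative G)
    (hB : SC B) {y : G} (hy1 : y ≠ 1)
    (hy : (centralizer ({y} : Set G)).index = Nat.card B) {x : G} (hx : IsConj y x)
    (hxy : x * y = y * x) : x = y := by
  classical
  have := Fintype.ofFinite G
  have := Fintype.ofFinite B
  have := Fintype.ofFinite (normalizer (B : Set G))
  set Y := centralizer ({y} : Set G) with hY
  have := Fintype.ofFinite Y
  have hc : IsMulCommutative B := ⟨⟨fun a b => Subtype.ext (hB.comm a a.2 b b.2)⟩⟩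
  have hdeg : ∀ l : IrrCharacter B, l.1 1 = 1 := fun l =>
    IsIrrCharacter.apply_one_of_isMulCommutative l.2
  have hYB : Nat.card Y = B.index := by
    have h1 := Y.index_mul_card
    rw [hy, ← B.index_mul_card, mul_comm] at h1
    exact Nat.eq_of_mul_eq_mul_right Nat.card_pos h1
  have hcop : (Nat.card B).Coprime (Nat.card Y) := hYB ▸ hB.coprime_index
  have hB0 := natCard_ne_zero B
  have hπ : IsCharacter G (indFun Y 1) := IsCharacter.indFun isCharacter_one
  obtain ⟨μ, hμ, hπe⟩ := IsCharacter.exists_eq_sum_nsmul hπ
  have hm : ∀ (χ : IrrCharacter G) (l : IrrCharacter B), ∃ k : ℕ,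
      classInner (fun b : B => χ.1 b) l.1 = k := fun χ l =>
    IsCharacter.exists_nat_classInner (IsCharacter.restrict (IsIrrCharacter.isCharacter χ.2) B)
      (IsIrrCharacter.isCharacter l.2)
  choose m hm using hm
  have hsum : ∀ l : IrrCharacter B, ∑ χ, μ χ * m χ l = 1 := by
    intro l
    have h1 : classInner (fun b : B => indFun Y 1 b) l.1 = 1 := by
      rw [classInner_def, Finset.sum_eq_single 1]
      · rw [coe_one, indFun_apply_one, hy, hdeg]; simp
      · intro b _ hb
        rw [indFun_eq_zero, zero_mul]
        intro z hz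
        exfalso
        apply hb
        have h1 := H6.orderOf_eq_of_isConj hz
        rw [orderOf_coe, orderOf_coe] at h1
        exact orderOf_eq_one_iff.mp (Nat.eq_one_of_dvd_coprimes hcop (orderOf_dvd_natCard b)
          (h1 ▸ orderOf_dvd_natCard z))
      · simp
    have h2 : (fun b : B => indFun Y 1 b) = ∑ χ, μ χ • fun b : B => χ.1 b := by
      ext b; rw [hπe]; simp
    rw [h2, classInner_sum_left] at h1
    simp only [classInner_nsmul_left, hm] at h1
    exact_mod_cast h1
  have hμ1 : μ (irrOne G) = 1 := by
    have h1 := hμ (irrOne G)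
    rw [classInner_indFun_left _ _ (IsIrrCharacter.isClassFunction (irrOne G).2)] at h1
    have h2 : classInner (1 : Y → ℂ) (fun x : Y => (irrOne G).1 x) = 1 :=
      IsIrrCharacter.classInner_self isIrrCharacter_one
    rw [h2] at h1
    exact_mod_cast h1.symm
  have hm1 : m (irrOne G) (irrOne B) = 1 := by
    have h1 := hm (irrOne G) (irrOne B)
    have h2 : classInner (fun b : B => (irrOne G).1 b) (irrOne B).1 = 1 :=
      IsIrrCharacter.classInner_self isIrrCharacter_one
    rw [h2] at h1
    exact_mod_cast h1.symm
  have hle : ∀ (l : IrrCharacter B) (χ χ' : IrrCharacter G), χ ≠ χ' →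
      μ χ * m χ l + μ χ' * m χ' l ≤ 1 := fun l χ χ' h => by
    rw [← hsum l, ← Finset.sum_pair (f := fun χ => μ χ * m χ l) h]
    exact Finset.sum_le_sum_of_subset (Finset.subset_univ _)
  have hact : ∀ (χ : IrrCharacter G) n l, m χ (act B n l) = m χ l := fun χ n l => by
    have := classInner_act (IsIrrCharacter.isClassFunction χ.2) n l
    rw [hm, hm] at this
    exact_mod_cast this
  have hvan : ∀ χ : IrrCharacter G, χ ≠ irrOne G → μ χ ≠ 0 → χ.1 y = 0 := by
    intro χ hχ hμχ
    have hm0 : ∀ l χ', χ ≠ χ' → μ χ' * m χ' l ≠ 0 → m χ l = 0 := fun l χ' h h' => by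
      have := hle l χ χ' h
      by_contra h2
      have : μ χ * m χ l ≠ 0 := mul_ne_zero hμχ h2
      omega
    have hmle : ∀ l, m χ l ≠ 0 → m χ l = 1 := fun l h => by
      have h1 := hle l χ _ hχ
      have h2 : m χ l ≤ μ χ * m χ l := Nat.le_mul_of_pos_left _ (Nat.pos_of_ne_zero hμχ)
      omega
    set J := Finset.univ.filter fun l => m χ l ≠ 0 with hJ
    have hd : χ.1 1 = J.card := by
      have h1 := IsClassFunction.apply_eq_sum_irr
        (IsClassFunction.restrict (IsIrrCharacter.isClassFunction χ.2) B) 1
      simp only [coe_one, hm, hdeg, mul_one] at h1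
      rw [h1, Finset.card_filter]
      push_cast
      refine Finset.sum_congr rfl fun l _ => ?_
      by_cases h : m χ l = 0
      · simp [h]
      · simp [hmle l h]
    have h1J : m χ (irrOne B) = 0 := hm0 _ _ hχ (by rw [hμ1, hm1]; simp)
    have hcp : J.card.Coprime (Nat.card B) := by
      by_cases hall : ∀ l, l ≠ irrOne B → m χ l ≠ 0
      · have h1 : J = Finset.univ.erase (irrOne B) := by
          ext l
          simp only [hJ, Finset.mem_filter, Finset.mem_univ, true_and, Finset.mem_erase, and_true]
          exact ⟨fun h h' => h (h' ▸ h1J), hall l⟩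
        have h2 := sum_irr_degree_sq (G := B)
        simp only [hdeg, one_pow, Finset.sum_const, nsmul_eq_mul, mul_one, Nat.cast_inj] at h2
        rw [h1, Finset.card_erase_of_mem (Finset.mem_univ _), h2]
        exact (Nat.coprime_self_sub_left Nat.card_pos).mpr (Nat.coprime_one_left _)
      push Not at hall
      obtain ⟨ν, hν1, hν⟩ := hall
      obtain ⟨χ', -, hχ'⟩ := Finset.exists_ne_zero_of_sum_ne_zero
        ((hsum ν).trans_ne one_ne_zero)
      have hne : χ ≠ χ' := by rintro rfl; exact hχ' (by rw [hν, mul_zero])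
      have hν' : m χ' ν = 1 := by
        have h1 := hle ν χ χ' hne
        have h2 : m χ' ν ≤ μ χ' * m χ' ν :=
          Nat.le_mul_of_pos_left _ (Nat.pos_of_ne_zero (left_ne_zero_of_mul hχ'))
        have := right_ne_zero_of_mul hχ'
        omega
      have hl' : ∀ l, m χ l ≠ 0 → m χ' l = 0 := fun l h => by
        have h1 := hle l χ χ' hne
        have h2 : μ χ * m χ l ≠ 0 := mul_ne_zero hμχ h
        exact (mul_eq_zero.mp (by omega : μ χ' * m χ' l = 0)).resolve_left (left_ne_zero_of_mul hχ')
      have hcross : ∀ l l', m χ l ≠ 0 → m χ l' ≠ 0 →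
          classInner (indFun B (l.1 - ν.1)) (indFun B (l'.1 - ν.1)) =
            (Nat.card B : ℂ)⁻¹ * ∑ n, classInner (act B n l).1 l'.1 + 1 := by
        intro l l' hl hl2
        rw [classInner_ind_sub hB]
        have e1 : ∀ n, classInner (act B n l).1 ν.1 = 0 := fun n => by
          rw [classInner_irr, if_neg]; intro h; exact hl (by rw [← hact χ n l, h, hν])
        have e2 : ∀ n, classInner (act B n ν).1 l'.1 = 0 := fun n => by
          rw [classInner_irr, if_neg]; intro h; exact hl2 (by rw [← h, hact, hν])
        simp only [e1, e2, sub_zero]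
        rw [Finset.sum_add_distrib, sum_act_self hB hν1, mul_add, inv_mul_cancel₀ hB0]
      have hθ : ∀ l, m χ l ≠ 0 → indFun B (l.1 - ν.1) = χ.1 - χ'.1 := by
        intro l hl
        have hl1 : l ≠ irrOne B := fun h => hl (h ▸ h1J)
        have e0 := hcross l l hl hl
        rw [sum_act_self hB hl1, inv_mul_cancel₀ hB0] at e0
        have e1 : ∀ ψ : IrrCharacter G, classInner ψ.1 (indFun B (l.1 - ν.1)) =
            (m ψ l : ℂ) - m ψ ν := fun ψ => by
          rw [classInner_indFun_right _ _ (IsIrrCharacter.isClassFunction ψ.2),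
            classInner_sub_right, hm, hm]
        have e2 : ∀ ψ : IrrCharacter G, classInner (indFun B (l.1 - ν.1)) ψ.1 =
            (m ψ l : ℂ) - m ψ ν := fun ψ => by
          rw [← conj_classInner, e1]; simp
        rw [← sub_eq_zero]
        apply eq_zero_of_classInner_self_eq_zero
        simp only [classInner_sub_left, classInner_sub_right, e0, e1, e2, classInner_irr, hmle l hl,
          hν, hν', hl' l hl, if_true, if_neg hne, if_neg hne.symm]
        push_cast; ring
      obtain ⟨n₀, hn₀, hn₀'⟩ := IsIrrCharacter.exists_nat_pos χ.2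
      have hJ0 : J.Nonempty := by
        rw [← Finset.card_pos]
        rw [hd] at hn₀'
        have : J.card = n₀ := by exact_mod_cast hn₀'
        omega
      obtain ⟨l, hl⟩ := hJ0
      have hl : m χ l ≠ 0 := (Finset.mem_filter.mp hl).2
      have e : ∀ l' ∈ J, ∑ n, classInner (act B n l).1 l'.1 = Nat.card B := fun l' hl' => by
        have hl' : m χ l' ≠ 0 := (Finset.mem_filter.mp hl').2
        have e0 := hcross l l' hl hl'
        rw [hθ l hl, hθ l' hl'] at e0
        simp only [classInner_sub_left, classInner_sub_right, classInner_irr, if_true, if_neg hne,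
          if_neg hne.symm] at e0
        have : (Nat.card B : ℂ)⁻¹ * ∑ n, classInner (act B n l).1 l'.1 = 1 := by
          simp only [classInner_irr]
          linear_combination -e0
        rw [inv_mul_eq_one₀ hB0] at this
        exact this.symm
      have e' := Finset.sum_congr rfl e
      rw [Finset.sum_comm] at e'
      have e3 : ∀ n, ∑ l' ∈ J, classInner (act B n l).1 l'.1 = 1 := fun n => by
        simp only [classInner_irr]
        rw [Finset.sum_ite_eq, if_pos (Finset.mem_filter.mpr ⟨Finset.mem_univ _, by rwa [hact]⟩)]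
      simp only [e3, Finset.sum_const, nsmul_eq_mul, mul_one, Finset.card_univ,
        ← Nat.card_eq_fintype_card] at e'
      have e4 : Nat.card (normalizer (B : Set G)) = J.card * Nat.card B := by exact_mod_cast e'
      have e5 := card_subgroup_dvd_card (normalizer (B : Set G))
      rw [e4, ← B.index_mul_card] at e5
      exact Nat.Coprime.coprime_dvd_left (Nat.dvd_of_mul_dvd_mul_right Nat.card_pos e5)
        hB.coprime_index.symm
    refine (IsIrrCharacter.eq_zero_or_mem_charCenter χ.2 hd (hy ▸ hcp)).resolve_right fun h => ?_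
    have h2 := IsCharacter.charCenter_le_center (IsIrrCharacter.isClassFunction χ.2)
      (IsIrrCharacter.charKer_eq_bot_of_isSimpleGroup χ.2 fun h => hχ (Subtype.ext h)) h
    exact H6.centralizer_ne_top_of_simple hG hy1
      (eq_top_iff.mpr fun g _ => mem_cen.mpr (mem_center_iff.mp h2 g))
  have hπy : indFun Y 1 y = 1 := by
    rw [hπe, Finset.sum_apply, Finset.sum_eq_single (irrOne G)]
    · simp [hμ1]
    · intro χ _ hχ
      by_cases h : μ χ = 0
      · simp [h]
      · simp [hvan χ hχ h]
    · simp
  rw [indFun_one_apply, ← hY, div_self (natCard_ne_zero Y), one_mul, Nat.cast_eq_one,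
    Nat.card_eq_one_iff_unique] at hπy
  have := hπy.1.elim (⟨⟨x, mem_cen.mpr hxy⟩, hx⟩ : {x : Y // IsConj y x})
    ⟨⟨y, mem_cen.mpr rfl⟩, IsConj.refl y⟩
  exact congrArg (fun z => (z.1 : G)) this

end Cfsg.Agent.H7.CA
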