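import Cfsg.Agent.H7.CA4
import Cfsg.Agent.H7.RegAb
import Cfsg.Agent.H7.ZStar
import Cfsg.Agent.H6.DefOne3
import Cfsg.Agent.FT.Main

set_option autoImplicit false

/-! Itô's theorem: simple groups with at most three centralizer orders. -/

namespace Cfsg.Agent.H7.CA

open Subgroup H8

variable {G : Type*} [Group G] [Finite G]

theorem exists_mul_of_coprime_index {K L : Subgroup G} (h : K.index.Coprime L.index) (g : G) :
    ∃ a ∈ K, ∃ b ∈ L, g = a * b := by
  have h1 := H6.ncard_orbit_mul_card_stabilizer (G := K) ((1 : G) : G ⧸ L)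
  have e : ∀ a : K, a • ((1 : G) : G ⧸ L) = ((a : G) : G ⧸ L) := fun a => by
    change ((a * 1 : G) : G ⧸ L) = _
    rw [mul_one]
  have h2 : MulAction.stabilizer K ((1 : G) : G ⧸ L) = L.subgroupOf K := by
    ext a
    rw [MulAction.mem_stabilizer_iff, mem_subgroupOf, e, eq_comm, QuotientGroup.eq, inv_one, one_mul]
  rw [h2, ← (L.subgroupOf K).index_mul_card] at h1
  have h3 := Nat.eq_of_mul_eq_mul_right Nat.card_pos h1
  have h4 : L.index ∣ L.relIndex K := by
    refine h.symm.dvd_of_dvd_mul_right ?_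
    rw [← inf_relIndex_right, relIndex_mul_index inf_le_right]
    exact index_dvd_of_le inf_le_left
  have h5 : MulAction.orbit K ((1 : G) : G ⧸ L) = Set.univ := by
    refine Set.eq_of_subset_of_ncard_le (Set.subset_univ _) ?_
    rw [Set.ncard_univ, h3]
    exact Nat.le_of_dvd (Nat.pos_of_ne_zero index_ne_zero_of_finite) h4
  obtain ⟨a, ha⟩ := h5.ge (Set.mem_univ (g : G ⧸ L))
  simp only [e, QuotientGroup.eq] at ha
  exact ⟨a, a.2, _, ha, by group⟩

omit [Finite G] in
theorem mem_zpowers_mul {x y : G} (hc : x * y = y * x) (h : (orderOf x).Coprime (orderOf y)) :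
    x ∈ zpowers (x * y) := by
  obtain ⟨m, hm⟩ := exists_pow_eq_self_of_coprime h.symm
  refine ⟨(orderOf y * m : ℕ), ?_⟩
  simp only [zpow_natCast]
  rw [pow_mul, Commute.mul_pow hc, pow_orderOf_eq_one, mul_one, hm]

omit [Finite G] in
theorem cen_le_of_mem_zpowers {x y : G} (h : x ∈ zpowers y) :
    centralizer ({y} : Set G) ≤ centralizer ({x} : Set G) := by
  obtain ⟨k, rfl⟩ := h
  exact fun g hg => mem_cen.mpr (Commute.zpow_right (mem_cen.mp hg) k)

omit [Finite G] in
theorem cen_mul {x y : G} (hc : x * y = y * x) (h : (orderOf x).Coprime (orderOf y)) :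
    centralizer ({x * y} : Set G) = centralizer ({x} : Set G) ⊓ centralizer ({y} : Set G) :=
  le_antisymm (le_inf (cen_le_of_mem_zpowers (mem_zpowers_mul hc h))
    (cen_le_of_mem_zpowers (hc ▸ mem_zpowers_mul hc.symm h.symm)))
    fun _ hg => mem_cen.mpr (Commute.mul_right (mem_cen.mp hg.1) (mem_cen.mp hg.2))

omit [Finite G] in
theorem mul_ne_one_of_coprime {x y : G} (hc : x * y = y * x)
    (h : (orderOf x).Coprime (orderOf y)) (hx : x ≠ 1) : x * y ≠ 1 := fun h1 => by
  have := mem_zpowers_mul hc h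
  rw [h1, zpowers_one_eq_bot] at this
  exact hx this

theorem exists_mem_orderOf {K : Subgroup G} {p : ℕ} (hp : p.Prime) (h : p ∣ Nat.card K) :
    ∃ v ∈ K, orderOf v = p ∧ v ≠ 1 := by
  have := Fact.mk hp
  obtain ⟨v, hv⟩ := exists_prime_orderOf_dvd_card' (G := K) p h
  have hv' : orderOf (v : G) = p := by rw [orderOf_coe, hv]
  exact ⟨v, v.2, hv', fun h1 => hp.one_lt.ne' (by rw [← hv', h1, orderOf_one])⟩

theorem index_eq_of_co {x y : G} (h : co x = co y) :
    (centralizer ({x} : Set G)).index = (centralizer ({y} : Set G)).index := by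
  have h1 := (centralizer ({x} : Set G)).index_mul_card
  rw [← (centralizer ({y} : Set G)).index_mul_card] at h1
  change _ * co x = _ * co y at h1
  rw [h] at h1
  exact Nat.eq_of_mul_eq_mul_right Nat.card_pos h1

theorem index_dvd_of_co {x y : G} (h : co x ∣ co y) :
    (centralizer ({y} : Set G)).index ∣ (centralizer ({x} : Set G)).index := by
  obtain ⟨k, hk⟩ := h
  have h1 := (centralizer ({x} : Set G)).index_mul_card
  rw [← (centralizer ({y} : Set G)).index_mul_card] at h1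
  refine ⟨k, Nat.eq_of_mul_eq_mul_right (Nat.card_pos (α := centralizer ({x} : Set G))) ?_⟩
  rw [h1]
  change _ * co y = _ * co x
  rw [hk]; ring

/-- a `p`-element commutes with a `p`-central element of order `p` -/
theorem exists_central_comm {p : ℕ} (hp : p.Prime) {u : G} (hu : orderOf u = p) :
    ∃ w : G, orderOf w = p ∧ w ≠ 1 ∧ ¬ p ∣ (centralizer ({w} : Set G)).index ∧ w * u = u * w := by
  have := Fact.mk hp
  have hz : IsPGroup p (zpowers u) := by
    apply IsPGroup.of_card (n := 1)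
    rw [Nat.card_zpowers, hu, pow_one]
  have hu1 : u ≠ 1 := fun h1 => hp.one_lt.ne' (by rw [← hu, h1, orderOf_one])
  obtain ⟨R, hR, hle⟩ := exists_isSylowIn_ge (K := ⊤) hz le_top
  have hR1 : R ≠ ⊥ := fun h0 => hu1 (mem_bot.mp (h0 ▸ hle (mem_zpowers _)))
  obtain ⟨z, -, hzo, hzc, -⟩ :=
    H5.exists_mem_centralizer_of_isPGroup hR.pgroup hR.pgroup le_normalizer hR1
  refine ⟨z, hzo, fun h1 => hp.one_lt.ne' (by rw [← hzo, h1, orderOf_one]), fun h => ?_,
    (hzc _ (hle (mem_zpowers _))).symm⟩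
  apply hR.not_dvd_relIndex
  rw [relIndex_top_right]
  exact h.trans (index_dvd_of_le fun r hr => mem_cen.mpr (hzc r hr))

variable [IsSimpleGroup G] (hG : ¬ IsMulCommutative G)
include hG

theorem exists_prime_ne {g : G} (hg : g ≠ 1) {p : ℕ} (hp : p.Prime) :
    ∃ q, q.Prime ∧ q ≠ p ∧ q ∣ (centralizer ({g} : Set G)).index := by
  by_contra h
  push Not at h
  have h1 := Nat.eq_prime_pow_of_unique_prime_dvd (p := p)
    (index_ne_zero_of_finite (H := centralizer ({g} : Set G)))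
    fun {q} hq hd => by by_contra h2; exact h q hq h2 hd
  have h2 := L0.mem_center_of_index_prime_pow hp h1
  exact H6.centralizer_ne_top_of_simple hG hg
    (eq_top_iff.mpr fun a _ => mem_cen.mpr (mem_center_iff.mp h2 a))

theorem two_dvd_card : 2 ∣ Nat.card G := by
  by_contra h
  have := FT.odd_solvable (G := G) (Nat.odd_iff.mpr (by omega))
  exact hG ⟨⟨IsSimpleGroup.comm_iff_isSolvable.mpr this⟩⟩

theorem not_comm_of_coprime {y w : G} (hy : y ≠ 1) (hw : w ≠ 1)
    (h : (centralizer ({y} : Set G)).index.Coprime (centralizer ({w} : Set G)).index) :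
    w * y ≠ y * w := by
  intro hc
  have h1 : w ∈ (centralizer ({y} : Set G)).normalCore := by
    intro g
    obtain ⟨a, ha, b, hb, rfl⟩ := exists_mul_of_coprime_index h g
    have : a * b * w * (a * b)⁻¹ = a * w * a⁻¹ := by
      rw [mul_assoc a b w, mem_cen.mp hb]; group
    rw [this]
    exact mul_mem (mul_mem ha (mem_cen.mpr hc)) (inv_mem ha)
  rcases (normalCore_normal (centralizer ({y} : Set G))).eq_bot_or_eq_top with h2 | h2
  · rw [h2] at h1; exact hw h1
  · exact H6.centralizer_ne_top_of_simple hG hy (eq_top_iff.mpr (h2 ▸ normalCore_le _))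

omit [Finite G] [IsSimpleGroup G] hG in
theorem sc_of_F (hF : ∀ x y : G, x ≠ 1 → y ≠ 1 → centralizer ({x} : Set G) ≤ centralizer {y} →
    centralizer ({x} : Set G) = centralizer {y}) {z : G} (hz : orderOf z = 2) :
    SC (centralizer ({z} : Set G)) := by
  have hz1 := H4.ne_one_of_orderOf_two hz
  have hz2 := H4.mul_self_of_orderOf_two hz
  set H := centralizer ({z} : Set G) with hH
  have h1 : ∀ s ∈ H, ¬ H ≤ centralizer {s} → s * s = 1 := by
    intro s hs hn
    by_contra h2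
    have hs1 : s ≠ 1 := by rintro rfl; exact h2 (mul_one 1)
    have hsz := mem_cen.mp hs
    have e : s * z * (s * z) = s * s := by
      rw [mul_assoc, ← mul_assoc z, ← hsz, mul_assoc, hz2, mul_one]
    have hsz1 : s * z ≠ 1 := fun h => h2 (by rw [← e, h, mul_one])
    have h3 := hF s (s * s) hs1 h2 (cen_le_of_mem_zpowers (mul_mem (mem_zpowers s) (mem_zpowers s)))
    have h4 := hF (s * z) (s * s) hsz1 h2
      (cen_le_of_mem_zpowers (e ▸ mul_mem (mem_zpowers _) (mem_zpowers _)))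
    refine hn (hF s z hs1 hz1 fun g hg => mem_cen.mpr ?_).ge
    have h5 := mem_cen.mp hg
    have h6 := mem_cen.mp (h4.ge (h3.le hg))
    apply mul_left_cancel (a := s)
    rw [← mul_assoc, ← h5, mul_assoc, h6, mul_assoc]
  have h2 : ∀ s ∈ H, H ≤ centralizer {s} := by
    by_contra h2
    push Not at h2
    obtain ⟨s, hs, hn⟩ := h2
    refine hn fun g hg => mem_cen.mpr (H6.comm_of_mul_self (fun w hw => ?_) g hg s hs)
    by_cases hw' : H ≤ centralizer {w}
    · have h3 := h1 (s * w) (mul_mem hs hw) fun h => hn fun a ha => mem_cen.mpr (by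
        apply mul_right_cancel (b := w)
        rw [mul_assoc, mem_cen.mp (h ha), mul_assoc, mul_assoc, mem_cen.mp (hw' ha)])
      rwa [mul_assoc, ← mul_assoc w, ← mem_cen.mp (hw' hs), mul_assoc, ← mul_assoc, h1 s hs hn,
        one_mul] at h3
    · exact h1 w hw hw'
  exact fun s hs hs1 => (hF z s hz1 hs1 (h2 s hs)).symm

theorem exists_sc (h3 : Three G) : ∃ (t : G) (H : Subgroup G), orderOf t = 2 ∧ t ∈ H ∧ SC H := by
  have h2G := two_dvd_card hG
  by_cases hF : ∀ x y : G, x ≠ 1 → y ≠ 1 → centralizer ({x} : Set G) ≤ centralizer {y} →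
    centralizer ({x} : Set G) = centralizer {y}
  · obtain ⟨z, hz⟩ := exists_prime_orderOf_dvd_card' (G := G) 2 h2G
    exact ⟨z, _, hz, mem_cen.mpr rfl, sc_of_F hF hz⟩
  push Not at hF
  obtain ⟨x₀, y₀, hx₀, hy₀, hle, hne⟩ := hF
  have h12 : co x₀ ∣ co y₀ := card_dvd_of_le hle
  have h12' : co x₀ ≠ co y₀ := fun h => hne (eq_of_le_of_card_ge hle h.ge)
  have hidx := index_dvd_of_co h12
  obtain ⟨p₀, hp₀, -, hp₀d⟩ := exists_prime_ne hG hy₀ Nat.prime_two
  have hcen : ∀ {p : ℕ} {w : G}, p ∣ (centralizer ({y₀} : Set G)).index →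
      ¬ p ∣ (centralizer ({w} : Set G)).index → co x₀ ≠ co w ∧ co y₀ ≠ co w := fun hd hw =>
    ⟨fun h => hw (index_eq_of_co h ▸ hd.trans hidx), fun h => hw (index_eq_of_co h ▸ hd)⟩
  obtain ⟨w₀, hw₀, hw₀i⟩ := H6.exists_central_in_sylow hp₀ (hp₀d.trans (index_dvd_card _))
  have hw₀1 : w₀ ≠ 1 := fun h1 => hp₀.one_lt.ne' (by rw [← hw₀, h1, orderOf_one])
  have tri : ∀ g : G, g ≠ 1 → co g = co x₀ ∨ co g = co y₀ ∨ co g = co w₀ := fun g hg =>
    h3 x₀ y₀ w₀ g hx₀ hy₀ hw₀1 hg h12' (hcen hp₀d hw₀i).1 (hcen hp₀d hw₀i).2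
  have hc3 : ∀ {p : ℕ} {w : G}, w ≠ 1 → p ∣ (centralizer ({y₀} : Set G)).index →
      ¬ p ∣ (centralizer ({w} : Set G)).index → co w = co w₀ := fun hw hd hi =>
    ((tri _ hw).resolve_left (hcen hd hi).1.symm).resolve_left (hcen hd hi).2.symm
  have hcop : (centralizer ({y₀} : Set G)).index.Coprime (centralizer ({w₀} : Set G)).index :=
    Nat.coprime_of_dvd fun p hp hd => by
      obtain ⟨w, hw, hwi⟩ := H6.exists_central_in_sylow hp (hd.trans (index_dvd_card _))
      have hw1 : w ≠ 1 := fun h1 => hp.one_lt.ne' (by rw [← hw, h1, orderOf_one])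
      exact index_eq_of_co (hc3 hw1 hd hwi) ▸ hwi
  have n32 : ¬ co w₀ ∣ co y₀ := fun h => hw₀i (hp₀d.trans (index_dvd_of_co h))
  have n23 : ¬ co y₀ ∣ co w₀ := fun h => H6.centralizer_ne_top_of_simple hG hw₀1
    (index_eq_one.mp (Nat.eq_one_of_dvd_coprimes hcop (index_dvd_of_co h) dvd_rfl))
  have n21 : ¬ co y₀ ∣ co x₀ := fun h => h12' (Nat.dvd_antisymm h12 h)
  have n31 : ¬ co w₀ ∣ co x₀ := fun h => n32 (h.trans h12)
  have nc : ∀ y w : G, y ≠ 1 → w ≠ 1 → co y = co y₀ → co w = co w₀ → w * y ≠ y * w :=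
    fun y w hy hw h1 h2 => not_comm_of_coprime hG hy hw
      (index_eq_of_co h1 ▸ index_eq_of_co h2 ▸ hcop)
  -- an element of type 1 commuting with an element of coprime order
  have t1 : ∀ u y : G, u ≠ 1 → u * y = y * u → (orderOf u).Coprime (orderOf y) → co u = co x₀ →
      centralizer ({u} : Set G) ≤ centralizer {y} := by
    intro u y hu hc hco h1
    have h2 := cen_mul hc hco
    have h4 : co (u * y) ∣ co x₀ := h1 ▸ card_dvd_of_le (h2 ▸ inf_le_left)
    have h5 : co (u * y) = co x₀ := by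
      rcases tri _ (mul_ne_one_of_coprime hc hco hu) with h | h | h
      · exact h
      · exact (n21 (h ▸ h4)).elim
      · exact (n31 (h ▸ h4)).elim
    have : centralizer ({u * y} : Set G) = centralizer {u} :=
      eq_of_le_of_card_ge (h2 ▸ inf_le_left) (h1.trans h5.symm).le
    rw [← this, h2]; exact inf_le_right
  -- an element of type 2 of prime order
  obtain ⟨y, r, hr, hyr, hy1, hy2⟩ : ∃ (y : G) (r : ℕ), r.Prime ∧ orderOf y = r ∧ y ≠ 1 ∧
      co y = co y₀ := by
    obtain ⟨r, hr, hd⟩ := Nat.exists_prime_and_dvd (mt orderOf_eq_one_iff.mp hy₀)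
    obtain ⟨y, hy, hyr, hy1⟩ := exists_mem_orderOf (K := zpowers y₀) hr (by rwa [Nat.card_zpowers])
    refine ⟨y, r, hr, hyr, hy1, ?_⟩
    have h4 : co y₀ ∣ co y := card_dvd_of_le (cen_le_of_mem_zpowers hy)
    rcases tri _ hy1 with h | h | h
    · exact (n21 (h ▸ h4)).elim
    · exact h
    · exact (n23 (h ▸ h4)).elim
  have hp2 : ∀ p, p.Prime → p ∣ (centralizer ({y₀} : Set G)).index → ¬ p ∣ co y₀ := by
    intro p hp hd h
    obtain ⟨u, huy, hu, hu1⟩ := exists_mem_orderOf hp (hy2 ▸ h : p ∣ co y)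
    by_cases hrp : r = p
    · obtain ⟨w, -, hw1, hwi, hc⟩ := exists_central_comm hp (hyr.trans hrp)
      exact nc y w hy1 hw1 hy2 (hc3 hw1 hd hwi) hc
    obtain ⟨w, -, hw1, hwi, hc⟩ := exists_central_comm hp hu
    have hw3 := hc3 hw1 hd hwi
    refine nc y w hy1 hw1 hy2 hw3 (mem_cen.mp (t1 u y hu1 (mem_cen.mp huy) ?_ ?_ (mem_cen.mpr hc)))
    · rw [hu, hyr]; exact (Nat.coprime_primes hp hr).mpr (Ne.symm hrp)
    · rcases tri _ hu1 with h | h | h
      · exact h
      · exact (nc u w hu1 hw1 h hw3 hc).elim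
      · exact (nc y u hy1 hu1 hy2 h (mem_cen.mp huy)).elim
  have t3 : ∀ p, p.Prime → p ∣ (centralizer ({y₀} : Set G)).index → ∀ g : G, g ≠ 1 → p ∣ co g →
      co g = co w₀ := by
    intro p hp hd g hg h
    rcases tri _ hg with h' | h' | h'
    · exact (hp2 p hp hd ((h' ▸ h).trans h12)).elim
    · exact (hp2 p hp hd (h' ▸ h)).elim
    · exact h'
  set B := centralizer ({w₀} : Set G) with hB
  have key : ∀ (p : ℕ) (w : G), p.Prime → p ∣ (centralizer ({y₀} : Set G)).index → orderOf w = p →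
      centralizer ({w} : Set G) = B → ∀ v ∈ B, (orderOf v).Coprime p → B ≤ centralizer {v} := by
    intro p w hp hd hw hwB v hv hco
    have hw1 : w ≠ 1 := fun h1 => hp.one_lt.ne' (by rw [← hw, h1, orderOf_one])
    have hc : w * v = v * w := (mem_cen.mp (hwB ▸ hv)).symm
    have hco' : (orderOf w).Coprime (orderOf v) := hw ▸ hco.symm
    have h2 := cen_mul hc hco'
    have h4 := t3 p hp hd _ (mul_ne_one_of_coprime hc hco' hw1)
      (hw ▸ orderOf_dvd_natCard _ (h2 ▸ (⟨mem_cen.mpr rfl, mem_cen.mpr hc⟩ :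
        w ∈ centralizer ({w} : Set G) ⊓ centralizer ({v} : Set G))))
    have : centralizer ({w * v} : Set G) = B :=
      eq_of_le_of_card_ge (h2 ▸ hwB ▸ inf_le_left) h4.ge
    rw [← this, h2]; exact inf_le_right
  have keq : ∀ v, v ≠ 1 → B ≤ centralizer {v} → centralizer ({v} : Set G) = B := by
    intro v hv h
    exact (eq_of_le_of_card_ge h (t3 p₀ hp₀ hp₀d v hv
      ((hw₀ ▸ orderOf_dvd_natCard B (mem_cen.mpr rfl)).trans (card_dvd_of_le h))).le).symm
  have hn2 : (centralizer ({y₀} : Set G)).index ∣ Nat.card B :=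
    hcop.dvd_of_dvd_mul_left (B.index_mul_card ▸ index_dvd_card _)
  obtain ⟨p₁, hp₁, hp₁₀, hp₁d⟩ := exists_prime_ne hG hy₀ hp₀
  obtain ⟨w₁, hw₁B, hw₁, hw₁1⟩ := exists_mem_orderOf hp₁ (hp₁d.trans hn2)
  have hw₁' := keq w₁ hw₁1 (key p₀ w₀ hp₀ hp₀d hw₀ rfl w₁ hw₁B
    (hw₁ ▸ (Nat.coprime_primes hp₁ hp₀).mpr hp₁₀))
  have hBc : B ≤ centralizer (B : Set G) := by
    refine le_of_forall_isSylowIn_le fun q hq _ => ?_
    obtain ⟨R, hR⟩ := exists_isSylowIn q B
    refine ⟨R, hR, fun v hv b hb => mem_cen.mp (?_ : b ∈ centralizer ({v} : Set G))⟩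
    obtain ⟨k, hk⟩ := hR.pgroup ⟨v, hv⟩
    have h1 : orderOf v ∣ q ^ k := orderOf_dvd_of_pow_eq_one (congrArg Subtype.val hk)
    by_cases hqp : q = p₀
    · exact key p₁ w₁ hp₁ hp₁d hw₁ hw₁' v (hR.le hv) (Nat.Coprime.coprime_dvd_left h1
        (((Nat.coprime_primes hq hp₁).mpr (hqp ▸ hp₁₀.symm)).pow_left k)) hb
    · exact key p₀ w₀ hp₀ hp₀d hw₀ rfl v (hR.le hv) (Nat.Coprime.coprime_dvd_left h1
        (((Nat.coprime_primes hq hp₀).mpr hqp).pow_left k)) hb
  have hSC : SC B := fun v hv hv1 => keq v hv1 fun b hb => mem_cen.mpr (hBc hv b hb)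
  by_cases h2B : 2 ∣ Nat.card B
  · obtain ⟨t, htB, ht, -⟩ := exists_mem_orderOf Nat.prime_two h2B
    exact ⟨t, B, ht, htB, hSC⟩
  exfalso
  have h2n : ¬ 2 ∣ (centralizer ({y₀} : Set G)).index := fun h => h2B (h.trans hn2)
  by_cases hinv : ∃ z : G, orderOf z = 2 ∧ co z = co y₀
  · obtain ⟨z, hz, hz2⟩ := hinv
    have hz1 := H4.ne_one_of_orderOf_two hz
    have h1 : (Nat.card B).Coprime (co z) :=
      hSC.coprime_cen hz1 fun h => n23 ((hz2.symm.trans (hSC.card_cen h)).dvd)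
    have h4 : (centralizer ({z} : Set G)).index = Nat.card B := by
      refine Nat.dvd_antisymm (index_eq_of_co hz2 ▸ hn2) (h1.dvd_of_dvd_mul_right ?_)
      rw [index_mul_card]; exact card_subgroup_dvd_card B
    have h5 := Isolated.of_commute (H4.mul_self_of_orderOf_two hz) fun g hc =>
      eq_of_isConj_of_regular hG hSC hz1 h4 (isConj_iff.mpr ⟨g, rfl⟩) hc.symm
    exact h5.eq_one_or_comm.elim hz1 hG
  push Not at hinv
  have hi1 : ∀ z : G, orderOf z = 2 → co z = co x₀ := fun z hz => by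
    rcases tri z (H4.ne_one_of_orderOf_two hz) with h | h | h
    · exact h
    · exact (hinv z hz h).elim
    · exact (h2B (h ▸ hz ▸ orderOf_dvd_natCard _ (mem_cen.mpr rfl) : 2 ∣ co w₀)).elim
  set Y := centralizer ({y} : Set G) with hY
  have hr2 : r ≠ 2 := fun h => hinv y (hyr.trans h) hy2
  have hYi : ∀ z ∈ Y, orderOf z = 2 → centralizer ({z} : Set G) ≤ Y := fun z hz hz2 =>
    t1 z y (H4.ne_one_of_orderOf_two hz2) (mem_cen.mp hz)
      (by rw [hz2, hyr]; exact (Nat.coprime_primes Nat.prime_two hr).mpr hr2.symm) (hi1 z hz2)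
  have h2Y : 2 ∣ Nat.card Y := by
    rw [← Y.index_mul_card] at h2G
    exact (Nat.prime_two.dvd_mul.mp h2G).resolve_left (index_eq_of_co hy2 ▸ h2n)
  obtain ⟨u, huY, hu, hu1⟩ := exists_mem_orderOf Nat.prime_two h2Y
  have hu2 := H4.mul_self_of_orderOf_two hu
  have hYtop : Y ≠ ⊤ := H6.centralizer_ne_top_of_simple hG hy1
  obtain ⟨g, hg⟩ : ∃ g, g * u * g⁻¹ ∉ Y := by
    by_contra h
    push Not at h
    rcases (normalCore_normal Y).eq_bot_or_eq_top with h2 | h2
    · exact hu1 (mem_bot.mp (h2 ▸ (h : u ∈ Y.normalCore)))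
    · exact hYtop (eq_top_iff.mpr (h2 ▸ normalCore_le _))
  set s := g * u * g⁻¹ with hsdef
  have hs : orderOf s = 2 := by rw [orderOf_conj', hu]
  have hs2 := H4.mul_self_of_orderOf_two hs
  have hodd : ∀ a ∈ Y, orderOf a = 2 → ∃ v, v * v = 1 ∧ v * a * v⁻¹ = s := by
    intro a ha ha2
    have ha2' := H4.mul_self_of_orderOf_two ha2
    have : Odd (orderOf (a * s)) := by
      by_contra h
      obtain ⟨z, -, hz, h1, h2⟩ := H4.exists_central_involution_of_even_orderOf_mul ha2' hs2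
        (isOfFinOrder_of_finite _) (Nat.not_odd_iff_even.mp h)
      exact hg (hYi z (hYi a ha ha2 (mem_cen.mpr h1)) hz (mem_cen.mpr h2.symm))
    obtain ⟨d, hd, hd'⟩ := H4.exists_conj_of_odd_orderOf_mul ha2' hs2 this
    have h1 := H4.conj_eq_inv_of_mem_zpowers (H4.left_conj_mul_eq_inv ha2' hs2) hd
    refine ⟨d * a, ?_, by rw [← hd']; group⟩
    have e : d * a * (d * a) = d * (a * d * a⁻¹) := by
      rw [H4.inv_eq_of_mul_self ha2']; group
    rw [e, h1, mul_inv_cancel]
  obtain ⟨m, hmY, hm⟩ : ∃ m ∈ Y, m ∉ centralizer ({u} : Set G) := by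
    by_contra h
    push Not at h
    exact n21 (hy2 ▸ hi1 u hu ▸ card_dvd_of_le h)
  obtain ⟨v, hv2, hv⟩ := hodd u huY hu
  obtain ⟨v', hv2', hv'⟩ := hodd (m * u * m⁻¹) (mul_mem (mul_mem hmY huY) (inv_mem hmY))
    (by rw [orderOf_conj', hu])
  have hvY : v ∉ Y := fun h => hg (hv ▸ mul_mem (mul_mem h huY) (inv_mem h))
  have hvi := H4.inv_eq_of_mul_self hv2
  have hk : v * v' ∈ Y := by
    have h1 : v * v' * m ∈ centralizer ({u} : Set G) := by
      rw [mem_cen, ← mul_inv_eq_iff_eq_mul]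
      have e : v * v' * m * u * (v * v' * m)⁻¹ = v * (v' * (m * u * m⁻¹) * v'⁻¹) * v⁻¹ := by group
      rw [e, hv', ← hv]
      calc v * (v * u * v⁻¹) * v⁻¹ = (v * v) * u * (v * v)⁻¹ := by group
        _ = u := by rw [hv2]; simp
    exact (Y.mul_mem_cancel_right hmY).mp (hYi u huY hu h1)
  have hk1 : v * v' ≠ 1 := fun h => by
    have h1 : v' = v := by rw [← hvi]; exact eq_inv_of_mul_eq_one_right h
    rw [h1, ← hv] at hv'
    have h2 : m * u * m⁻¹ = u := mul_left_cancel (mul_right_cancel hv')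
    exact hm (mem_cen.mpr (mul_inv_eq_iff_eq_mul.mp h2))
  have hinvk := H4.left_conj_mul_eq_inv hv2 hv2'
  set k := v * v' with hkdef
  have hki : ¬ 2 ∣ (centralizer ({k} : Set G)).index := by
    rcases tri k hk1 with h | h | h
    · obtain ⟨z, hz, hzi⟩ := H6.exists_central_in_sylow Nat.prime_two h2G
      rwa [index_eq_of_co (h.trans (hi1 z hz).symm)]
    · rwa [index_eq_of_co h]
    · exact (nc y k hy1 hk1 hy2 h (mem_cen.mp hk)).elim
  have hvk : v ∉ centralizer ({k} : Set G) := fun h => by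
    rw [mem_cen.mp h, mul_inv_cancel_right] at hinvk
    exact hvY (hYi k hk (H4.orderOf_eq_two_of (mul_eq_one_iff_eq_inv.mpr hinvk) hk1) h)
  have hvn : zpowers v ≤ normalizer ((centralizer ({k} : Set G) : Subgroup G) : Set G) := by
    rw [zpowers_le, ← cj_eq_self_iff, cj_centralizer_singleton, hinvk]
    ext y
    rw [mem_cen, mem_cen]
    exact ⟨fun h => (Commute.inv_right_iff.mp h), fun h => Commute.inv_right_iff.mpr h⟩
  refine hvk (L0.le_of_card_coprime_relIndex hvn normal_in_normalizer ?_ (mem_zpowers v))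
  rw [Nat.card_zpowers, H4.orderOf_eq_two_of hv2 fun h => hvY (h ▸ Y.one_mem)]
  exact (Nat.Prime.coprime_iff_not_dvd Nat.prime_two).mpr
    fun h => hki (h.trans (relIndex_dvd_index_of_le le_normalizer))

theorem psl_of_three' (h3 : Three G) :
    ∃ (m : ℕ) (F : Type) (_ : Field F) (_ : Fintype F), 2 ≤ m ∧ Fintype.card F = 2 ^ m ∧
      Nonempty (G ≃* Matrix.ProjectiveSpecialLinearGroup (Fin 2) F) := by
  obtain ⟨t, H, ht, htH, hH⟩ := exists_sc hG h3
  exact psl_of_three ht htH hH hG h3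

end Cfsg.Agent.H7.CA
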