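import Cfsg.Agent.H7.CA5
import Cfsg.Agent.H7.AbelianSylow
import Cfsg.Agent.H1.SLn

set_option autoImplicit false

/-! Centralizer orders in `SL(2, 2^m)`. -/

namespace Cfsg.Agent.H7.CA

open Subgroup
open scoped MatrixGroups

variable {F : Type*} [Field F]

theorem co_eq_ncard [Finite F] (h2 : (2 : F) = 0) {A : SL(2, F)} (hA : A ≠ 1) :
    co A = {x : F × F | x.1 ^ 2 + (A.1 0 0 + A.1 1 1) * x.1 * x.2 + x.2 ^ 2 = 1}.ncard := by
  have hdet : A.1 0 0 * A.1 1 1 - A.1 0 1 * A.1 1 0 = 1 := by rw [← Matrix.det_fin_two, A.2]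
  have hns : A.1 0 1 ≠ 0 ∨ A.1 1 0 ≠ 0 ∨ A.1 0 0 - A.1 1 1 ≠ 0 := by
    by_contra h
    push Not at h
    obtain ⟨h1, h3, h4⟩ := h
    have h5 : A.1 0 0 = 1 := by
      have : (A.1 0 0 - 1) ^ 2 = 0 := by
        linear_combination hdet + A.1 0 0 * h4 + A.1 1 0 * h1 + (1 - A.1 0 0) * h2
      exact sub_eq_zero.mp (pow_eq_zero_iff two_ne_zero |>.mp this)
    apply hA
    ext i j
    fin_cases i <;> fin_cases j <;> simp [h1, h3, h5]
    linear_combination h5 - h4
  let f : F × F → Matrix (Fin 2) (Fin 2) F := fun x => x.1 • 1 + x.2 • A.1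
  have hf : Function.Injective f := by
    rintro ⟨a, b⟩ ⟨a', b'⟩ h
    have h00 := congrFun (congrFun h 0) 0
    have h01 := congrFun (congrFun h 0) 1
    have h10 := congrFun (congrFun h 1) 0
    have h11 := congrFun (congrFun h 1) 1
    simp [f] at h00 h01 h10 h11
    have : b = b' := by
      rcases hns with h | h | h
      · exact h01.resolve_right h
      · exact h10.resolve_right h
      · exact mul_right_cancel₀ h (by linear_combination h00 - h11)
    subst this
    rw [add_right_cancel h00]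
  have hdf : ∀ x : F × F, (f x).det =
      x.1 ^ 2 + (A.1 0 0 + A.1 1 1) * x.1 * x.2 + x.2 ^ 2 := fun x => by
    rw [Matrix.det_fin_two]
    simp [f]
    linear_combination x.2 ^ 2 * hdet
  rw [co, ← H6.ncard_subgroup, ← Set.ncard_image_of_injective _ hf,
    ← Set.ncard_image_of_injective (f := fun M : SL(2, F) => M.1) _
      (fun a b h => Subtype.ext h)]
  congr 1
  ext M
  constructor
  · rintro ⟨M, hM, rfl⟩
    have h : M.1 * A.1 = A.1 * M.1 := congrArg (fun M : SL(2, F) => M.1) (mem_cen.mp hM)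
    have h00 := congrFun (congrFun h 0) 0
    have h01 := congrFun (congrFun h 0) 1
    have h10 := congrFun (congrFun h 1) 0
    simp [Matrix.mul_apply, Fin.sum_univ_two] at h00 h01 h10
    obtain ⟨b, h1, h3, h4⟩ : ∃ b, M.1 0 1 = b * A.1 0 1 ∧ M.1 1 0 = b * A.1 1 0 ∧
        M.1 0 0 - M.1 1 1 = b * (A.1 0 0 - A.1 1 1) := by
      rcases hns with h | h | h
      · refine ⟨M.1 0 1 / A.1 0 1, by field_simp, ?_, ?_⟩ <;> field_simp
        · linear_combination -h00
        · linear_combination h01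
      · refine ⟨M.1 1 0 / A.1 1 0, ?_, by field_simp, ?_⟩ <;> field_simp
        · linear_combination h00
        · linear_combination -h10
      · refine ⟨(M.1 0 0 - M.1 1 1) / (A.1 0 0 - A.1 1 1), ?_, ?_, by field_simp⟩ <;> field_simp
        · linear_combination -h01
        · linear_combination h10
    have he : f (M.1 0 0 - b * A.1 0 0, b) = M.1 := by
      ext i j
      fin_cases i <;> fin_cases j <;> simp [f, h1, h3]
      linear_combination h4
    exact ⟨_, by rw [Set.mem_ofPred_eq, ← hdf, he, M.2], he⟩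
  · rintro ⟨x, hx, rfl⟩
    refine ⟨⟨f x, (hdf x).trans hx⟩, mem_cen.mpr (Subtype.ext ?_), rfl⟩
    change f x * A.1 = A.1 * f x
    simp [f, add_mul, mul_add]

theorem ncard_conic_zero [Finite F] (h2 : (2 : F) = 0) :
    {x : F × F | x.1 ^ 2 + 0 * x.1 * x.2 + x.2 ^ 2 = 1}.ncard = Nat.card F := by
  have : {x : F × F | x.1 ^ 2 + 0 * x.1 * x.2 + x.2 ^ 2 = 1} =
      (fun a => (a, 1 + a)) '' Set.univ := by
    ext ⟨a, b⟩
    constructor
    · intro h
      simp only [Set.mem_ofPred_eq] at h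
      have : (b - (1 + a)) ^ 2 = 0 := by linear_combination h + (1 + a - b - a * b) * h2
      exact ⟨a, trivial, by rw [sub_eq_zero.mp (pow_eq_zero_iff two_ne_zero |>.mp this)]⟩
    · rintro ⟨c, -, h⟩
      obtain ⟨rfl, rfl⟩ := Prod.ext_iff.mp h
      simp only [Set.mem_ofPred_eq]
      linear_combination (c + c ^ 2) * h2
  rw [this, Set.ncard_image_of_injective _ (fun a b h => congrArg Prod.fst h), Set.ncard_univ]

theorem ncard_conic [Finite F] (h2 : (2 : F) = 0) {τ : F} (hτ : τ ≠ 0) :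
    {x : F × F | x.1 ^ 2 + τ * x.1 * x.2 + x.2 ^ 2 = 1}.ncard +
      {t : F | t ^ 2 + τ * t + 1 = 0}.ncard = Nat.card F + 1 := by
  let g : F → F × F := fun t => (1 + t * (τ / (t ^ 2 + τ * t + 1)), τ / (t ^ 2 + τ * t + 1))
  have hg : Set.InjOn g {t : F | t ^ 2 + τ * t + 1 = 0}ᶜ := by
    intro t ht t' _ h
    have h1 := congrArg Prod.fst h
    have h3 := congrArg Prod.snd h
    simp only [g] at h1 h3
    rw [← h3] at h1
    exact mul_right_cancel₀ (div_ne_zero hτ ht) (add_left_cancel h1)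
  have : {x : F × F | x.1 ^ 2 + τ * x.1 * x.2 + x.2 ^ 2 = 1} =
      insert (1, 0) (g '' {t : F | t ^ 2 + τ * t + 1 = 0}ᶜ) := by
    ext ⟨a, b⟩
    constructor
    · intro h
      simp only [Set.mem_ofPred_eq] at h
      by_cases hb : b = 0
      · left
        subst hb
        have : (a - 1) ^ 2 = 0 := by linear_combination h + (1 - a) * h2
        rw [sub_eq_zero.mp (pow_eq_zero_iff two_ne_zero |>.mp this)]
      · right
        obtain ⟨t, rfl⟩ : ∃ t, a = 1 + t * b := ⟨(a - 1) / b, by field_simp; ring⟩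
        have h1 : b * (t ^ 2 + τ * t + 1) = τ := by
          apply mul_left_cancel₀ hb
          linear_combination h - (t * b + τ * b) * h2
        have h3 : t ^ 2 + τ * t + 1 ≠ 0 := fun h => hτ (by rw [← h1, h, mul_zero])
        have h4 : τ / (t ^ 2 + τ * t + 1) = b := by rw [div_eq_iff h3, h1]
        exact ⟨t, h3, by simp only [g, h4]⟩
    · rintro (h | ⟨t, ht, h⟩)
      · obtain ⟨rfl, rfl⟩ := Prod.ext_iff.mp h
        simp
      · obtain ⟨h1, h3⟩ := Prod.ext_iff.mp h
        simp only [g] at h1 h3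
        rw [h3] at h1
        subst h1
        have h4 : b * (t ^ 2 + τ * t + 1) = τ := by rw [← h3, div_mul_cancel₀ _ ht]
        simp only [Set.mem_ofPred_eq]
        linear_combination b * h4 + (t * b + τ * b) * h2
  rw [this, Set.ncard_insert_of_notMem, hg.ncard_image,
    ← Set.ncard_add_ncard_compl {t : F | t ^ 2 + τ * t + 1 = 0}]
  · ring
  · rintro ⟨t, ht, h⟩
    exact div_ne_zero hτ ht (congrArg Prod.snd h)

theorem ncard_roots (h2 : (2 : F) = 0) {τ r : F} (hτ : τ ≠ 0) (hr : r ^ 2 + τ * r + 1 = 0) :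
    {t : F | t ^ 2 + τ * t + 1 = 0}.ncard = 2 := by
  have : {t : F | t ^ 2 + τ * t + 1 = 0} = {r, r + τ} := by
    ext t
    simp only [Set.mem_ofPred_eq, Set.mem_insert_iff, Set.mem_singleton_iff]
    constructor
    · intro h
      have : (t - r) * (t - (r + τ)) = 0 := by
        linear_combination h - hr + (r ^ 2 + τ * r - t * r - τ * t) * h2
      rcases mul_eq_zero.mp this with h | h
      · exact Or.inl (sub_eq_zero.mp h)
      · exact Or.inr (sub_eq_zero.mp h)
    · rintro (rfl | rfl)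
      · exact hr
      · linear_combination hr + (r * τ + τ ^ 2) * h2
  rw [this, Set.ncard_pair (by simpa using hτ)]

theorem co_SL2 [Finite F] (h2 : (2 : F) = 0) (hF : 4 ≤ Nat.card F) :
    {c | ∃ A : SL(2, F), A ≠ 1 ∧ c = co A} = {Nat.card F - 1, Nat.card F, Nat.card F + 1} := by
  have hex : ∀ τ : F, ∃ A : SL(2, F), A ≠ 1 ∧ A.1 0 0 + A.1 1 1 = τ := fun τ =>
    ⟨⟨!![0, 1; 1, τ], by rw [Matrix.det_fin_two_of]; linear_combination -h2⟩,
      fun h => by simpa using congrFun (congrFun (congrArg Subtype.val h) 0) 0, by simp⟩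
  ext c
  simp only [Set.mem_ofPred_eq, Set.mem_insert_iff, Set.mem_singleton_iff]
  constructor
  · rintro ⟨A, hA, rfl⟩
    rw [co_eq_ncard h2 hA]
    by_cases hτ : A.1 0 0 + A.1 1 1 = 0
    · rw [hτ, ncard_conic_zero h2]; simp
    have h1 := ncard_conic h2 hτ
    by_cases hr : ∃ r, r ^ 2 + (A.1 0 0 + A.1 1 1) * r + 1 = 0
    · obtain ⟨r, hr⟩ := hr
      rw [ncard_roots h2 hτ hr] at h1
      omega
    · have : {t : F | t ^ 2 + (A.1 0 0 + A.1 1 1) * t + 1 = 0} = ∅ :=
        Set.eq_empty_iff_forall_notMem.mpr fun r h => hr ⟨r, h⟩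
      rw [this, Set.ncard_empty] at h1
      omega
  · rintro (rfl | rfl | rfl)
    · obtain ⟨r, hr0, hr⟩ := H1.SLn.exists_sq_ne_one hF
      have hτ : r + r⁻¹ ≠ 0 := fun h => hr (by
        field_simp at h
        linear_combination h - h2)
      obtain ⟨A, hA, h⟩ := hex (r + r⁻¹)
      have h1 := ncard_conic h2 hτ
      rw [ncard_roots h2 hτ (r := r) (by field_simp; linear_combination (r ^ 2 + 1) * h2)] at h1
      exact ⟨A, hA, by rw [co_eq_ncard h2 hA, h]; omega⟩
    · obtain ⟨A, hA, h⟩ := hex 0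
      exact ⟨A, hA, by rw [co_eq_ncard h2 hA, h, ncard_conic_zero h2]⟩
    · obtain ⟨τ, hτ⟩ : ∃ τ : F, ∀ r : Fˣ, (r : F) + (r : F)⁻¹ ≠ τ := by
        by_contra h
        push Not at h
        have := Nat.card_le_card_of_surjective (fun r : Fˣ => (r : F) + (r : F)⁻¹) h
        rw [Nat.card_units] at this
        omega
      have hτ0 : τ ≠ 0 := fun h => hτ 1 (by simp only [Units.val_one, inv_one, h]; linear_combination h2)
      obtain ⟨A, hA, h⟩ := hex τ
      have h1 := ncard_conic h2 hτ0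
      have : {t : F | t ^ 2 + τ * t + 1 = 0} = ∅ := by
        refine Set.eq_empty_iff_forall_notMem.mpr fun r (hr : r ^ 2 + τ * r + 1 = 0) => ?_
        have hr0 : r ≠ 0 := by rintro rfl; simp at hr
        refine hτ (Units.mk0 r hr0) ?_
        simp only [Units.val_mk0]
        field_simp
        linear_combination hr - τ * r * h2
      rw [this, Set.ncard_empty] at h1
      exact ⟨A, hA, by rw [co_eq_ncard h2 hA, h]; omega⟩

theorem co_equiv {G G' : Type*} [Group G] [Group G'] (e : G ≃* G') (x : G) : co (e x) = co x := by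
  refine (Nat.card_congr (e.toEquiv.subtypeEquiv fun y => ?_)).symm
  rw [mem_cen, mem_cen]
  simp only [MulEquiv.toEquiv_eq_coe, EquivLike.coe_coe]
  rw [← map_mul, ← map_mul, e.apply_eq_iff_eq]

end Cfsg.Agent.H7.CA
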