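import Cfsg.Agent.H7.WC3

/-! Characterization of `J₁` by the weak closure of an involution in its centralizer. -/

set_option autoImplicit false

namespace Cfsg.Agent.H7.Jk

open Subgroup Cfsg.Agent.H8

universe u

variable {G : Type u} [Group G] {t : G} {φ : A5 →* G}

def Dc (t x : G) : Prop := ∃ g, x = g * t * g⁻¹

theorem Dc.cj (x : G) (h : Dc t x) (g : G) : Dc t (g * x * g⁻¹) := by
  obtain ⟨n, rfl⟩ := h
  exact ⟨g * n, by group⟩

theorem Dc.rfl : Dc t t := ⟨1, by simp⟩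

theorem Dc.of_cj {x : G} (g : G) (h : Dc t (g * x * g⁻¹)) : Dc t x := by
  have := h.cj _ g⁻¹
  rwa [show g⁻¹ * (g * x * g⁻¹) * g⁻¹⁻¹ = x by group] at this

theorem W0.full [Finite G] (h : W0 (Dc t) t φ) (S : Sylow 2 G) (hS : t ∈ (S : Subgroup G))
    (hc : ∀ s ∈ (S : Subgroup G), s * t = t * s) {x : G} (hx : Dc t x) (c : Commute x t) (ne : x ≠ t) :
    WT (Dc t) t φ := by
  have iv : ∀ x, Dc t x → Iv x := by
    rintro _ ⟨g, rfl⟩
    exact h.iv.conj g
  have ka : ∀ a b, Iv a → Iv b → Dc t (φ a) → Dc t (φ b) := fun a b ha hb e => by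
    obtain ⟨g, rfl⟩ := A5.conj_two a ha.2 ha.1 b hb.2 hb.1
    simpa using e.cj _ (φ g)
  have kb : ∀ a b, Iv a → Iv b → Dc t (t * φ a) → Dc t (t * φ b) := fun a b ha hb e => by
    obtain ⟨g, rfl⟩ := A5.conj_two a ha.2 ha.1 b hb.2 hb.1
    have := e.cj _ (φ g)
    rw [cj_mul', conj_eq_of_cm (h.comm g)] at this
    simpa using this
  obtain ⟨a, ha, e | e⟩ := h.cases hx (iv x hx) c ne
  · have da := fun b hb => ka a b ha hb (e ▸ hx)
    refine ⟨h, Dc.rfl, da, fun b hb => by_contra fun nb => ?_⟩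
    obtain ⟨v, v1, v2, v3, -⟩ := exists_other ha
    obtain ⟨g, hg⟩ := da a ha
    have j := h.conj Dc.cj g
    have key : ∀ c, Iv c → ¬ Dc t (g * t * g⁻¹ * ((MulAut.conj g).toMonoidHom.comp φ) c) := fun c hc e =>
      nb (kb c b hc hb (Dc.of_cj g (by rw [cj_mul']; exact e)))
    rw [← hg] at j key
    obtain ⟨c, hc, e | e⟩ := j.cases (da v v1) (h.iv_iff.mpr v1) (h.cm.mpr v2) fun e => v3 (h.inj e)
    · exact key c hc (e ▸ map_mul φ a v ▸ da _ (ha.mul v1 v2 v3))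
    · exact key c hc (e ▸ da v v1)
  have db := fun b hb => kb a b ha hb (e ▸ hx)
  refine ⟨h, Dc.rfl, fun b hb => by_contra fun nb => ?_, db⟩
  have hSC : (S : Subgroup G) ≤ centralizer {t} := fun s hs => mem_centralizer_singleton_iff.mpr (hc s hs)
  have hN : centralizer {t} ≤ normalizer (φ.range : Set G) := fun g hg => mem_normalizer_of_conj (by
    rintro _ ⟨a, rfl⟩
    obtain ⟨b, hb⟩ := h.norm g (mem_centralizer_singleton_iff.mp hg) a
    exact ⟨b, hb.symm⟩)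
  have h1 := ((isSylowIn_top S).of_le hSC le_top).inf_of_le_normalizer hN
  obtain ⟨_, ⟨vS, v, rfl⟩, v1, v2, -⟩ := H5.exists_mem_centralizer_of_isPGroup h1.pgroup S.2
    (fun s hs => mem_normalizer_of_conj fun y hy => mem_inf.mpr
      ⟨conj_mem (le_normalizer hs) hy.1, conj_mem (hN (hSC hs)) hy.2⟩)
    (h1.ne_bot ((h.iv_iff.mpr ha).ord.symm.dvd.trans (orderOf_dvd_natCard _
      (mem_inf.mpr ⟨mem_centralizer_singleton_iff.mpr (h.comm a), a, rfl⟩))))
  have iv' := h.iv_iff.mp (Iv.of_ord v1)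
  rw [mem_centralizer_iff] at v2
  have odd : Odd ((centralizer {t}).relIndex (normalizer ((S : Subgroup G) : Set G))) := by
    have h2 := (H6.sylow_two_index_odd S).of_dvd_nat
      (relIndex_dvd_index_of_le (K := normalizer ((S : Subgroup G) : Set G)) le_normalizer)
    exact h2.of_dvd_nat (relIndex_dvd_of_le_left _ hSC)
  rw [relIndex_centralizer_eq] at odd
  set Y := (fun s => s * t * s⁻¹) '' (normalizer ((S : Subgroup G) : Set G) : Set G) with hY
  have mY : ∀ y, y ∈ Y ↔ Dc t y ∧ ∀ s ∈ (S : Subgroup G), Commute s y := fun y => by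
    constructor
    · rintro ⟨n, hn, rfl⟩
      refine ⟨⟨n, rfl⟩, fun s hs => ?_⟩
      have := cm_conj (hc _ (conj_mem (inv_mem hn) hs)) n
      rwa [show n * (n⁻¹ * s * n⁻¹⁻¹) * n⁻¹ = s by group] at this
    · rintro ⟨⟨g, rfl⟩, hy⟩
      exact H6.burnside_fusion S hc hy
  have cl : ∀ y ∈ Y, φ v * y ∈ Y := fun y hy => by
    rw [mY] at hy ⊢
    refine ⟨?_, fun s hs => Commute.mul_right (v2 s hs) (hy.2 s hs)⟩
    by_cases e : y = t
    · rw [e, (h.comm v).eq]; exact db v iv'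
    obtain ⟨c, hc, rfl | rfl⟩ := h.cases hy.1 (iv y hy.1) (hy.2 t hS).symm e
    · exact absurd (ka c b hc hb hy.1) nb
    rw [← mul_assoc, (h.comm v).eq, mul_assoc, ← map_mul]
    by_cases e' : c = v
    · rw [e', iv'.1, map_one, mul_one]; exact Dc.rfl
    exact db _ (iv'.mul hc (h.cm.mp (h.cancel (h.comm v) (hy.2 _ vS))).symm e')
  refine odd.not_two_dvd_nat (H6.dvd_ncard_of_fibers (fun y => ({y, φ v * y} : Set G)) Y fun y hy => ?_)
  have : {x | x ∈ Y ∧ ({x, φ v * x} : Set G) = {y, φ v * y}} = {y, φ v * y} := by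
    ext x
    constructor
    · rintro ⟨-, e⟩
      exact e ▸ Or.inl rfl
    · rintro (rfl | rfl)
      · exact ⟨hy, rfl⟩
      · exact ⟨cl y hy, by rw [(Iv.of_ord v1).cancel, Set.pair_comm]⟩
  rw [this, Set.ncard_pair (by simpa using (Iv.of_ord v1).2)]

theorem exists_W0 (ht : Iv t) (e : closure {x : G | ∃ g : G, x = g * t * g⁻¹ ∧ x * t = t * x} ≃*
    Multiplicative (ZMod 2) × alternatingGroup (Fin 5)) :
    ∃ φ, W0 (Dc t) t φ ∧ ∃ x, Dc t x ∧ Commute x t ∧ x ≠ t := by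
  obtain ⟨ε⟩ := A5.nonempty_equiv
  set W := closure {x : G | ∃ g : G, x = g * t * g⁻¹ ∧ x * t = t * x} with hW
  replace e := e.trans (MulEquiv.prodCongr (MulEquiv.refl _) ε.symm)
  have mem : ∀ x, Dc t x → Commute x t → x ∈ W := fun x ⟨g, hg⟩ c => subset_closure ⟨g, hg, c⟩
  have tW := mem t Dc.rfl (Commute.refl t)
  have hC : W ≤ centralizer {t} := (closure_le _).mpr fun x ⟨_, _, c⟩ => mem_centralizer_singleton_iff.mpr c
  have hN : ∀ g, Commute g t → ∀ x ∈ W, g * x * g⁻¹ ∈ W := fun g hg x hx => by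
    have : W ≤ W.comap (MulAut.conj g).toMonoidHom := (closure_le _).mpr fun y ⟨n, hn, c⟩ =>
      mem _ (Dc.cj y ⟨n, hn⟩ g) (conj_eq_of_cm hg ▸ cm_conj c g)
    exact this hx
  set φ : A5 →* G := W.subtype.comp (e.symm.toMonoidHom.comp (MonoidHom.inr _ _)) with hφ
  have comm : ∀ a, Commute (φ a) t := fun a => mem_centralizer_singleton_iff.mp (hC (e.symm (1, a)).2)
  have inj : Function.Injective φ := W.subtype_injective.comp (e.symm.injective.comp fun a b h =>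
    congrArg Prod.snd h)
  have t2 : (e ⟨t, tW⟩).2 = 1 := A5.cen _ fun b => by
    have : (⟨t, tW⟩ : W) * e.symm (1, b) = e.symm (1, b) * ⟨t, tW⟩ := Subtype.ext (comm b).symm
    simpa using congrArg (fun x => (e x).2) this
  have t1 : (e ⟨t, tW⟩).1 ≠ 1 := fun h => ht.2 (congrArg Subtype.val
    (e.injective ((Prod.ext h t2).trans (map_one e).symm) : (⟨t, tW⟩ : W) = 1))
  have dec : ∀ x ∈ W, ∃ a, x = φ a ∨ x = t * φ a := fun x hx => by
    refine ⟨(e ⟨x, hx⟩).2, ?_⟩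
    have : ∀ a b : Multiplicative (ZMod 2), b ≠ 1 → a = 1 ∨ a = b := by decide
    rcases this (e ⟨x, hx⟩).1 _ t1 with h | h
    · exact Or.inl (congrArg Subtype.val (e.injective (Prod.ext (by simp [h]) (by simp)) :
        (⟨x, hx⟩ : W) = e.symm (1, _)))
    · exact Or.inr (congrArg Subtype.val (e.injective (Prod.ext (by simp [h]) (by simp [t2])) :
        (⟨x, hx⟩ : W) = ⟨t, tW⟩ * e.symm (1, _)))
  refine ⟨φ, ⟨ht, inj, comm, fun a h => t1 ?_, fun x hx c => dec x (mem x hx c), fun g hg a => ?_⟩, ?_⟩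
  · rw [show (⟨t, tW⟩ : W) = e.symm (1, a) from Subtype.ext h.symm]; simp
  · obtain ⟨b, c, rfl⟩ := A5.exists_comm a
    obtain ⟨b', hb⟩ := dec _ (hN g hg _ (e.symm (1, b)).2)
    obtain ⟨c', hc⟩ := dec _ (hN g hg _ (e.symm (1, c)).2)
    change g * φ b * g⁻¹ = _ ∨ g * φ b * g⁻¹ = _ at hb
    change g * φ c * g⁻¹ = _ ∨ g * φ c * g⁻¹ = _ at hc
    refine ⟨b' * c' * b'⁻¹ * c'⁻¹, ?_⟩
    have k1 : ∀ y, Commute y t → g * φ b * g⁻¹ * y * (g * φ b * g⁻¹)⁻¹ = φ b' * y * (φ b')⁻¹ := fun y hy => by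
      rcases hb with h | h <;> rw [h]
      rw [show t * φ b' * y * (t * φ b')⁻¹ = t * (φ b' * y * (φ b')⁻¹) * t⁻¹ by group,
        conj_eq_of_cm (((comm b').mul_left hy).mul_left (comm b').inv_left).symm]
    simp only [map_mul, map_inv]
    rw [show g * (φ b * φ c * (φ b)⁻¹ * (φ c)⁻¹) * g⁻¹ =
      g * φ b * g⁻¹ * (g * φ c * g⁻¹) * (g * φ b * g⁻¹)⁻¹ * (g * φ c * g⁻¹)⁻¹ by group,
      k1 _ ((hg.mul_left (comm c)).mul_left hg.inv_left)]
    rcases hc with h | h <;> rw [h]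
    rw [cj_mul', conj_eq_of_cm (comm b'), mul_inv_rev, ← mul_assoc, mul_assoc t,
      conj_eq_of_cm (((((comm b').mul_left (comm c')).mul_left (comm b').inv_left).mul_left
        (comm c').inv_left)).symm]
  · by_contra! H
    have : W ≤ zpowers t := (closure_le _).mpr fun x ⟨g, hg, c⟩ => H x ⟨g, hg⟩ c ▸ mem_zpowers t
    obtain ⟨a, -, -, ⟨a1, -⟩, -⟩ := A5.exists_gen
    exact a1 (A5.cen a fun b => inj (by
      rw [map_mul, map_mul]; exact (cm_zp (comm b).symm (this (e.symm (1, a)).2)).eq))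

theorem jan_of_weak [Finite G] (ht : Iv t) (S : Sylow 2 G) (hS : t ∈ (S : Subgroup G))
    (hc : ∀ s ∈ (S : Subgroup G), s * t = t * s)
    (e : closure {x : G | ∃ g : G, x = g * t * g⁻¹ ∧ x * t = t * x} ≃*
      Multiplicative (ZMod 2) × alternatingGroup (Fin 5)) : Jan (normalClosure ({t} : Set G)) := by
  obtain ⟨φ, h0, x, h1, h2, h3⟩ := exists_W0 ht e
  have h := h0.full S hS hc h1 h2 h3
  have k : WK (Dc t) := ⟨Dc.cj, by
    rintro _ ⟨g, rfl⟩
    refine ⟨_, h0.conj Dc.cj g, ⟨g, rfl⟩, fun a ha => (h.da a ha).cj _ g, fun a ha => ?_⟩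
    have := (h.db a ha).cj _ g
    rwa [cj_mul'] at this⟩
  have ho : Odd (centralizer ({t} : Set G)).index := (H6.sylow_two_index_odd S).of_dvd_nat
    (index_dvd_of_le fun x hx => mem_centralizer_singleton_iff.mpr (hc x hx))
  have : Xc (Dc t) t = normalClosure {t} := by
    refine congrArg Subgroup.closure (Set.ext fun x => ⟨fun hx => ?_, fun hx => ?_⟩)
    · obtain ⟨g, rfl⟩ := Dl.mem Dc.rfl hx
      exact Group.mem_conjugatesOfSet_iff.mpr ⟨t, rfl, isConj_iff.mpr ⟨g, rfl⟩⟩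
    · obtain ⟨_, rfl, hy⟩ := Group.mem_conjugatesOfSet_iff.mp hx
      obtain ⟨g, rfl⟩ := isConj_iff.mp hy
      exact (k.mc_eq_top h ho ▸ mem_top g : g ∈ k.Mc h.dt)
  exact this ▸ k.jan' h ho

end Cfsg.Agent.H7.Jk
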