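import Cfsg.Agent.WA.IG0
import Cfsg.Agent.WA.WJ1
import Cfsg.Agent.H5.GWc4
import Cfsg.Agent.H7.WC4

/-! Simple groups in which four-groups containing a 2-central involution lie in a unique Sylow subgroup. -/

set_option autoImplicit false

namespace Cfsg.Agent.H7.CI

open Subgroup H8 H2.SC WA Jk
open GW (Cz mem_Cz)
open scoped MatrixGroups

universe u

/-- Goldschmidt's theorem for simple groups -/
def GSh : Prop := ∀ n, GS.IH.{u} n

def U1 (G : Type*) [Group G] : Prop :=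
  ∀ S T : Subgroup G, IsSylowIn 2 S ⊤ → IsSylowIn 2 T ⊤ → ∀ z ∈ omZ S, ∀ u ∈ S, z ≠ 1 → u * u = 1 → u ≠ 1 →
    u ≠ z → z ∈ T → u ∈ T → S = T

def List3 (G : Type*) [Group G] : Prop :=
  (∃ (n : ℕ) (F : Type) (_ : Field F) (_ : Fintype F), 2 ≤ n ∧ Fintype.card F = 2 ^ n ∧
      Nonempty (G ≃* Matrix.ProjectiveSpecialLinearGroup (Fin 2) F)) ∨
    (∃ (m : ℕ) (F : Type) (_ : Field F) (_ : Fintype F), 1 ≤ m ∧ Fintype.card F = 2 ^ (2 * m + 1) ∧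
      Nonempty (G ≃* ↥(Cfsg.Lie.Sz F (2 ^ (m + 1))))) ∨
    (∃ (n : ℕ) (F : Type) (_ : Field F) (_ : Fintype F), 2 ≤ n ∧ Fintype.card F = 4 ^ n ∧
      Nonempty (G ≃* Cfsg.PSU 3 F (2 ^ n)))

def List5 (G : Type*) [Group G] : Prop :=
  (∃ (n : ℕ) (F : Type) (_ : Field F) (_ : Fintype F), 2 ≤ n ∧ Fintype.card F = 2 ^ n ∧
      Nonempty (G ≃* Matrix.ProjectiveSpecialLinearGroup (Fin 2) F)) ∨
    (∃ (m : ℕ) (F : Type) (_ : Field F) (_ : Fintype F), 1 ≤ m ∧ Fintype.card F = 2 ^ (2 * m + 1) ∧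
      Nonempty (G ≃* ↥(Cfsg.Lie.Sz F (2 ^ (m + 1))))) ∨
    (∃ (n : ℕ) (F : Type) (_ : Field F) (_ : Fintype F), 2 ≤ n ∧ Fintype.card F = 4 ^ n ∧
      Nonempty (G ≃* Cfsg.PSU 3 F (2 ^ n))) ∨
    (∃ (F : Type) (_ : Field F) (_ : Fintype F), (Fintype.card F % 8 = 3 ∨ Fintype.card F % 8 = 5) ∧
      5 < Fintype.card F ∧ Nonempty (G ≃* Matrix.ProjectiveSpecialLinearGroup (Fin 2) F)) ∨
    Cfsg.IsJ1 G

variable {G : Type u} [Group G] [Finite G]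

omit [Finite G] in
theorem List3.list5 (h : List3 G) : List5 G := by
  rcases h with h | h | h
  exacts [Or.inl h, Or.inr (Or.inl h), Or.inr (Or.inr (Or.inl h))]

theorem list3_of_se [IsSimpleGroup G] (hG : ¬ IsMulCommutative G) (h : W.SEm G) : List3 G := by
  obtain ⟨M, hM⟩ := h
  rcases BS.bender_simple hG hM with ⟨F, i1, i2, i3, h1, e⟩ | ⟨F, i1, i2, n, h1, h2, e⟩ |
    ⟨F, i1, i2, n, h1, h2, e⟩
  · obtain ⟨n, h2, h3⟩ := W.exists_pow_card h1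
    exact Or.inl ⟨n, F, i1, i2, h2, h3, e⟩
  · exact Or.inr (Or.inr ⟨n, F, i1, i2, h1, by rw [h2, ← pow_mul, mul_comm, pow_mul]; rfl, e⟩)
  · exact Or.inr (Or.inl ⟨n, F, i1, i2, h1, h2, e⟩)

theorem a5_cent : ∃ s : A5, s * s = 1 ∧ s ≠ 1 ∧ (∀ y, y * s = s * y → y ≠ 1 → ∃ g, g * s * g⁻¹ = y) ∧
    (Finset.univ.filter fun y => y * s = s * y).card = 4 := by decide +kernel

theorem list3_of_card [IsSimpleGroup G] (h : Nat.card G = 60) : List3 G := by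
  obtain ⟨e⟩ := H5.equiv_A5_of_card h
  obtain ⟨ε⟩ := A5.nonempty_equiv
  obtain ⟨s, s1, s2, s3, s4⟩ := a5_cent
  have : Fintype (GaloisField 2 2) := Fintype.ofFinite _
  have hF := BS.Rec.card_GF (n := 2) two_ne_zero
  obtain ⟨e'⟩ := H6.psl_even s1 (fun y h1 h2 => isConj_iff.mpr (s3 y h1 h2)) hF (by rw [A5.card]; rfl) s2 (by
    rw [← H6.ncard_subgroup, show (2 : ℕ) ^ 2 = 4 from rfl, ← s4, ← Set.ncard_coe_finset]
    congr 1
    ext y
    simp [mem_centralizer_singleton_iff])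
  exact Or.inl ⟨2, _, _, this, le_rfl, hF, ⟨(e.trans ε.symm).trans e'⟩⟩

theorem list5_of_v4 [IsSimpleGroup G] (hG : ¬ IsMulCommutative G) (h : W.V4 G) : List5 G := by
  obtain ⟨S, hS⟩ := exists_isSylowIn 2 (⊤ : Subgroup G)
  obtain ⟨F, i1, i2, h1, h2, ⟨e⟩⟩ := W.psl_mod_eight hG hS (h S hS)
  by_cases h5 : Fintype.card F = 5
  · have := H5.card_of_psl (by rw [h5]; decide) e
    rw [h5] at this
    exact (list3_of_card (by omega)).list5
  · exact Or.inr (Or.inr (Or.inr (Or.inl ⟨F, i1, i2, h1, by omega, ⟨e⟩⟩)))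

theorem card_of_se [IsSimpleGroup G] (hG : ¬ IsMulCommutative G) (h : W.SEm G) {S : Subgroup G}
    (hS : IsSylowIn 2 S ⊤) (h4 : Nat.card S = 4) : Nat.card G = 60 := by
  obtain ⟨M, hM⟩ := h
  have : IsMulCommutative S := IsPGroup.isMulCommutative_of_card_eq_prime_sq (p := 2) h4
  obtain ⟨F, i1, i2, n, h1, h2, ⟨e⟩⟩ := Clos.psl_of_se hG hM hS (sylow_ne_bot hG hS)
    fun x hx y hy => comm_of_mem this hx hy
  have : CharP F 2 := charP_of_card_eq_prime_pow h2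
  have h3 := (Nat.card_congr e.toEquiv).trans W.card_PSL2_even
  rw [h2] at h3
  have h5 := H6.sylow_card_of h3 (by
    have : 2 ∣ (2 ^ n) ^ 2 := dvd_pow (dvd_pow_self 2 (by omega)) two_ne_zero
    have : 0 < (2 ^ n) ^ 2 := by positivity
    omega) hS.toSylowTop
  rw [← h5, show Nat.card (hS.toSylowTop : Subgroup G) = 4 from h4] at h3
  exact h3

theorem jan_of_W0 {t : G} {φ : A5 →* G} (h0 : W0 (Dc t) t φ) (S : Sylow 2 G) (hS : t ∈ (S : Subgroup G))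
    (hc : ∀ s ∈ (S : Subgroup G), s * t = t * s) {x : G} (h1 : Dc t x) (h2 : Commute x t) (h3 : x ≠ t) :
    Jan (normalClosure ({t} : Set G)) := by
  have h := h0.full S hS hc h1 h2 h3
  have k : WK (Dc t) := ⟨Dc.cj, by
    rintro _ ⟨g, rfl⟩
    refine ⟨_, h0.conj Dc.cj g, ⟨g, rfl⟩, fun a ha => (h.da a ha).cj _ g, fun a ha => ?_⟩
    have := (h.db a ha).cj _ g
    rwa [cj_mul'] at this⟩
  have ho : Odd (centralizer ({t} : Set G)).index := (H6.sylow_two_index_odd S).of_dvd_nat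
    (index_dvd_of_le fun x hx => mem_centralizer_singleton_iff.mpr (hc x hx))
  have : Xc (Dc t) t = normalClosure {t} := by
    refine congrArg Subgroup.closure (Set.ext fun x => ⟨fun hx => ?_, fun hx => ?_⟩)
    · obtain ⟨g, rfl⟩ := Dl.mem Dc.rfl hx
      exact Group.mem_conjugatesOfSet_iff.mpr ⟨t, rfl, isConj_iff.mpr ⟨g, rfl⟩⟩
    · obtain ⟨_, rfl, hy⟩ := Group.mem_conjugatesOfSet_iff.mp hx
      obtain ⟨g, rfl⟩ := isConj_iff.mp hy
      exact (k.mc_eq_top h ho ▸ mem_top g : g ∈ k.Mc h.dt)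
  exact this ▸ k.jan' h ho

omit [Finite G] in
theorem mem_of_odd_relIndex {K E : Subgroup G} (hn : E ≤ normalizer (K : Set G)) (ho : Odd (K.relIndex E))
    {y : G} (hy : y ∈ E) {k : ℕ} (h : y ^ 2 ^ k ∈ K) : y ∈ K := by
  have := normal_subgroupOf_of_le_normalizer hn
  have h1 : y ^ K.relIndex E ∈ K := (K.subgroupOf E).pow_index_mem ⟨y, hy⟩
  obtain ⟨m, hm⟩ := exists_pow_eq_self_of_coprime
    (x := (QuotientGroup.mk ⟨y, hy⟩ : E ⧸ K.subgroupOf E)) (n := 2 ^ k) (Nat.Coprime.pow_left k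
      ((Nat.coprime_two_left.mpr ho).coprime_dvd_right (orderOf_dvd_natCard _)))
  rw [← QuotientGroup.mk_pow, (QuotientGroup.eq_one_iff _).mpr (show _ ∈ K.subgroupOf E from h), one_pow,
    eq_comm, QuotientGroup.eq_one_iff] at hm
  exact hm

theorem U1.closed (h : U1 G) {S : Subgroup G} (hS : IsSylowIn 2 S ⊤) {a : G} (ha : a ∈ omZ S) (g : G)
    (hg : g * a * g⁻¹ ∈ S) : g * a * g⁻¹ ∈ omZ S := by
  by_cases e : g * a * g⁻¹ = a
  · rwa [e]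
  have a1 : a ≠ 1 := fun e' => e (by simp [e'])
  have iv := Iv.conj ⟨ha.2.1, a1⟩ g
  have h1 : g * a * g⁻¹ ∈ omZ (cj g S) := cj_omZ g S ▸ conj_mem_cj g ha
  obtain ⟨T, hT, aT⟩ := W.exists_sylow_mem (W.pw_of_sq ha.2.1) (mem_Cz.mpr (ha.2.2 _ hg).symm)
  have h2 := hS.cj g
  rw [cj_top] at h2
  have h3 := h2.of_le (H := Cz (g * a * g⁻¹)) (fun x hx => mem_Cz.mpr (h1.2.2 x hx)) le_top
  have h4 := h2.of_card_ge hT.pgroup le_top (h3.card_eq_card hT).le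
  have h5 := h S T hS h4 a ha _ hg a1 iv.1 iv.2 e aT (hT.le_of_le_normalizer (W.pg_sq iv.1)
    (by rw [zpowers_le]; exact mem_Cz.mpr rfl) (fun x hx => mem_normalizer_of_conj fun y hy => by
      rwa [conj_eq_of_cm (cm_zp (Commute.symm (mem_Cz.mp (hT.le hx))) hy).symm]) (mem_zpowers _))
  exact ⟨hg, iv.1, fun s hs => mem_Cz.mp (hT.le (h5 ▸ hs))⟩

theorem U1.card_jr [IsSimpleGroup G] (hG : ¬ IsMulCommutative G) (h : U1 G) (J : W.JR G) :
    Nat.card G = 175560 := by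
  obtain ⟨S, hS⟩ := exists_isSylowIn 2 (⊤ : Subgroup G)
  obtain ⟨t, tS, v, vS, ht, hv, ne, -⟩ := Clos.exists_four_mem hG hS (sylow_ne_bot hG hS)
  have ab := J.ab S hS.pgroup
  obtain ⟨E, K, ⟨-, h1, -, h2, h3⟩, h4, hs, nc, h5, -, h6, h7⟩ := J.exists_E (Iv.ord ht)
  have hSC : S ≤ Cz t := fun s hs => mem_Cz.mpr (ab s hs t tS)
  have hP := (hS.of_le hSC le_top).inf_of_le_normalizer h5
  rw [inf_eq_right.mpr (h4.trans h1)] at hP
  have tK : t ∉ K := fun e => ht.2 (mem_bot.mp (h2 ▸ mem_inf.mpr ⟨mem_zpowers t, h4 e⟩))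
  have hc : Nat.card K = 60 := card_of_se nc ⟨_, Dich.stronglyEmbedded_of
      (H6.normalizer_ne_top_of_pgroup nc (Clos.sylow_sub hP).pgroup (sylow_ne_bot nc (Clos.sylow_sub hP)))
      (Clos.sylow_sub hP) (sylow_ne_bot nc (Clos.sylow_sub hP)) le_rfl fun w hw w2 k hk => by
        have iw := Iv.of_ord ((orderOf_coe w).trans w2)
        have h8 := hS.cj k
        rw [cj_top] at h8
        have := h S _ hS h8 t ⟨tS, ht.1, fun s hs => ab s hs t tS⟩ w hw.1 ht.2 iw.1 iw.2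
          (fun e => tK (e ▸ w.2)) (conj_eq_of_cm (mem_Cz.mp (h1 (h4 k.2))) ▸ conj_mem_cj k.1 tS)
          (conj_eq_of_cm (congrArg Subtype.val (mem_Cz.mp hk)) ▸ conj_mem_cj k.1 hw.1)
        exact mem_normalizer_of_conj fun x hx => ⟨this ▸ conj_mem_cj k.1 hx.1, (k * x * k⁻¹).2⟩⟩
    (Clos.sylow_sub hP) (by rw [Nat.card_congr (subgroupOfEquivOfLe hP.le).toEquiv, h7 _ hP])
  obtain ⟨e⟩ := H5.equiv_A5_of_card hc
  obtain ⟨ε⟩ := A5.nonempty_equiv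
  replace e := ε.trans e.symm
  have sur : ∀ y ∈ K, ∃ a, y = K.subtype.comp e.toMonoidHom a := fun y hy =>
    ⟨e.symm ⟨y, hy⟩, by simp⟩
  have h0 : W0 (Dc t) t (K.subtype.comp e.toMonoidHom) := by
    refine ⟨ht, K.subtype_injective.comp e.injective, fun a => mem_Cz.mp (h1 (h4 (e a).2)),
      fun a ha => tK (ha ▸ (e a).2), ?_, fun g hg a => sur _ (conj_mem (h5 (mem_Cz.mpr hg)) (e a).2)⟩
    rintro x ⟨g, hg⟩ c
    have x2 : x * x = 1 := (hg ▸ Iv.conj ht g).1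
    have hx : x ∈ zpowers t ⊔ E := h3 ▸ mem_Cz.mpr c
    have hn : E ≤ normalizer ((zpowers t : Subgroup G) : Set G) := fun b hb =>
      mem_normalizer_of_conj fun a ha => by
        rwa [conj_eq_of_cm (cm_zp (Commute.symm (mem_Cz.mp (h1 hb))) ha).symm]
    rw [← SetLike.mem_coe, coe_mul_of_right_le_normalizer_left _ _ hn] at hx
    obtain ⟨a, ha, b, hb, rfl⟩ := hx
    have b2 : b ^ 2 ^ 1 = 1 := by
      rcases Iv.mem_zp ht ha with rfl | rfl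
      · simpa [pow_two] using x2
      · rwa [← pow_two, Commute.mul_pow (Commute.symm (mem_Cz.mp (h1 hb))), pow_two, ht.1, one_mul] at x2
    obtain ⟨d, rfl⟩ := sur b (mem_of_odd_relIndex (h1.trans h5) h6 hb (b2 ▸ one_mem _))
    rcases Iv.mem_zp ht ha with rfl | rfl
    exacts [⟨d, Or.inl (one_mul _)⟩, ⟨d, Or.inr rfl⟩]
  obtain ⟨n, -, hn⟩ := J.fus S hS t tS v vS ht.2 hv.2
  have := (jan_of_W0 h0 hS.toSylowTop tS (fun s hs => ab s hs t tS) ⟨n, hn.symm⟩ (ab v vS t tS)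
    ne.symm).card_eq.1
  have h9 : normalClosure ({t} : Set G) = ⊤ :=
    (IsSimpleGroup.eq_bot_or_eq_top_of_normal _ normalClosure_normal).resolve_left fun e =>
      ht.2 (mem_bot.mp (e ▸ (subset_normalClosure (s := {t}) rfl : t ∈ normalClosure ({t} : Set G))))
  rwa [h9, card_top] at this

theorem U1.typ (hGS : GSh.{u}) [IsSimpleGroup G] (hG : ¬ IsMulCommutative G) (h : U1 G) : W.Typ G := by
  obtain ⟨S, hS⟩ := exists_isSylowIn 2 (⊤ : Subgroup G)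
  rcases hGS _ G (Nat.lt_succ_self _) hG (omZ S) (GS.SC.of_sylow hS (omZ_le S) (fun a ha => ha.2.1)
    fun a ha g _ => h.closed hS ha g) (omZ_ne_bot hS.pgroup (sylow_ne_bot hG hS)) with h1 | h1 | h1
  · exact Or.inl ⟨_, h1⟩
  · exact Or.inr (Or.inl fun T hT => (hT.card_eq_card h1.1).trans h1.2)
  · exact Or.inr (Or.inr h1.2)

theorem U1.list5 [IsSimpleGroup G] (hG : ¬ IsMulCommutative G) (h : U1 G) (ty : W.Typ G) : List5 G := by
  rcases ty with h1 | h1 | h1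
  · exact (list3_of_se hG h1).list5
  · exact list5_of_v4 hG h1
  · exact Or.inr (Or.inr (Or.inr (Or.inr ⟨inferInstance, h.card_jr hG h1⟩)))

theorem u1_of (h : ∀ S T : Sylow 2 G, S ≠ T → ∀ z ∈ omZ (S : Subgroup G), z ≠ 1 → z ∈ (T : Subgroup G) →
    PRankLE 2 1 ↥((S : Subgroup G) ⊓ (T : Subgroup G))) : U1 G := by
  intro S T hS hT z hz w hw z1 w2 w1 ne zT wT
  by_contra hne
  refine BS.Four.not_pRankLE (BS.Four.top_subtype (L := S ⊓ T) ⟨z, mem_inf.mpr ⟨hz.1, zT⟩, w,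
    mem_inf.mpr ⟨hw, wT⟩, ⟨hz.2.1, z1⟩, ⟨w2, w1⟩,
    ne.symm, (hz.2.2 w hw).symm⟩) (h hS.toSylowTop hT.toSylowTop (fun e => hne ?_) z hz z1 zT)
  exact congrArg (fun P : Sylow 2 G => (P : Subgroup G)) e

theorem s3185 (hGS : GSh.{u}) [IsSimpleGroup G] (hG : ¬ IsMulCommutative G)
    (h : ∀ S T : Sylow 2 G, S ≠ T →
      ((S : Subgroup G) ⊓ (T : Subgroup G) = ⊥ ∨
        ∃ z ∈ (S : Subgroup G) ⊓ (T : Subgroup G), orderOf z = 2 ∧
          ∃ U : Sylow 2 G, z ∈ (Subgroup.center ↥(U : Subgroup G)).map (U : Subgroup G).subtype) →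
      Cfsg.PRankLE 2 1 ↥((S : Subgroup G) ⊓ (T : Subgroup G))) : List5 G := by
  have h1 : U1 G := u1_of fun S T hne z hz z1 zT => h S T hne (Or.inr ⟨z, ⟨hz.1, zT⟩, Iv.ord ⟨hz.2.1, z1⟩, S,
    ⟨z, hz.1⟩, mem_center_iff.mpr fun s => Subtype.ext (hz.2.2 s s.2), rfl⟩)
  exact h1.list5 hG (h1.typ hGS hG)

end Cfsg.Agent.H7.CI
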