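import Cfsg.Agent.H7.CI1
import Cfsg.Agent.WA.W2
import Cfsg.Agent.H5.RankOne

/-! A simple normal subgroup whose Sylow `2`-subgroup lies in a unique Sylow subgroup has odd index. -/

set_option autoImplicit false
set_option linter.unusedSectionVars false

namespace Cfsg.Agent.H7.CI

open Subgroup H8 H2.SC WA Jk BS
open GW (Cz mem_Cz)

universe u

variable {G : Type u} [Group G] [Finite G]

theorem suz_fix (X : Suz G) (α : G ≃* G) (h2 : ∀ x, α (α x) = x) (hQ : ∀ x ∈ X.Q, α x ∈ X.Q)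
    (hD : ∀ d ∈ X.D, α d = d) (g : G) : α g = g := by
  have hZ : ∀ z ∈ X.Z, α z ∈ X.Z := fun z hz =>
    X.mem_Z.mpr ⟨hQ z (X.Z_le hz), by rw [← map_mul, X.Z_sq hz, map_one]⟩
  have hH : ∀ h ∈ X.H, α h ∈ X.H := fun h hh => by
    obtain ⟨x, hx, d, hd, rfl⟩ := X.sdp.exists_mul hh
    rw [map_mul, hD d hd]
    exact mul_mem (X.Q_le (hQ x hx)) (X.D_le hd)
  have hs : α X.s = X.s := by
    by_contra e
    have h1 := mul_mem X.s_mem_Z (hZ _ X.s_mem_Z)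
    obtain ⟨k, hk, h3⟩ := X.K_trans h1 fun e' => e (by
      rw [← inv_eq_of_mul_eq_one_right e', inv_eq_of_mul_eq_one_right X.ss])
    have h4 : α (X.s * α X.s) = X.s * α X.s := by
      rw [map_mul, h2, X.Z_comm X.s_mem_Z (hQ _ X.sQ)]
    rw [← h3, map_mul, map_mul, map_inv, hD k (X.K_le hk), mul_left_inj, mul_right_inj] at h4
    exact e h4
  have hZ' : ∀ z ∈ X.Z, α z = z := fun z hz => by
    by_cases e : z = 1
    · rw [e, map_one]
    obtain ⟨k, hk, rfl⟩ := X.K_trans hz e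
    rw [map_mul, map_mul, map_inv, hD k (X.K_le hk), hs]
  have tt : α X.t * α X.t = 1 := by rw [← map_mul, X.tt, map_one]
  obtain ⟨l, hl, e⟩ : ∃ l, X.IsK l ∧ α X.t = l * X.t * l⁻¹ := by
    obtain ⟨k, hk, k1⟩ := X.exists_IsK_ne
    have h1 : α X.t * X.t ∈ X.H := (hk.fix k1 (g := α X.t) (by
      have := congrArg α hk.2
      rw [map_mul, map_mul, map_inv, hD k hk.1] at this
      rw [inv_eq_of_mul_eq_one_right tt, this]
      exact inv_mem (X.D_le hk.1))).resolve_left fun h => X.tH (h2 X.t ▸ hH _ h)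
    have h3 : X.t * (α X.t * X.t) * X.t = (α X.t * X.t)⁻¹ := by
      rw [mul_inv_rev, X.tinv, inv_eq_of_mul_eq_one_right tt, mul_assoc, mul_assoc, X.tt, mul_one]
    obtain ⟨l, hl, e⟩ := Suz.IsK.sqrt (X := X) (k := α X.t * X.t) ⟨X.mem_D.mpr ⟨h1, h3 ▸ inv_mem h1⟩, h3⟩
    exact ⟨l, hl, by rw [hl.conj_t, e, mul_assoc, X.tt, mul_one]⟩
  have h5 := congrArg α X.tst
  simp only [map_mul, map_inv, hs, e] at h5
  have lH := inv_mem (X.D_le hl.1)
  obtain ⟨h6, h7⟩ := X.pair_unique (X.conj_mem_Q lH X.sQ) (X.conj_mem_Q lH (hQ _ X.rQ)) (by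
    rw [show X.t * (l⁻¹ * X.s * l⁻¹⁻¹) * X.t = l⁻¹ * (l * X.t * l⁻¹ * X.s * (l * X.t * l⁻¹)) * l by group, h5]
    group)
  obtain rfl : l = 1 := (hl.fpf X.sQ (by nth_rw 1 [← h6]; group)).resolve_right X.s1
  simp only [inv_one, one_mul, mul_one] at e h7
  suffices h : ∀ x ∈ X.Q, α x = x by
    have hH' : ∀ h ∈ X.H, α h = h := fun y hy => by
      obtain ⟨x, hx, d, hd, rfl⟩ := X.sdp.exists_mul hy
      rw [map_mul, hD d hd, h x hx]
    by_cases hg : g ∈ X.H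
    · exact hH' g hg
    obtain ⟨y, hy, x, hx, rfl⟩ := X.hyp.two g hg
    rw [map_mul, map_mul, hH' y hy, e, h x hx]
  let L := α.toMonoidHom.eqLocus (MonoidHom.id G)
  have mL : ∀ {x}, x ∈ L ↔ α x = x := Iff.rfl
  have hst := X.res_st (L := L) e hs h7 (fun h hh hL => by
      obtain ⟨x, hx, d, hd, rfl⟩ := X.sdp.exists_mul hh
      exact ⟨x, ⟨hx, (L.mul_mem_cancel_right (mL.mpr (hD d hd))).mp hL⟩, d, ⟨hd, hD d hd⟩, rfl⟩)
    (fun g hg hg' => by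
      obtain ⟨h, hh, x, hx, rfl⟩ := X.hyp.two g hg'
      rw [mL, map_mul, map_mul, e] at hg
      obtain ⟨h1, h3⟩ := X.canon_unique (hH _ hh) hh (hQ x hx) hx hg
      exact ⟨h, ⟨hh, h1⟩, x, ⟨hx, h3⟩, rfl⟩)
    (by
      obtain ⟨z, hz, h1, h3, h4⟩ := X.rank
      exact ⟨z, ⟨X.mem_Z.mpr ⟨hz, h1⟩, hZ' z (X.mem_Z.mpr ⟨hz, h1⟩)⟩, h3, h4⟩) (Suz.struct _)
  rw [show X.Z ⊓ L = X.Z from inf_eq_left.mpr hZ'] at hst
  have fin : Nat.card ↥(X.Q ⊓ L) = Nat.card X.Q → ∀ x ∈ X.Q, α x = x := fun h x hx =>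
    ((H5.eq_of_le_of_card_le inf_le_left h.ge).ge hx).2
  rcases X.struct.cases with ⟨h8, h9 | ⟨h9, w, hw, y, hy, hn⟩⟩ | ⟨h8, h9, -⟩
  · exact fun x hx => hZ' x (h9 ▸ hx)
  · rcases hst.cases with ⟨-, h10 | ⟨h10, -⟩⟩ | ⟨h10, -⟩
    · exfalso
      obtain ⟨wD, wZ⟩ := X.mem_W.mp hw
      have hrk : ∃ z ∈ X.Z ⊓ centralizer {w}, z ≠ 1 ∧ z ≠ X.s := by
        obtain ⟨z, hz, h1, h3, h4⟩ := X.rank
        exact ⟨z, ⟨X.mem_Z.mpr ⟨hz, h1⟩, FT.mem_cent1.mpr (wZ z (X.mem_Z.mpr ⟨hz, h1⟩)).symm⟩, h3, h4⟩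
      have hw' := X.res_st _ _ _ _ _ _ (X.resC hw.1 hrk).struct
      rw [show X.Z ⊓ centralizer {w} = X.Z from inf_eq_left.mpr fun z hz => FT.mem_cent1.mpr (wZ z hz).symm] at hw'
      have key : ∀ x ∈ X.Q, x⁻¹ * α x ∈ X.Z → x ∈ X.Z := fun x hx h => by
        have h1 : x⁻¹ * (w * x * w⁻¹) ∈ X.Z := h10.le <| mem_inf.mpr ⟨mul_mem (inv_mem hx) (X.conj_mem_Q (X.D_le wD) hx), by
          have e1 : α x = x * (x⁻¹ * α x) := by group
          have e2 := X.Z_comm h (mul_mem (inv_mem hx) (X.conj_mem_Q (X.D_le wD) hx))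
          rw [mL, map_mul, map_mul, map_mul, map_inv, map_inv, hD w wD, e1]
          generalize x⁻¹ * α x = z at *
          rw [show (x * z)⁻¹ * (w * (x * z) * w⁻¹) = z⁻¹ * (x⁻¹ * (w * x * w⁻¹)) * (w * z) * w⁻¹ by group,
            wZ z h, mul_assoc z⁻¹, ← mul_assoc _ z, ← e2]
          group⟩
        have h3 : w * x = x * w := W.comm_of_sq_odd (X.odd_orderOf wD) (by simp) (by
          have e1 : w * x * w⁻¹ = x * (x⁻¹ * (w * x * w⁻¹)) := by group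
          have e2 := X.Z_sq h1
          have e3 := wZ _ h1
          generalize x⁻¹ * (w * x * w⁻¹) = z at *
          calc w * w * x = w * (w * x * w⁻¹) * w := by group
            _ = w * x * w⁻¹ * (w * z) * w := by nth_rw 1 [e1]; group
            _ = x * (z * z) * (w * w) := by rw [e1, e3]; group
            _ = _ := by rw [e2, mul_one])
        rcases hw'.cases with ⟨-, h11 | ⟨h11, -⟩⟩ | ⟨h11, -⟩
        · exact h11 ▸ ⟨hx, FT.mem_cent1.mpr h3.symm⟩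
        · exact (hn (FT.mem_cent1.mp ((H5.eq_of_le_of_card_le inf_le_left (h9.trans h11.symm).le).ge hy).2).symm).elim
        · exact (h11 h8).elim
      have h1 : y⁻¹ * α y ∈ X.Q := mul_mem (inv_mem hy) (hQ y hy)
      refine hn (wZ y (key y hy (key _ h1 ?_)))
      rw [map_mul, map_inv, h2, show (y⁻¹ * α y)⁻¹ * ((α y)⁻¹ * y) = (y⁻¹ * α y * (y⁻¹ * α y))⁻¹ by group]
      exact inv_mem (X.struct.sq _ h1)
    · exact fin (h10.trans h9.symm)
    · exact (h10 h8).elim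
  · rcases hst.cases with ⟨h10, -⟩ | ⟨-, h10, -⟩
    · exact (h8 h10).elim
    · exact fin (h10.trans h9.symm)

theorem loc_top [IsSimpleGroup G] (hG : ¬ IsMulCommutative G) (h : W.AB G) : W.Loc (⊤ : Subgroup G) :=
  ⟨inferInstance, topEquiv.isSimpleGroup, fun h => hG ⟨⟨fun x y =>
    congrArg Subtype.val (h.is_comm.comm ⟨x, mem_top x⟩ ⟨y, mem_top y⟩)⟩⟩, fun y hy => by
      rcases (inferInstance : (center G).Normal).eq_bot_or_eq_top with e | e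
      · exact mem_bot.mp (e ▸ mem_center_iff.mpr fun g => (hy g (mem_top g)).symm)
      · exact (hG ⟨⟨fun x y => mem_center_iff.mp (e ▸ mem_top y) x⟩⟩).elim, h⟩

/-- abelian Sylow subgroups whose nonidentity elements are fused by the normalizer -/
def Tr (G : Type*) [Group G] : Prop := W.AB G ∧ ∀ S : Subgroup G, IsSylowIn 2 S ⊤ →
  ∀ x ∈ S, ∀ y ∈ S, x ≠ 1 → y ≠ 1 → ∃ n ∈ normalizer (S : Set G), n * x * n⁻¹ = y

theorem typ_cases [IsSimpleGroup G] (hG : ¬ IsMulCommutative G) (h : W.Typ G) : W.SEm G ∨ Tr G := by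
  rcases h with h | h | h
  · exact Or.inl h
  · have ab : W.AB G := fun P hP x hx y hy => by
      obtain ⟨S, hS, h1⟩ := exists_isSylowIn_ge hP le_top
      exact comm_of_mem (IsPGroup.isMulCommutative_of_card_eq_prime_sq (p := 2) (h S hS)) (h1 hx) (h1 hy)
    refine Or.inr ⟨ab, fun S hS x hx y hy x1 y1 => ?_⟩
    obtain ⟨-, C, -, h1, h2, -⟩ := (loc_top hG ab).v4_reg h hS
    obtain ⟨c, hc, e⟩ := h2 x hx y hy x1 y1
    exact ⟨c, h1 hc, e⟩
  · exact Or.inr ⟨h.ab, h.fus⟩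

theorem syl_cj {S : Subgroup G} (hS : IsSylowIn 2 S ⊤) (g : G) : IsSylowIn 2 (cj g S) ⊤ :=
  cj_top g ▸ hS.cj g

theorem syl_inf {S K : Subgroup G} (hS : IsSylowIn 2 S ⊤) [K.Normal] : IsSylowIn 2 (S ⊓ K) K := by
  simpa using hS.inf_of_le_normalizer (N := K) le_normalizer_of_normal

theorem syl_of_sub {P K : Subgroup G} (h : P ≤ K) (hP : IsSylowIn 2 (P.subgroupOf K) ⊤) : IsSylowIn 2 P K := by
  have := hP.map K.subtype
  rwa [map_subgroupOf_eq_of_le h, ← MonoidHom.range_eq_map, range_subtype] at this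

theorem exists_iv_pow {x : G} (h : ∃ k, x ^ 2 ^ k = 1) (h1 : x ≠ 1) : ∃ y ∈ zpowers x, Iv y := by
  obtain ⟨k, hk⟩ := h
  obtain ⟨i, h2, h3⟩ := H5.exists_pow_not_mem_pow_mem (H := ⊥) hk h1
  exact ⟨_, npow_mem_zpowers x _, by rw [← pow_two]; exact h3, h2⟩

section
variable {K : Subgroup G} [K.Normal] [IsSimpleGroup K] (nc : ¬ IsMulCommutative K)
  (hc : ∀ y, (∀ e ∈ K, y * e = e * y) → y = 1)
include nc hc

theorem le_of_cent {S : Subgroup G} (hS : IsSylowIn 2 S ⊤) (h : S ≤ centralizer ((S ⊓ K : Subgroup G) : Set G)) :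
    S ≤ K := fun s hs => by
  obtain ⟨k, hk⟩ := W.pw_of_mem hS.pgroup hs
  obtain ⟨p, hp, h1⟩ := exists_inv_mul_mem_centralizer (N := K) (by
      rw [opp, pPrimeCore_eq_bot_of_simple (two_dvd_of_simple nc), Subgroup.map_bot]) (syl_inf hS)
    ⟨⟨fun x y => Subtype.ext (h y.2.1 x x.2)⟩⟩ (h hs) hk
  rw [← inv_mul_eq_one.mp (hc _ fun e he => (h1 e he).symm)]
  exact hp.2

variable (hu : ∀ S T : Subgroup G, IsSylowIn 2 S ⊤ → IsSylowIn 2 T ⊤ → S ⊓ K ≤ T → T = S)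
include hu

omit nc hc [IsSimpleGroup K] in
theorem norm_le {S : Subgroup G} (hS : IsSylowIn 2 S ⊤) :
    normalizer ((S ⊓ K : Subgroup G) : Set G) ≤ normalizer (S : Set G) := fun g hg =>
  cj_eq_self_iff.mp (hu S _ hS (syl_cj hS g) (cj_eq_self hg ▸ cj_mono g inf_le_left))

theorem le_of_tr (h : Tr K) {S : Subgroup G} (hS : IsSylowIn 2 S ⊤) : S ≤ K := by
  have hP := syl_inf (K := K) hS
  have h1 := Clos.sylow_sub hP
  obtain ⟨a, ha, a2, h2, -⟩ := H5.exists_mem_centralizer_of_isPGroup hP.pgroup hS.pgroup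
    (le_normalizer_inf le_normalizer le_normalizer_of_normal) fun e =>
      sylow_ne_bot nc h1 (by rw [e, bot_subgroupOf])
  refine le_of_cent nc hc hS fun s hs x hx => ?_
  by_cases e : x = 1
  · simp [e]
  obtain ⟨n, hn, h3⟩ := h.2 _ h1 ⟨a, ha.2⟩ ha ⟨x, hx.2⟩ hx (fun e' => W.ne1 a2 (congrArg Subtype.val e'))
    fun e' => e (congrArg Subtype.val e')
  have h4 : (n : G)⁻¹ ∈ normalizer (S : Set G) := inv_mem (norm_le hu hS (mem_normalizer_of_conj fun y hy =>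
    show (n * ⟨y, hy.2⟩ * n⁻¹ : K) ∈ (S ⊓ K).subgroupOf K from conj_mem hn hy))
  have h5 := h2 _ (conj_mem h4 hs)
  rw [← show (n : G) * a * (n : G)⁻¹ = x from congrArg Subtype.val h3]
  calc _ = (n : G) * (a * ((n : G)⁻¹ * s * (n : G)⁻¹⁻¹)) * (n : G)⁻¹ := by group
    _ = _ := by rw [← h5]; group

theorem le_of_se (h : W.SEm K) {S : Subgroup G} (hS : IsSylowIn 2 S ⊤) : S ≤ K := by
  obtain ⟨M, hM⟩ := h
  obtain ⟨T, hT⟩ := exists_isSylowIn 2 (⊤ : Subgroup K)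
  obtain ⟨a, -, -, -, ha, -⟩ := Clos.exists_four_mem nc hT (sylow_ne_bot nc hT)
  obtain ⟨X, -, -⟩ := bender_suz hM (four_of_simple nc ha).not_pRankLE (BS.pPrimeCore_eq_bot_of_simple ha)
  have h1 := (Clos.suz_sylow X).map K.subtype
  rw [← MonoidHom.range_eq_map, range_subtype] at h1
  obtain ⟨S₀, h0, h2⟩ := exists_isSylowIn_ge h1.pgroup le_top
  obtain ⟨g, -, rfl⟩ := h0.exists_cj_eq hS
  refine cj_le_of_mem_normalizer (le_normalizer_of_normal (mem_top g)) fun s hs => by_contra fun sK => ?_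
  have h3 : S₀ ⊓ K = X.Q.map K.subtype := h1.max _ inf_le_right (syl_inf h0).pgroup (le_inf h2 h1.le)
  have mQ : ∀ {x : K}, x ∈ X.Q ↔ (x : G) ∈ S₀ := fun {x} =>
    ⟨fun hx => h2 ⟨x, hx, rfl⟩, fun hx => by
      obtain ⟨y, hy, e⟩ := h3.le ⟨hx, x.2⟩
      exact Subtype.ext e ▸ hy⟩
  have nH : ∀ x ∈ X.H, (x : G) ∈ normalizer (S₀ : Set G) := fun x hx => norm_le hu h0
    (mem_normalizer_of_conj fun y hy => ⟨mQ.mp (X.conj_mem_Q hx ((mQ (x := ⟨y, hy.2⟩)).mpr hy.1)),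
      (x * ⟨y, hy.2⟩ * x⁻¹).2⟩)
  have tt : (X.t : G) * X.t = 1 := congrArg Subtype.val X.tt
  have ti : (X.t : G)⁻¹ = X.t := inv_eq_of_mul_eq_one_right tt
  have h4 := syl_cj h0 X.t
  have nD : ∀ d ∈ X.D, (d : G) ∈ normalizer (cj (X.t : G) S₀ : Set G) := fun d hd => by
    rw [← cj_normalizer, mem_cj, ti]
    exact nH _ (X.D_le (X.tDt hd))
  have cQ : ∀ f ∈ S₀, ∀ x ∈ X.Q, MulAut.conjNormal f x ∈ X.Q := fun f hf x hx =>
    mQ.mpr (mul_mem (mul_mem hf (mQ.mp hx)) (inv_mem hf))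
  obtain ⟨b, hb, x, hx, e⟩ := X.hyp.two (MulAut.conjNormal s X.t) fun h => X.tH
    (X.mem_H_of_conj X.sQ X.s1 (X.Q_le (by
      have := cQ _ (inv_mem hs) _ (X.conj_mem_Q h (cQ s hs _ X.sQ))
      simpa [map_inv] using this)))
  obtain ⟨y, hy, d, hd, rfl⟩ := X.sdp.exists_mul hb
  have e' : s * X.t * s⁻¹ = y * d * X.t * x := congrArg Subtype.val e
  have h5 : (y : G)⁻¹ * s ∈ normalizer (cj (X.t : G) S₀ : Set G) := by
    rw [← cj_eq_self_iff, ← cj_mul, show (y : G)⁻¹ * s * X.t = d * (X.t * (x * s)) by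
      rw [show (y : G)⁻¹ * s * X.t = (y : G)⁻¹ * (s * X.t * s⁻¹) * s by group, e']; group,
      cj_mul, cj_mul, cj_eq_self (le_normalizer (mul_mem (mQ.mp hx) hs)), cj_eq_self (nD d hd)]
  have h6 := mul_mem (inv_mem (mQ.mp hy)) hs
  obtain ⟨f, hf, iv⟩ := exists_iv_pow (W.pw_of_mem h0.pgroup h6) fun e => sK (inv_mul_eq_one.mp e ▸ y.2)
  have f1 := zpowers_le.mpr h6 hf
  have f2 := h4.le_of_le_normalizer' (h0.pgroup.to_le (zpowers_le.mpr h6)) le_top (zpowers_le.mpr h5) hf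
  refine iv.2 (hc f fun k hk => mul_inv_eq_iff_eq_mul.mp (congrArg Subtype.val (suz_fix X (MulAut.conjNormal f)
    (fun x => by rw [← MulAut.mul_apply, ← map_mul, iv.1, map_one, MulAut.one_apply]) (cQ f f1) (fun d hd => ?_)
    ⟨k, hk⟩)))
  have h7 : MulAut.conjNormal f d * d⁻¹ ∈ X.Q := mQ.mpr (by
    have := mul_mem f1 (conj_mem (nH d (X.D_le hd)) (inv_mem f1))
    simpa [mul_assoc] using this)
  refine mul_inv_eq_one.mp (X.eq_one_of_Q_D h7 (X.mem_D.mpr ⟨X.Q_le h7, X.Q_le (mQ.mpr ?_)⟩))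
  have := mul_mem f2 (conj_mem (nD d hd) (inv_mem f2))
  rw [mem_cj, ti] at this
  simpa [mul_assoc] using this

theorem le_of_typ (h : W.Typ K) {S : Subgroup G} (hS : IsSylowIn 2 S ⊤) : S ≤ K :=
  (typ_cases nc h).elim (fun h => le_of_se nc hc hu h hS) fun h => le_of_tr nc hc hu h hS

end

end Cfsg.Agent.H7.CI
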