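import Cfsg.Agent.H7.CI2
import Cfsg.Agent.H7.Misc

/-! Groups in which four-groups lie in a unique Sylow `2`-subgroup. -/

set_option autoImplicit false
set_option linter.unusedSectionVars false

namespace Cfsg.Agent.H7.CI

open Subgroup H8 H2.SC WA Jk BS
open scoped commutatorElement

universe u

def R1 (G : Type*) [Group G] : Prop :=
  ∀ S T : Subgroup G, IsSylowIn 2 S ⊤ → IsSylowIn 2 T ⊤ → Four (S ⊓ T) → S = T

variable {G : Type u} [Group G] [Finite G]

theorem four_mono {A B : Subgroup G} (h : Four A) (hle : A ≤ B) : Four B := by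
  obtain ⟨a, ha, b, hb, h⟩ := h
  exact ⟨a, hle ha, b, hle hb, h⟩

theorem four_map {G' : Type*} [Group G'] {A : Subgroup G'} (h : Four A) {f : G' →* G} (hf : Function.Injective f) :
    Four (A.map f) := by
  obtain ⟨a, ha, b, hb, h1, h2, h3, h4⟩ := h
  exact ⟨_, ⟨a, ha, rfl⟩, _, ⟨b, hb, rfl⟩, ⟨by rw [← map_mul, h1.1, map_one], (map_ne_one_iff f hf).mpr h1.2⟩,
    ⟨by rw [← map_mul, h2.1, map_one], (map_ne_one_iff f hf).mpr h2.2⟩, hf.ne h3, by rw [← map_mul, h4, map_mul]⟩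

theorem not_cyclic_of_four {A : Subgroup G} (h : Four A) : ¬ IsCyclic A := fun hc => by
  classical
  have := Fintype.ofFinite A
  obtain ⟨a, ha, b, hb, h1, h2, h3, -⟩ := h
  have oa : orderOf (⟨a, ha⟩ : A) = 2 := (orderOf_coe (⟨a, ha⟩ : A)).symm.trans (Iv.ord h1)
  have ob : orderOf (⟨b, hb⟩ : A) = 2 := (orderOf_coe (⟨b, hb⟩ : A)).symm.trans (Iv.ord h2)
  have := Finset.card_le_one.mp (IsCyclic.card_orderOf_eq_totient (α := A) (d := 2)
    (oa ▸ orderOf_dvd_card)).le ⟨a, ha⟩ (by simpa using oa) ⟨b, hb⟩ (by simpa using ob)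
  exact h3 (congrArg Subtype.val this)

theorem r1_of (h : ∀ S T : Sylow 2 G, S ≠ T → ¬ Four ((S : Subgroup G) ⊓ T)) : R1 G := fun _ _ hS hT h4 =>
  by_contra fun e => h hS.toSylowTop hT.toSylowTop
    (fun e' => e (congrArg (fun P : Sylow 2 G => (P : Subgroup G)) e')) h4

theorem exists_syl_ge {H : Subgroup G} {S : Subgroup H} (hS : IsSylowIn 2 S ⊤) :
    ∃ T, IsSylowIn 2 T ⊤ ∧ T.subgroupOf H = S := by
  obtain ⟨T, hT, h⟩ := exists_isSylowIn_ge (hS.pgroup.map H.subtype) le_top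
  exact ⟨T, hT, hS.max _ le_top (pgroup_subgroupOf hT.pgroup H) fun x hx => h ⟨x, hx, rfl⟩⟩

theorem R1.subgroup (h : R1 G) (H : Subgroup G) : R1 H := fun S T hS hT h4 => by
  obtain ⟨S', h1, rfl⟩ := exists_syl_ge hS
  obtain ⟨T', h2, rfl⟩ := exists_syl_ge hT
  rw [h S' T' h1 h2 (four_mono (four_map h4 H.subtype_injective) (map_le_iff_le_comap.mpr fun x hx => hx))]

theorem R1.u1 (h : R1 G) : U1 G := fun S T hS hT z hz w hw z1 w2 w1 ne zT wT =>
  h S T hS hT ⟨z, ⟨hz.1, zT⟩, w, ⟨hw, wT⟩, ⟨hz.2.1, z1⟩, ⟨w2, w1⟩, ne.symm, (hz.2.2 w hw).symm⟩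

theorem two_dvd_qs {L : Subgroup G} (hL : IsQuasisimple L) : 2 ∣ Nat.card L :=
  by_contra fun h => QS.not_isSolvable hL (GW.solvable_of_odd h)

theorem syl_comp {L S : Subgroup G} (hL : IsComponent L) (hS : IsSylowIn 2 S ⊤) : IsSylowIn 2 (S ⊓ L) L :=
  IsSylowIn.inf_of_sn hS (Comp.compOf hL).sn

/-- a component does not normalize its Sylow subgroup -/
theorem exists_cj_ne {L S : Subgroup G} (hL : IsComponent L) (hS : IsSylowIn 2 S ⊤) :
    ∃ k ∈ L, k ∉ normalizer ((S ⊓ L : Subgroup G) : Set G) ∧ cj k S ≠ S := by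
  have q := (Comp.compOf hL).qs
  have h1 := syl_comp hL hS
  have : ¬ L ≤ normalizer ((S ⊓ L : Subgroup G) : Set G) := fun h => by
    rcases QS.normal q inf_le_right h with e | e
    · exact QS.not_isSolvable q (solvable_of_pgroup (e ▸ h1.pgroup))
    · exact QS.sylow_not_le_centralizer q (two_dvd_qs q) h1 (commutator_eq_bot_iff_le_centralizer.mp e)
  obtain ⟨k, hk, h⟩ := SetLike.not_le_iff_exists.mp this
  exact ⟨k, hk, h, fun e => h (cj_eq_self_iff.mp (by rw [cj_inf, e, cj_eq_self (le_normalizer hk)]))⟩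

theorem mem_cj_of_comm {S : Subgroup G} {k x : G} (hx : x ∈ S) (h : k * x = x * k) : x ∈ cj k S := by
  rwa [mem_cj, mul_assoc, ← h, inv_mul_cancel_left]

theorem four_of_simple' {K S : Subgroup G} [IsSimpleGroup K] (nc : ¬ IsMulCommutative K) (hS : IsSylowIn 2 S K) :
    Four S := by
  have h := Clos.sylow_sub hS
  have := four_map (A := S.subgroupOf K) (Clos.exists_four_mem nc h (sylow_ne_bot nc h)) K.subtype_injective
  rwa [map_subgroupOf_eq_of_le hS.le] at this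

theorem layer_eq {L : Subgroup G} (hL : IsComponent L) (h : ∀ L' : Subgroup G, IsComponent L' → L' = L) :
    layer G = L := le_antisymm (layer_le_iff.mpr fun L' h' => (h L' h').le) (Comp.le_layer hL)

theorem R1.simple_layer (hGS : GSh.{u}) (h : R1 G) [Nontrivial G] (h0 : fittingSubgroup G = ⊥) :
    ∃ K : Subgroup G, K.Normal ∧ IsSimpleGroup K ∧ ¬ IsMulCommutative K ∧ W.Typ K ∧ List5 K ∧
      ∀ S, IsSylowIn 2 S ⊤ → S ≤ K := by
  have sm : ∀ L : Subgroup G, IsComponent L → IsSimpleGroup L := fun L hL =>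
    QS.isSimpleGroup_of_center_eq_bot (Comp.compOf hL).qs (map_injective L.subtype_injective (by
      rw [map_subtype_center, Subgroup.map_bot, ← le_bot_iff, ← h0]
      exact Comp.center_le_fitting hL))
  obtain ⟨K, hK⟩ : ∃ K : Subgroup G, IsComponent K := by_contra fun hn => fstar_ne_bot (G := G) (by
    rw [fstar_def, h0, layer_eq_bot_iff.mpr (not_exists.mp hn), bot_sup_eq])
  have e := layer_eq hK fun L hL => by_contra fun hne => by
    obtain ⟨S, hS⟩ := exists_isSylowIn 2 (⊤ : Subgroup G)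
    obtain ⟨k, hk, -, h1⟩ := exists_cj_ne hK hS
    have := sm L hL
    exact h1 (h _ _ (syl_cj hS k) hS (four_mono (four_of_simple' (QS.not_isMulCommutative (Comp.compOf hL).qs)
      (syl_comp hL hS)) fun x hx => ⟨mem_cj_of_comm hx.1
        (comm_eq_bot_iff.mp (Comp.comm_of_ne hL hK hne) x hx.2 k hk).symm, hx.1⟩))
  have hn : K.Normal := e ▸ inferInstance
  have := sm K hK
  have nc := QS.not_isMulCommutative (Comp.compOf hK).qs
  have ty := (h.subgroup K).u1.typ hGS nc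
  refine ⟨K, hn, this, nc, ty, (h.subgroup K).u1.list5 nc ty, fun S hS => le_of_typ nc (fun y hy => ?_)
    (fun S T hS hT hle => h T S hT hS (four_mono (four_of_simple' nc (syl_inf hS)) (le_inf hle inf_le_left))) ty hS⟩
  rw [← mem_bot, ← h0]
  refine centralizer_fstar_le_fitting ?_
  rw [fstar_def, h0, sup_bot_eq, e]
  exact fun x hx => (hy x hx).symm

theorem List3.of_equiv {G' : Type*} [Group G'] (h : List3 G) (e : G' ≃* G) : List3 G' := by
  rcases h with ⟨n, F, i, j, h1, h2, ⟨f⟩⟩ | ⟨n, F, i, j, h1, h2, ⟨f⟩⟩ | ⟨n, F, i, j, h1, h2, ⟨f⟩⟩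
  exacts [Or.inl ⟨n, F, i, j, h1, h2, ⟨e.trans f⟩⟩, Or.inr (Or.inl ⟨n, F, i, j, h1, h2, ⟨e.trans f⟩⟩),
    Or.inr (Or.inr ⟨n, F, i, j, h1, h2, ⟨e.trans f⟩⟩)]

theorem List5.of_equiv {G' : Type*} [Group G'] (h : List5 G) (e : G' ≃* G) : List5 G' := by
  rcases h with h | h | h | ⟨F, i, j, h1, h2, ⟨f⟩⟩ | ⟨h1, h2⟩
  exacts [(List3.of_equiv (Or.inl h) e).list5, (List3.of_equiv (Or.inr (Or.inl h)) e).list5,
    (List3.of_equiv (Or.inr (Or.inr h)) e).list5, Or.inr (Or.inr (Or.inr (Or.inl ⟨F, i, j, h1, h2, ⟨e.trans f⟩⟩))),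
    Or.inr (Or.inr (Or.inr (Or.inr ⟨e.isSimpleGroup, (Nat.card_congr e.toEquiv).trans h2⟩)))]

theorem odd_index_of {K : Subgroup G} (h : ∀ S, IsSylowIn 2 S ⊤ → S ≤ K) : Odd K.index := by
  obtain ⟨S⟩ := (inferInstance : Nonempty (Sylow 2 G))
  exact (H6.sylow_two_index_odd S).of_dvd_nat (index_dvd_of_le (h _ (isSylowIn_top S)))

/-- the preimage of a subgroup modulo the kernel -/
theorem nonempty_equiv_comap {G' : Type*} [Group G'] (f : G →* G') (hf : Function.Surjective f) (K : Subgroup G')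
    {R : Subgroup G} (hR : f.ker = R) [(R.subgroupOf (K.comap f)).Normal] :
    Nonempty (↥(K.comap f) ⧸ R.subgroupOf (K.comap f) ≃* K) := by
  refine ⟨(QuotientGroup.quotientMulEquivOfEq ?_).trans (QuotientGroup.quotientKerEquivOfSurjective _
    (f.subgroupComap_surjective_of_surjective K hf))⟩
  ext x
  rw [MonoidHom.mem_ker, Subtype.ext_iff, mem_subgroupOf, ← hR]
  rfl

theorem s3308 (hGS : GSh.{u}) (hns : ¬ Group.IsSolvable G)
    (hC : ∀ S T : Sylow 2 G, S ≠ T → IsCyclic ↥((S : Subgroup G) ⊓ (T : Subgroup G)))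
    (R : Subgroup G) [R.Normal] (hR : Group.IsSolvable ↥R)
    (hRmax : ∀ N : Subgroup G, N.Normal → Group.IsSolvable ↥N → N ≤ R) :
    ∃ (G₁ : Subgroup G) (_ : G₁.Normal) (_ : (R.subgroupOf G₁).Normal), Odd G₁.index ∧ R ≤ G₁ ∧
      IsSimpleGroup (↥G₁ ⧸ R.subgroupOf G₁) ∧ ¬ IsMulCommutative (↥G₁ ⧸ R.subgroupOf G₁) ∧
      List5 (↥G₁ ⧸ R.subgroupOf G₁) := by
  set π := QuotientGroup.mk' R
  have hπ : Function.Surjective π := QuotientGroup.mk'_surjective R
  have : Nontrivial (G ⧸ R) := by_contra fun h => by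
    rw [not_nontrivial_iff_subsingleton] at h
    exact hns (Clos.solv_ext R hR inferInstance)
  obtain ⟨K, hn, hs, nc, -, h5, h6⟩ := R1.simple_layer (G := G ⧸ R) hGS (r1_of fun S T hne h4 => by
    obtain ⟨S₀, T₀, h2, h3⟩ := H5.exists_sylow_pair_lift π hπ hne
    exact not_cyclic_of_four h4 (h3 ▸ H5.isCyclic_map _ (hC _ _ h2))) (by
      obtain ⟨e⟩ := nonempty_equiv_comap π hπ (fittingSubgroup _) (QuotientGroup.ker_mk' R)
      have := fitting_isSolvable (G := G ⧸ R)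
      rw [← map_comap_eq_self_of_surjective hπ (fittingSubgroup _), ← le_iff_map_mk'_eq_bot]
      refine hRmax _ inferInstance (Clos.solv_ext (R.subgroupOf _) ?_
        (Group.isSolvable_of_isSolvable_injective (f := e.toMonoidHom) e.injective))
      exact Group.isSolvable_of_isSolvable_injective (f := (subgroupOfEquivOfLe (by
        nth_rw 1 [← QuotientGroup.ker_mk' R]; exact ker_le_comap _ _)).toMonoidHom) (MulEquiv.injective _))
  obtain ⟨e⟩ := nonempty_equiv_comap π hπ K (QuotientGroup.ker_mk' R)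
  exact ⟨K.comap π, inferInstance, inferInstance, by rw [index_comap_of_surjective _ hπ]; exact odd_index_of h6,
    by nth_rw 1 [← QuotientGroup.ker_mk' R]; exact ker_le_comap _ _, e.isSimpleGroup,
    fun h => nc ⟨⟨fun x y => e.symm.injective (by rw [map_mul, map_mul, h.is_comm.comm])⟩⟩, h5.of_equiv e⟩

end Cfsg.Agent.H7.CI
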