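import Cfsg.Agent.H7.CI3
import Cfsg.Agent.H9.F3f

/-! `2`-groups without four-groups; a normal quasisimple subgroup modulo its centralizer. -/

set_option autoImplicit false
set_option linter.unusedSectionVars false

namespace Cfsg.Agent.H7.CI

open Subgroup H8 H2.SC WA Jk BS
open GW (Cz mem_Cz)
open scoped commutatorElement

universe u

variable {G : Type u} [Group G] [Finite G] {P Q S T Y X : Subgroup G} {a b x y z : G}

theorem uniq_iv (hP : IsPGroup 2 P) (h : ¬ Four P) (hx : x ∈ P) (hy : y ∈ P) (ix : Invo x) (iy : Invo y) : x = y := by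
  obtain ⟨⟨z, hz⟩, z1⟩ := ne_bot_iff_exists_ne_one.mp (omZ_ne_bot hP fun e => ix.2 (mem_bot.mp (e ▸ hx)))
  have key : ∀ x ∈ P, Invo x → x = z := fun x hx ix => by_contra fun e =>
    h ⟨x, hx, z, hz.1, ix, ⟨hz.2.1, fun e => z1 (Subtype.ext e)⟩, e, hz.2.2 x hx⟩
  rw [key x hx ix, key y hy iy]

theorem eq_or_of_sq (hP : IsPGroup 2 P) (h : ¬ Four P) (hx : x ∈ P) (hz : z ∈ P) (ix : x * x = 1) (iz : Invo z) :
    x = 1 ∨ x = z := or_iff_not_imp_left.mpr fun e => uniq_iv hP h hx hz ⟨ix, e⟩ iz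

theorem uniq_ord (hP : IsPGroup 2 P) (h : ¬ Four P) : ∀ x ∈ P, ∀ y ∈ P, orderOf x = 2 → orderOf y = 2 → x = y :=
  fun _ hx _ hy h1 h2 => uniq_iv hP h hx hy (Iv.of_ord h1) (Iv.of_ord h2)

theorem exists_ij (hP : IsPGroup 2 P) (h : ¬ Four P) (hc : ¬ IsCyclic P) :
    ∃ i ∈ P, ∃ j ∈ P, Invo (i * i) ∧ j * j = i * i ∧ j * i * j⁻¹ = i⁻¹ := by
  obtain ⟨m, a, b, ha, hb, h1, -, h2, h3, -⟩ := H9.exists_quaternion_gens hP hc (uniq_ord hP h)
  have e : a ^ 2 ^ m * a ^ 2 ^ m = a ^ 2 ^ (m + 1) := by rw [← pow_add, pow_succ, mul_two]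
  refine ⟨a ^ 2 ^ m, pow_mem ha _, b, hb, e ▸ Iv.of_ord ?_, by rw [e, ← h2, pow_two], by rw [← conj_pow, h3, inv_pow]⟩
  rw [orderOf_pow_of_dvd (by positivity) (h1 ▸ pow_dvd_pow 2 (by omega)), h1, Nat.pow_div (by omega) two_pos]
  simp

theorem not_comm_ij {i j : G} (h1 : Invo (i * i)) (h2 : j * i * j⁻¹ = i⁻¹) : i * j ≠ j * i := fun e =>
  h1.2 (by rw [← e, mul_inv_cancel_right] at h2; nth_rw 2 [h2]; exact mul_inv_cancel i)

theorem sq_of_cent (hP : IsPGroup 2 P) (h : ¬ Four P) (hW : Y ≤ P) (hc : ¬ IsCyclic Y) (hx : x ∈ P)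
    (hx' : x ∈ centralizer (Y : Set G)) : x * x = 1 := by
  by_contra e
  obtain ⟨i, hi, j, hj, h1, -, h3⟩ := exists_ij (hP.to_le hW) (fun h4 => h (four_mono h4 hW)) hc
  obtain ⟨_, ⟨n, rfl⟩, iv⟩ := exists_iv_pow (W.pw_of_mem hP (mul_mem hx hx)) e
  dsimp only at iv
  rw [(Commute.refl x).mul_zpow] at iv
  replace hx := zpow_mem hx n
  replace hx' := zpow_mem hx' n
  generalize x ^ n = y at *
  have h4 := uniq_iv hP h (mul_mem hx hx) (hW (mul_mem hi hi)) iv h1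
  refine not_comm_ij h1 h3 ?_
  rcases eq_or_of_sq hP h (mul_mem hx (hW hi)) (mul_mem hx hx) (by
    rw [show y * i * (y * i) = y * (i * y) * i by group, hx' i hi, ← h1.1]
    nth_rw 1 [← h4]; group) iv with e | e
  · rw [← inv_eq_of_mul_eq_one_right e]; exact (inv_mem hx' j hj).symm
  · rw [mul_left_cancel e]; exact (hx' j hj).symm

theorem four_of_cent (hP : IsPGroup 2 P) (hW : Y ≤ P) (hc : ¬ IsCyclic Y) (hx : x ∈ P)
    (hx' : x ∈ centralizer (Y : Set G)) (hn : x ∉ Y) : Four P := by_contra fun h => by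
  obtain ⟨i, hi, -, -, h1, -⟩ := exists_ij (hP.to_le hW) (fun h4 => h (four_mono h4 hW)) hc
  rcases eq_or_of_sq hP h hx (hW (mul_mem hi hi)) (sq_of_cent hP h hW hc hx hx') h1 with e | e
  exacts [hn (e ▸ one_mem _), hn (e ▸ mul_mem hi hi)]

theorem mem_syl {H : Subgroup G} (hP : IsSylowIn 2 P H) (h1 : ∃ k, z ^ 2 ^ k = 1) (h2 : z ∈ H) (h3 : P ≤ Cz z) :
    z ∈ P :=
  hP.le_of_le_normalizer (H9.isPGroup_zpowers h1) (zpowers_le.mpr h2)
    (h3.trans ((centralizer_zpowers z).ge.trans (centralizer_le_normalizer _))) (mem_zpowers z)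

theorem not_cyclic_syl {H : Subgroup G} (hP : IsSylowIn 2 P H) (hW : IsPGroup 2 Y) (hle : Y ≤ H) (hc : ¬ IsCyclic Y) :
    ¬ IsCyclic P := fun h => by
  obtain ⟨T, hT, h1⟩ := exists_isSylowIn_ge hW hle
  obtain ⟨k, -, rfl⟩ := hP.exists_cj_eq hT
  have := H5.isCyclic_map (MulAut.conj k).toMonoidHom h
  exact hc (isCyclic_of_le h1)

theorem not_cyclic_qs {L : Subgroup G} (q : IsQuasisimple L) (hP : IsSylowIn 2 P L) : ¬ IsCyclic P := fun _ =>
  H9.F3.not_cyclic_sylow (quasisimple_iff.mp q).1 (two_dvd_qs q) (Clos.sylow_sub hP)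
    (isCyclic_of_surjective _ (subgroupOfEquivOfLe hP.le).symm.surjective)

theorem exists_lift_ge {G' : Type u} [Group G'] [Finite G'] (f : G →* G') (hf : Function.Surjective f)
    {T' : Subgroup G'} (hT : IsSylowIn 2 T' ⊤) (hX : IsPGroup 2 X) (hle : X ≤ T'.comap f) :
    ∃ T, IsSylowIn 2 T ⊤ ∧ X ≤ T ∧ T.map f = T' := by
  obtain ⟨T, h1, h2⟩ := exists_isSylowIn_ge hX hle
  have h3 := h1.map f
  rw [map_comap_eq_self_of_surjective hf] at h3
  have h4 := (h3.max T' le_rfl hT.pgroup h3.le).symm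
  exact ⟨T, ⟨le_top, h1.pgroup, fun R _ hR h5 => h1.max R (map_le_iff_le_comap.mp
    (hT.max _ le_top (hR.map f) (h4 ▸ map_mono h5)).le) hR h5⟩, h2, h4⟩

theorem sem_of {K : Subgroup G} [IsSimpleGroup K] (nc : ¬ IsMulCommutative K) (hP : IsSylowIn 2 P K)
    (h : ∀ w ∈ P, w ≠ 1 → ∀ k ∈ K, k * w = w * k → k ∈ normalizer (P : Set G)) : W.SEm K :=
  ⟨_, Dich.stronglyEmbedded_of
    (H6.normalizer_ne_top_of_pgroup nc (Clos.sylow_sub hP).pgroup (sylow_ne_bot nc (Clos.sylow_sub hP)))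
    (Clos.sylow_sub hP) (sylow_ne_bot nc (Clos.sylow_sub hP)) le_rfl fun w hw w2 k hk =>
      mem_normalizer_of_conj fun _ hx => conj_mem (X := P) (h w hw (W.ne1 ((orderOf_coe w).trans w2)) k k.2
        (congrArg Subtype.val (mem_Cz.mp hk))) hx⟩

section simple
variable [IsSimpleGroup G] (nc : ¬ IsMulCommutative G)
include nc

theorem suz_of (h : W.SEm G) : Nonempty (Suz G) := by
  obtain ⟨M, hM⟩ := h
  obtain ⟨X, -⟩ := GS.G0.exists_suz nc hM
  exact ⟨X⟩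

theorem one_class (h : W.Typ G) (ha : Invo a) (hb : Invo b) : IsConj a b := by
  rcases typ_cases nc h with h | h
  · obtain ⟨X⟩ := suz_of nc h
    exact (isConj_iff.mpr (X.conj_s ha.1 ha.2)).symm.trans (isConj_iff.mpr (X.conj_s hb.1 hb.2))
  · obtain ⟨S, hS⟩ := exists_isSylowIn 2 (⊤ : Subgroup G)
    obtain ⟨g, hg⟩ := Clos.exists_conj_mem hS (W.pw_of_sq ha.1)
    obtain ⟨k, hk⟩ := Clos.exists_conj_mem hS (W.pw_of_sq hb.1)
    obtain ⟨n, -, e⟩ := h.2 S hS _ hg _ hk (Iv.conj ha g).2 (Iv.conj hb k).2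
    exact (isConj_iff.mpr ⟨g, rfl⟩).trans ((isConj_iff.mpr ⟨n, e⟩).trans (isConj_iff.mpr ⟨k, rfl⟩).symm)

theorem ti_of_se (h : W.SEm G) (hS : IsSylowIn 2 S ⊤) (hT : IsSylowIn 2 T ⊤) (h1 : x ∈ S) (h2 : x ∈ T) (h3 : x ≠ 1) :
    S = T := by
  obtain ⟨X⟩ := suz_of nc h
  obtain ⟨g, -, rfl⟩ := (Clos.suz_sylow X).exists_cj_eq hS
  obtain ⟨k, -, rfl⟩ := (Clos.suz_sylow X).exists_cj_eq hT
  have h4 := X.mem_H_of_conj (g := k⁻¹ * g) (mem_cj.mp h1) (fun e => h3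
    ((conj_eq_one_iff (a := g⁻¹)).mp (by rwa [inv_inv]))) (X.Q_le (by simpa [mul_assoc] using mem_cj.mp h2))
  have h5 : cj (k⁻¹ * g) X.Q = X.Q := cj_eq_self (mem_normalizer_of_conj fun _ => X.conj_mem_Q h4)
  conv_rhs => rw [← h5, ← cj_mul, mul_inv_cancel_left]

theorem card_of_ds (h : W.SEm G) (ds : GW.DS G) : Nat.card G = 60 := by
  obtain ⟨X⟩ := suz_of nc h
  obtain ⟨w, hw, w2, w1, ws⟩ := X.rank
  have hs := Iv.ord ⟨X.ss, X.s1⟩
  have hr : GW.Refl X.s w := ⟨Iv.ord ⟨w2, w1⟩, (X.Z_comm X.s_mem_Z hw).symm, ws⟩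
  refine card_of_se nc h (Clos.suz_sylow X) (Eq.trans ?_ (GW.card_four hs hr))
  rw [le_antisymm (fun x hx => (GW.mem_four hs hr).mpr (ds.mem_four hs hr (W.pw_of_mem X.struct.two hx)
    (X.Z_comm X.s_mem_Z hx).symm (X.Z_comm (X.mem_Z.mpr ⟨hw, w2⟩) hx).symm)) (GW.four_le.mpr ⟨X.sQ, hw⟩)]

theorem perfect_of : commutator G = ⊤ := (quasisimple_iff.mp (QS.of_isSimpleGroup nc)).1

theorem one_class_of_cyc (hS : IsSylowIn 2 S ⊤) (hx : x ∈ S) (h : Nat.card S ≤ 2 * orderOf x) (ha : Invo a)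
    (hb : Invo b) : IsConj a b := by
  have h1 := (zpowers x).relIndex_mul_relIndex ⊥ |> fun _ => relIndex_mul_relIndex ⊥ _ _ bot_le (zpowers_le.mpr hx)
  rw [relIndex_bot_left, relIndex_bot_left, Nat.card_zpowers] at h1
  have h2 : (zpowers x).relIndex S = 2 := by
    have h3 : (zpowers x).relIndex S ≠ 1 := fun e => H9.F3.not_cyclic_sylow (perfect_of nc) (two_dvd_of_simple nc) hS
      (le_antisymm (relIndex_eq_one.mp e) (zpowers_le.mpr hx) ▸ inferInstance)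
    have h4 : (zpowers x).relIndex S ≠ 0 := index_ne_zero_of_finite
    have : (zpowers x).relIndex S ≤ 2 := Nat.le_of_mul_le_mul_left (by rw [h1, mul_comm]; exact h) (orderOf_pos x)
    omega
  have key := fun t : G => H6.thompson_transfer_sylow (H6.index_ne_two_of_perfect (perfect_of nc)) hS.toSylowTop
    (t := t) h2
  obtain ⟨s, hs, e⟩ := key a (by rw [pow_two, ha.1])
  obtain ⟨s', hs', e'⟩ := key b (by rw [pow_two, hb.1])
  exact e.trans (GW.eq_of_mem_zpowers hs' hs ((H6.orderOf_eq_of_isConj e').symm.trans (Iv.ord hb))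
    ((H6.orderOf_eq_of_isConj e).symm.trans (Iv.ord ha)) ▸ e'.symm)

theorem eq_one_of_iv (ha : a * a = 1) (h : ∀ s, Invo s → s * a = a * s) : a = 1 := by_contra fun a1 => by
  have h1 : normalClosure ({a} : Set G) ≤ Cz a := closure_le _ |>.mpr fun x hx => by
    obtain ⟨_, rfl, hy⟩ := Group.mem_conjugatesOfSet_iff.mp hx
    obtain ⟨g, rfl⟩ := isConj_iff.mp hy
    exact mem_Cz.mpr (h _ (Iv.conj ⟨ha, a1⟩ g))
  rcases (normalClosure_normal (s := {a})).eq_bot_or_eq_top with e | e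
  · exact a1 (mem_bot.mp (e ▸ (subset_normalClosure (s := {a}) rfl : a ∈ normalClosure ({a} : Set G))))
  · exact H6.centralizer_ne_top_of_simple nc a1 (top_le_iff.mp (e ▸ h1))

end simple

theorem nonempty_equiv_map {G₁ G₂ : Type*} [Group G₁] [Group G₂] (f : G →* G₁) (g : G →* G₂) {L : Subgroup G}
    (h : ∀ x ∈ L, f x = 1 ↔ g x = 1) : Nonempty (L.map f ≃* L.map g) :=
  ⟨(QuotientGroup.quotientKerEquivOfSurjective _ (f.subgroupMap_surjective L)).symm.trans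
    ((QuotientGroup.quotientMulEquivOfEq (ext fun x => by
      simpa [MonoidHom.mem_ker, Subtype.ext_iff] using h x x.2)).trans
    (QuotientGroup.quotientKerEquivOfSurjective _ (g.subgroupMap_surjective L)))⟩

section normal
variable {L : Subgroup G} [L.Normal]

/-- the projection modulo `C(L)` -/
abbrev pc (L : Subgroup G) [L.Normal] : G →* G ⧸ centralizer (L : Set G) := QuotientGroup.mk' _

theorem pc_surj : Function.Surjective (pc L) := QuotientGroup.mk'_surjective _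

theorem pc_eq_one : pc L x = 1 ↔ x ∈ centralizer (L : Set G) := QuotientGroup.eq_one_iff x

instance : (L.map (pc L)).Normal := Normal.map inferInstance _ pc_surj

theorem comap_k : (L.map (pc L)).comap (pc L) = L ⊔ centralizer (L : Set G) := by
  rw [comap_map_eq, QuotientGroup.ker_mk']

variable (q : IsQuasisimple L)
include q

theorem k_cent (y : G ⧸ centralizer (L : Set G)) (h : ∀ e ∈ L.map (pc L), y * e = e * y) : y = 1 := by
  obtain ⟨x, rfl⟩ := pc_surj y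
  rcases QS.commutator_eq_or q (U := zpowers x) le_normalizer_of_normal with e | e
  · refine (QS.not_le_centralizer q (e.ge.trans (commutator_le.mpr fun l hl w hw => pc_eq_one.mp ?_))).elim
    rw [map_commutatorElement, commutatorElement_eq_one_iff_mul_comm]
    exact (cm_zp (h _ ⟨l, hl, rfl⟩) (mem_map_of_mem _ hw |> (MonoidHom.map_zpowers _ x).le)).symm
  · exact pc_eq_one.mpr fun l hl => comm_eq_bot_iff.mp e l hl x (mem_zpowers x)

theorem k_qs : IsQuasisimple (L.map (pc L)) := QS.map q _ fun e =>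
  QS.not_le_centralizer q (by simpa using (map_eq_bot_iff L).mp e)

theorem k_simple : IsSimpleGroup (L.map (pc L)) := QS.isSimpleGroup_of_center_eq_bot (k_qs q)
  (eq_bot_iff.mpr fun y hy => Subtype.ext (k_cent q y fun e he =>
    (congrArg Subtype.val (mem_center_iff.mp hy ⟨e, he⟩)).symm))

theorem k_nc : ¬ IsMulCommutative (L.map (pc L)) := QS.not_isMulCommutative (k_qs q)

variable (h : R1 G)
include h

theorem le_of_four (ty : W.Typ (L.map (pc L)))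
    (h4 : ∀ S, IsSylowIn 2 S ⊤ → Four (S ⊓ L ⊔ S ⊓ centralizer (L : Set G))) (hS : IsSylowIn 2 S ⊤) :
    S ≤ L ⊔ centralizer (L : Set G) := by
  have := k_simple q
  rw [← comap_k, ← map_le_iff_le_comap]
  refine le_of_typ (k_nc q) (k_cent q) (fun S' T' hS hT hle => ?_) ty (Clos.sylow_map hS _ pc_surj)
  obtain ⟨S, h1, -, rfl⟩ := exists_lift_ge _ pc_surj hS IsPGroup.of_bot bot_le
  have h2 : S ⊓ L ⊔ S ⊓ centralizer (L : Set G) ≤ S := sup_le inf_le_left inf_le_left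
  obtain ⟨T, h3, h5, rfl⟩ := exists_lift_ge _ pc_surj hT (h1.pgroup.to_le h2) (sup_le
    (fun x hx => hle ⟨⟨x, hx.1, rfl⟩, ⟨x, hx.2, rfl⟩⟩) fun x hx => by
      rw [mem_comap, pc_eq_one.mpr hx.2]; exact one_mem _)
  rw [h T S h3 h1 (four_mono (h4 S h1) (le_inf h5 h2))]

variable (hW : IsPGroup 2 Y) (hle : Y ≤ centralizer (L : Set G)) (hc : ¬ IsCyclic Y)
include hW hle hc

omit q h in
theorem four_of_w (hS : IsSylowIn 2 S ⊤) (hX : X ≤ S) (h1 : S ⊓ centralizer (L : Set G) ≤ X) (h2 : x ∈ X) (h3 : x ∈ L)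
    (h4 : x ∉ centralizer (L : Set G)) : Four X :=
  four_of_cent (hS.pgroup.to_le hX) h1 (not_cyclic_syl (syl_inf hS) hW hle hc) h2
    (fun _ hy => (hy.2 x h3).symm) fun e => h4 e.2

theorem k_sem : W.SEm (L.map (pc L)) := by
  have := k_simple q
  obtain ⟨S, hS⟩ := exists_isSylowIn 2 (⊤ : Subgroup G)
  refine sem_of (k_nc q) ((syl_inf hS).map _) ?_
  rintro _ ⟨w, hw, rfl⟩ w1 _ ⟨k, hk, rfl⟩ e
  have h1 : k⁻¹ * w * k * w⁻¹ ∈ centralizer (L : Set G) := pc_eq_one.mp (by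
    simp only [map_mul, map_inv, mul_assoc]; rw [← mul_assoc (pc L w), ← e]; group)
  have h2 : k⁻¹ * w * k * w⁻¹ ∈ S ⊓ L := by
    obtain ⟨n, hn⟩ := W.pw_of_mem hS.pgroup hw.1
    refine mem_syl (syl_inf hS) ⟨n, ?_⟩ (mul_mem (mul_mem (mul_mem (inv_mem hk) hw.2) hk) (inv_mem hw.2))
      fun x hx => mem_Cz.mpr (h1 x hx.2)
    have h3 := (show Commute (k⁻¹ * w * k * w⁻¹) w from (h1 w hw.2).symm).mul_pow (2 ^ n)
    rwa [inv_mul_cancel_right, hn, mul_one, ← inv_inv k, inv_inv k⁻¹, conj_pow, hn, mul_one, mul_inv_cancel,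
      eq_comm, inv_inv] at h3
  have h3 := h _ _ (syl_cj hS k) hS (four_of_w hW hle hc hS inf_le_right
    (fun x hx => ⟨mem_cj_of_comm hx.1 (hx.2 k hk), hx.1⟩)
    ⟨mem_cj.mpr (by simpa using mul_mem h2.1 hw.1), hw.1⟩ hw.2 fun e => w1 (pc_eq_one.mpr e))
  exact le_normalizer_map _ ⟨k, cj_eq_self_iff.mp (by rw [cj_inf, h3, cj_eq_self (le_normalizer hk)]), rfl⟩

theorem le_of_w (hS : IsSylowIn 2 S ⊤) : S ≤ L ⊔ centralizer (L : Set G) :=
  le_of_four q h (Or.inl (k_sem q h hW hle hc)) (fun S hS => by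
    obtain ⟨x, hx, h1⟩ := SetLike.not_le_iff_exists.mp (QS.sylow_not_le_centralizer q (two_dvd_qs q) (syl_inf hS))
    exact four_of_w hW hle hc hS (sup_le inf_le_left inf_le_left) le_sup_right (mem_sup_left hx) hx.2 h1) hS

end normal

end Cfsg.Agent.H7.CI
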