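import Cfsg.Agent.H7.CI4

/-! Groups with Sylow intersections of rank at most one: a cyclic `O₂(G)`. -/

set_option autoImplicit false
set_option linter.unusedSectionVars false

namespace Cfsg.Agent.H7.CI

open Subgroup H8 H2.SC WA Jk BS
open GW (Cz mem_Cz)
open scoped commutatorElement

universe u

variable {G : Type u} [Group G] [Finite G] {L P Q S T X Y : Subgroup G} {a b t x y z : G}

theorem ds_four {K : Subgroup G} (ds : GW.DS K) (ha : a ∈ K) (hb : b ∈ K) (hx : x ∈ K) (ia : Invo a) (ib : Invo b)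
    (hne : b ≠ a) (hc : b * a = a * b) (h2 : ∃ k, x ^ 2 ^ k = 1) (h3 : x * a = a * x) (h4 : x * b = b * x) :
    x = 1 ∨ x = a ∨ x = b ∨ x = a * b := by
  simpa [Subtype.ext_iff] using ds.mem_four (t := ⟨a, ha⟩) (w := ⟨b, hb⟩) (x := ⟨x, hx⟩)
    ((orderOf_coe _).symm.trans (Iv.ord ia))
    ⟨(orderOf_coe _).symm.trans (Iv.ord ib), Subtype.ext hc, fun e => hne (congrArg Subtype.val e)⟩
    (h2.imp fun _ e => Subtype.ext e) (Subtype.ext h3) (Subtype.ext h4)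

section cover
variable {K : Type u} [Group K] [Finite K] [IsSimpleGroup K] (ρ : G →* K) (hρ : Function.Surjective ρ)
  (hk : IsPGroup 2 ρ.ker) (hc : ∀ x ∈ ρ.ker, ∀ g, g * x = x * g) (hz : z ∈ ρ.ker) (iz : Invo z) (tt : t * t = 1)
  (t1 : ρ t ≠ 1)
include hρ hc hz iz tt t1

theorem cover_false (hY : IsPGroup 2 Y) (h1 : ρ.ker ≤ Y) (h2 : ¬ Four Y) (h3 : ¬ IsCyclic Y)
    (oc : ∀ a b : K, Invo a → Invo b → IsConj a b) : False := by
  have h4 : ∀ x ∈ ρ.ker, x * x = 1 := fun x hx => sq_of_cent hY h2 le_rfl h3 (h1 hx) fun g _ => hc x hx g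
  obtain ⟨i, hi, -, -, h5, -⟩ := exists_ij hY h2 h3
  obtain ⟨k, e⟩ := isConj_iff.mp (oc (ρ t) (ρ i) ⟨by rw [← map_mul, tt, map_one], t1⟩
    ⟨by rw [← map_mul, uniq_iv hY h2 (mul_mem hi hi) (h1 hz) h5 iz]; exact hz, fun e => h5.2 (h4 i e)⟩)
  obtain ⟨g, rfl⟩ := hρ k
  have h6 : (g * t * g⁻¹)⁻¹ * i ∈ ρ.ker := by
    rw [MonoidHom.mem_ker, map_mul, map_inv, map_mul, map_mul, map_inv, e, inv_mul_cancel]
  have h7 := GS.G0.sq_conj tt g
  generalize g * t * g⁻¹ = s at *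
  refine h5.2 ?_
  calc i * i = s * (s⁻¹ * i * s) * (s⁻¹ * i) := by group
    _ = s * s * (s⁻¹ * i * (s⁻¹ * i)) := by rw [← hc _ h6]; group
    _ = 1 := by rw [h7, h4 _ h6, one_mul]

include hk in
theorem cover_typ (hGS : GSh.{u}) (nc : ¬ IsMulCommutative K) (h : R1 G) : W.Typ K := by
  obtain ⟨R, hR⟩ := exists_isSylowIn 2 (⊤ : Subgroup K)
  suffices H : ∀ a ∈ omZ R, ∀ g, g * a * g⁻¹ ∈ R → g * a * g⁻¹ ∈ omZ R by
    rcases hGS _ K (Nat.lt_succ_self _) nc (omZ R) (GS.SC.of_sylow hR (omZ_le R) (fun a ha => ha.2.1)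
      fun a ha g _ => H a ha g) (omZ_ne_bot hR.pgroup (sylow_ne_bot nc hR)) with h1 | h1 | h1
    exacts [Or.inl ⟨_, h1⟩, Or.inr (Or.inl fun T hT => (hT.card_eq_card h1.1).trans h1.2), Or.inr (Or.inr h1.2)]
  intro a ha g hg
  by_contra hn
  have a1 : a ≠ 1 := fun e => hn (by simp [e])
  have ne : g * a * g⁻¹ ≠ a := fun e => hn (e.symm ▸ ha)
  have iv := Iv.conj ⟨ha.2.1, a1⟩ g
  have h1 : g * a * g⁻¹ ∈ omZ (cj g R) := cj_omZ g R ▸ conj_mem_cj g ha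
  generalize g * a * g⁻¹ = b at *
  obtain ⟨T, hT, h2⟩ := exists_isSylowIn_ge (hR.pgroup.to_le (inf_le_left : R ⊓ Cz b ≤ R)) inf_le_right
  have h3 := (syl_cj hR g).of_card_ge hT.pgroup le_top
    (((syl_cj hR g).of_le (H := Cz b) (fun x hx => mem_Cz.mpr (h1.2.2 x hx)) le_top).card_eq_card hT).le
  have ha' : a ∈ R ⊓ T := ⟨ha.1, h2 ⟨ha.1, mem_Cz.mpr (ha.2.2 b hg).symm⟩⟩
  have hb' : b ∈ R ⊓ T := ⟨hg, h2 ⟨hg, mem_Cz.mpr rfl⟩⟩
  have hY : IsPGroup 2 ((R ⊓ T).comap ρ) := (hR.pgroup.to_le inf_le_left).comap_of_ker_isPGroup ρ hk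
  have h4 : ¬ Four ((R ⊓ T).comap ρ) := fun h4 => by
    obtain ⟨R', k1, k2, rfl⟩ := exists_lift_ge ρ hρ hR hY (comap_mono inf_le_left)
    obtain ⟨T', k3, k4, rfl⟩ := exists_lift_ge ρ hρ h3 hY (comap_mono inf_le_right)
    obtain rfl := h _ _ k1 k3 (four_mono h4 (le_inf k2 k4))
    exact hn ⟨hg, iv.1, fun s hs => mem_Cz.mp (hT.le hs)⟩
  have h5 : ¬ IsCyclic ((R ⊓ T).comap ρ) := fun e => by
    have := H5.isCyclic_map ρ e
    rw [map_comap_eq_self_of_surjective hρ] at this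
    exact not_cyclic_of_four ⟨a, ha', b, hb', ⟨ha.2.1, a1⟩, iv, ne.symm, (ha.2.2 b hg).symm⟩ this
  have h6 : ρ.ker ≤ (R ⊓ T).comap ρ := ker_le_comap _ _
  have ds := (show H5.DC (ρ.subgroupComap (R ⊓ T)) ⟨z, h6 hz⟩ from
    ⟨ρ.subgroupComap_surjective_of_surjective _ hρ, fun x => by
      rw [Subtype.ext_iff, Subtype.ext_iff, Subtype.ext_iff]
      exact ⟨fun e => eq_or_of_sq hY h4 x.2 (h6 hz) (sq_of_cent hY h4 le_rfl h5 x.2 fun g _ => hc x e g) iz,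
        fun e => show ρ x = 1 from e.elim (fun e => by rw [e]; exact map_one ρ) fun e => by rw [e]; exact hz⟩,
      (orderOf_coe _).symm.trans (Iv.ord iz), fun x e =>
        (eq_or_of_sq hY h4 x.2 (h6 hz) (congrArg Subtype.val e) iz).imp Subtype.ext Subtype.ext⟩).ds
  obtain ⟨x, hx, h7⟩ := H9.F3.mc hR.pgroup hg ((H9.card_le_of_subset (s := {1, a, b, a * b}) (Set.toFinite _)
    fun x hx => by
      simpa using ds_four ds ha' hb' ⟨hx.1, h2 hx⟩ ⟨ha.2.1, a1⟩ iv ne (ha.2.2 b hg) (W.pw_of_mem hR.pgroup hx.1)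
        (ha.2.2 x hx.1) (mem_Cz.mp hx.2)).trans (H9.ncard_le_four _ _ _ _))
  exact cover_false ρ hρ hc hz iz tt t1 hY h6 h4 h5 fun _ _ => one_class_of_cyc nc hR hx h7

end cover

theorem le_syl [Q.Normal] (hQ : IsPGroup 2 Q) (hS : IsSylowIn 2 S ⊤) : Q ≤ S :=
  hS.le_of_le_normalizer hQ le_top le_normalizer_of_normal

section
variable [L.Normal] (q : IsQuasisimple L) (h : R1 G) (hC : IsPGroup 2 (centralizer (L : Set G)))
  (hz : z ∈ centralizer (L : Set G)) (iz : Invo z)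
include q h hC hz iz

/-- an involution of `L C(L)` outside `C(L)` -/
theorem cyc_inner (hGS : GSh.{u}) (hab : ∀ x ∈ centralizer (L : Set G), ∀ y ∈ centralizer (L : Set G), y * x = x * y)
    (ht : t ∈ L ⊔ centralizer (L : Set G)) (tt : t * t = 1) (t1 : t ∉ centralizer (L : Set G))
    (hS : IsSylowIn 2 S ⊤) (hT : IsSylowIn 2 T ⊤) (hne : S ≠ T) : IsCyclic (S ⊓ T : Subgroup G) := by
  have := k_simple q
  have hN : L ≤ normalizer (centralizer (L : Set G) : Set G) := le_normalizer_of_normal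
  have h0 : ∀ x ∈ centralizer (L : Set G), L ⊔ centralizer (L : Set G) ≤ Cz x := fun x hx =>
    sup_le (fun l hl => mem_Cz.mpr (hx l hl)) fun y hy => mem_Cz.mpr (hab x hx y hy)
  let ρ := (pc L).subgroupComap (L.map (pc L))
  have hρ : Function.Surjective ρ := (pc L).subgroupComap_surjective_of_surjective _ pc_surj
  have mk : ∀ {x}, x ∈ ρ.ker ↔ (x : G) ∈ centralizer (L : Set G) := by
    intro x; rw [MonoidHom.mem_ker, Subtype.ext_iff, ← pc_eq_one]; rfl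
  have hk : IsPGroup 2 ρ.ker := (pgroup_subgroupOf hC _).to_le fun _ hx => mk.mp hx
  have hc : ∀ x ∈ ρ.ker, ∀ g, g * x = x * g := fun x hx g =>
    Subtype.ext (mem_Cz.mp (h0 x (mk.mp hx) (comap_k.le g.2)))
  have z' : (⟨z, comap_k.ge (mem_sup_right hz)⟩ : (L.map (pc L)).comap (pc L)) ∈ ρ.ker := mk.mpr hz
  have iz' : Invo (⟨z, comap_k.ge (mem_sup_right hz)⟩ : (L.map (pc L)).comap (pc L)) :=
    ⟨Subtype.ext iz.1, fun e => iz.2 (congrArg Subtype.val e)⟩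
  have tt' : (⟨t, comap_k.ge ht⟩ : (L.map (pc L)).comap (pc L)) * ⟨t, comap_k.ge ht⟩ = 1 := Subtype.ext tt
  have t1' : ρ ⟨t, comap_k.ge ht⟩ ≠ 1 := fun e => t1 (mk.mp e)
  have ty := cover_typ ρ hρ hk hc z' iz' tt' t1' hGS (k_nc q) (h.subgroup _)
  have h1 := fun S => le_of_four (S := S) q h ty fun S hS => by
    obtain ⟨g, hg⟩ := Clos.exists_conj_mem hS (W.pw_of_sq tt)
    have h1 := (inferInstance : (L ⊔ centralizer (L : Set G)).Normal).conj_mem t ht g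
    have h2 := mt (fun e => by simpa [mul_assoc] using normal_centralizer.conj_mem _ e g⁻¹ :
      g * t * g⁻¹ ∈ centralizer (L : Set G) → _) t1
    refine ⟨_, ?_, z, mem_sup_right ⟨le_syl hC hS hz, hz⟩, ⟨GS.G0.sq_conj tt g, fun e => h2 (e ▸ one_mem _)⟩, iz,
      fun e => h2 (e ▸ hz), mem_Cz.mp (h0 z hz h1)⟩
    obtain ⟨l, hl, c, hc, e⟩ := (mem_sup_of_le_normalizer' hN).mp h1
    rw [← e] at hg ⊢
    exact mul_mem (mem_sup_left ⟨(Subgroup.mul_mem_cancel_right _ (le_syl hC hS hc)).mp hg, hl⟩)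
      (mem_sup_right ⟨le_syl hC hS hc, hc⟩)
  by_contra hn
  have h2 : S ⊓ T ≤ (L.map (pc L)).comap (pc L) := inf_le_left.trans ((h1 S hS).trans comap_k.ge)
  refine cover_false ρ hρ hc z' iz' tt' t1' (pgroup_subgroupOf (hS.pgroup.to_le (inf_le_left : S ⊓ T ≤ S)) _)
    (fun x hx => ⟨le_syl hC hS (mk.mp hx), le_syl hC hT (mk.mp hx)⟩) (fun h4 => hne (h S T hS hT ?_))
    (fun _ => hn (isCyclic_of_surjective _ (subgroupOfEquivOfLe h2).surjective)) fun _ _ => one_class (k_nc q) ty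
  exact four_mono (four_map h4 (subtype_injective _)) (map_subgroupOf_eq_of_le h2).le

omit h hC in
theorem dc_of (hzL : z ∈ L) (h1 : ∀ x ∈ L, x ∈ centralizer (L : Set G) → x = 1 ∨ x = z)
    (h2 : ∀ x ∈ L, x * x = 1 → x = 1 ∨ x = z) : H5.DC ((pc L).subgroupMap L) ⟨z, hzL⟩ :=
  ⟨(pc L).subgroupMap_surjective L, fun x => by
    rw [Subtype.ext_iff, Subtype.ext_iff, Subtype.ext_iff]
    exact pc_eq_one.trans ⟨h1 x x.2, fun e => e.elim (· ▸ one_mem _) (· ▸ hz)⟩,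
    (orderOf_coe _).symm.trans (Iv.ord iz), fun x e =>
      (h2 x x.2 (congrArg Subtype.val e)).imp Subtype.ext Subtype.ext⟩

/-- no involution of `L C(L)` outside `C(L)` -/
theorem cyc_outer (h4 : ¬ Four (centralizer (L : Set G)))
    (hi : ∀ t ∈ L ⊔ centralizer (L : Set G), t * t = 1 → t ∈ centralizer (L : Set G))
    (hS : IsSylowIn 2 S ⊤) : ¬ Four S := fun hF => by
  have := k_simple q
  have u : ∀ t ∈ L ⊔ centralizer (L : Set G), t * t = 1 → t = 1 ∨ t = z := fun t ht tt =>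
    eq_or_of_sq hC h4 (hi t ht tt) hz tt iz
  have zc : ∀ g, g * z = z * g := fun g => mul_inv_eq_iff_eq_mul.mp
    (uniq_iv hC h4 (normal_centralizer.conj_mem z hz g) hz (Iv.conj iz g) iz)
  have h5 : ¬ Four (S ⊓ (L ⊔ centralizer (L : Set G))) := fun ⟨a, ha, b, hb, ia, ib, e, _⟩ =>
    e (((u a ha.2 ia.1).resolve_left ia.2).trans ((u b hb.2 ib.1).resolve_left ib.2).symm)
  have hP := not_cyclic_qs q (syl_inf hS)
  have u' : ∀ x ∈ centralizer (L : Set G), x = 1 ∨ x = z := fun x hx => u x (mem_sup_right hx)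
    (sq_of_cent (hS.pgroup.to_le inf_le_left) h5 (inf_le_inf_left _ le_sup_left) hP
      ⟨le_syl hC hS hx, mem_sup_right hx⟩ fun l hl => hx l hl.2)
  have zL : z ∈ L := by
    obtain ⟨i, hi, -, -, h6, -⟩ := exists_ij (syl_inf hS).pgroup
      (fun e => h5 (four_mono e (inf_le_inf_left _ le_sup_left))) hP
    exact (u _ (mem_sup_left (mul_mem hi hi).2) h6.1).resolve_left h6.2 ▸ (mul_mem hi hi).2
  have dc := dc_of q hz iz zL (fun x _ => u' x) fun x hx => u x (mem_sup_left hx)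
  have ds := dc.ds
  obtain ⟨t, ht, it, tz⟩ : ∃ t ∈ S, Invo t ∧ t ≠ z := by
    obtain ⟨a, ha, b, hb, ia, ib, e, -⟩ := hF
    by_cases e' : a = z
    exacts [⟨b, hb, ib, fun e2 => e (e'.trans e2.symm)⟩, ⟨a, ha, ia, e'⟩]
  have tK : pc L t ∉ L.map (pc L) := fun e => (u t (comap_k.le e) it.1).elim it.2 tz
  have U : ∀ s ∈ S, Invo s → s ≠ z → ∀ X : Subgroup _, IsPGroup 2 X → pc L s ∈ X → X ≤ S.map (pc L) := by
    intro s hs is sz X hX h1
    obtain ⟨T', h2, h3⟩ := exists_isSylowIn_ge hX le_top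
    obtain ⟨T, h6, h7, rfl⟩ := exists_lift_ge _ pc_surj h2 (W.pg_sq is.1) (zpowers_le.mpr (h3 h1))
    rwa [← h T S h6 hS ⟨s, ⟨h7 (mem_zpowers s), hs⟩, z, ⟨le_syl hC h6 hz, le_syl hC hS hz⟩, is, iz, sz, zc s⟩]
  have U' : ∀ s ∈ S, Invo s → s ≠ z → ∀ y, y * y = 1 → y * pc L s = pc L s * y → y ∈ S.map (pc L) :=
    fun s hs is sz y h1 h2 => by
      obtain ⟨T, hT, h3⟩ := W.exists_sylow_mem (W.pw_of_sq h1) (mem_Cz.mpr h2)
      exact U s hs is sz T hT.pgroup (mem_syl hT (W.pw_of_sq (by rw [← map_mul, is.1, map_one])) (mem_Cz.mpr rfl)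
        hT.le) h3
  have hS' := Clos.sylow_map hS _ (pc_surj (L := L))
  have hP' := syl_inf (K := L.map (pc L)) hS'
  have tS : pc L t ∈ S.map (pc L) := ⟨t, ht, rfl⟩
  have tt : pc L t * pc L t = 1 := by rw [← map_mul, it.1, map_one]
  obtain ⟨α, hα, oα, cα, -⟩ := H5.exists_mem_centralizer_of_isPGroup hP'.pgroup hS'.pgroup
    (le_normalizer_inf le_normalizer le_normalizer_of_normal) fun e =>
      sylow_ne_bot (k_nc q) (Clos.sylow_sub hP') (by rw [e, bot_subgroupOf])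
  have iα := Iv.of_ord oα
  have uα : ∀ β ∈ L.map (pc L), β * β = 1 → β * pc L t = pc L t * β → β = 1 ∨ β = α := fun β hβ β2 βt => by
    by_contra! hn
    obtain ⟨k, e⟩ := isConj_iff.mp (ds.fus (perfect_of (k_nc q)) (t := ⟨α, hα.2⟩) ((orderOf_coe _).symm.trans oα)
      ⟨β, hβ⟩ ((orderOf_coe _).symm.trans (Iv.ord ⟨β2, hn.1⟩)))
    replace e : (k : G ⧸ _) * α * (k : G ⧸ _)⁻¹ = β := congrArg Subtype.val e
    obtain ⟨T, hT, h1⟩ := W.exists_sylow_mem (W.pw_of_sq tt) (mem_Cz.mpr βt.symm)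
    have h2 := (hP'.cj_of_mem_normalizer (le_normalizer k.2)).of_le (H := Cz β ⊓ L.map (pc L)) (le_inf (by
      rw [← e, Cz, ← cj_centralizer_singleton]
      exact cj_mono _ fun x hx => mem_Cz.mpr (cα x hx.1)) (cj_le_of_mem k.2 inf_le_right)) inf_le_right
    have h3 := eq_of_le_of_card_ge (inf_le_inf_right (L.map (pc L)) (U t ht it tz T hT.pgroup h1))
      ((card_cj _ _).symm.trans (h2.card_eq_card (hT.inf_of_le_normalizer le_normalizer_of_normal))).le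
    have h6 : ∀ x ∈ S.map (pc L) ⊓ L.map (pc L), x = 1 ∨ x = α ∨ x = β ∨ x = α * β := fun x hx =>
      ds_four ds hα.2 hβ hx.2 iα ⟨β2, hn.1⟩ hn.2 (mem_Cz.mp (hT.le (h3.ge hα).1)).symm (W.pw_of_mem hP'.pgroup hx)
        (cα x hx.1) (mem_Cz.mp (hT.le (h3.ge hx).1))
    have h7 : ∀ y, y * α = α * y → y * β = β * y → y ∈ centralizer (S.map (pc L) ⊓ L.map (pc L) : Subgroup _) := by
      intro y e1 e2 x hx
      rcases h6 x hx with rfl | rfl | rfl | rfl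
      exacts [by simp, e1.symm, e2.symm, by rw [mul_assoc, ← e2, ← mul_assoc, ← e1, mul_assoc]]
    obtain ⟨s, hs, h8⟩ := exists_inv_mul_mem_centralizer (N := L.map (pc L)) (by
        rw [opp, pPrimeCore_eq_bot_of_simple (two_dvd_of_simple (k_nc q)), Subgroup.map_bot]) hP'
      ⟨⟨fun x y => Subtype.ext (h7 y (cα y y.2.1) (mem_Cz.mp (hT.le (h3.ge y.2).1)) x x.2)⟩⟩
      (h7 _ (cα _ tS) βt.symm) (k := 1) (by rw [pow_one, pow_two, tt])
    exact tK (inv_mul_eq_one.mp (k_cent q _ fun e he => (h8 e he).symm) ▸ hs.2)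
  have lift : ∀ α ∈ S.map (pc L) ⊓ L.map (pc L), ∃ a ∈ S ⊓ L, pc L a = α := by
    rintro _ ⟨⟨a, ha, rfl⟩, h1⟩
    obtain ⟨c, hc, l, hl, rfl⟩ := (mem_sup_of_le_normalizer (le_normalizer_of_normal (H := centralizer (L : Set G)))).mp
      (sup_comm L _ ▸ comap_k.le h1)
    exact ⟨l, ⟨(Subgroup.mul_mem_cancel_left _ (le_syl hC hS hc)).mp ha, hl⟩, by rw [map_mul, pc_eq_one.mpr hc, one_mul]⟩
  obtain ⟨a, ha, rfl⟩ := lift α hα
  have sq : ∀ x ∈ L, Invo (pc L x) → x * x = z := fun x hx ix =>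
    (u' _ (pc_eq_one.mp (by rw [map_mul, ix.1]))).resolve_left fun e =>
      ix.2 (pc_eq_one.mpr (hi x (mem_sup_left hx) e))
  have ta : t * a * (t * a) = 1 := by
    rcases u' (t * a * t⁻¹ * a⁻¹) (pc_eq_one.mp (by
      simp only [map_mul, map_inv]; rw [cα _ tS]; group)) with e | e
    swap
    · calc t * a * (t * a) = t * a * t⁻¹ * a⁻¹ * (a * (t * t) * a) := by group
        _ = 1 := by rw [e, it.1, mul_one, sq a ha.2 iα, iz.1]
    exfalso
    obtain ⟨β, hβ, iβ, h1⟩ : ∃ β ∈ S.map (pc L) ⊓ L.map (pc L), Invo β ∧ β ≠ pc L a := by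
      obtain ⟨a', ha', b, hb, ia, ib, e, -⟩ := four_of_simple' (k_nc q) hP'
      by_cases e' : a' = pc L a
      exacts [⟨b, hb, ib, fun e2 => e (e'.trans e2.symm)⟩, ⟨a', ha', ia, e'⟩]
    obtain ⟨y, hy, rfl⟩ := lift β hβ
    have ti : t⁻¹ = t := inv_eq_of_mul_eq_one_right it.1
    have h2 : y⁻¹ * (t * y * t⁻¹) ∈ S ⊓ L := mul_mem (inv_mem hy) (mem_inf.mpr ⟨mul_mem (mul_mem ht hy.1) (inv_mem ht),
      (inferInstance : L.Normal).conj_mem y hy.2 t⟩)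
    obtain ⟨k, hk⟩ := W.pw_of_mem hS.pgroup h2.1
    obtain ⟨i, h3, h6⟩ := H5.exists_pow_not_mem_pow_mem (H := centralizer (L : Set G)) (hk ▸ one_mem _) fun e => by
      have := pc_eq_one.mpr e
      rw [map_mul, map_inv, inv_mul_eq_one, map_mul, map_mul, map_inv, eq_mul_inv_iff_mul_eq] at this
      exact (uα _ hβ.2 iβ.1 this).elim iβ.2 h1
    have h7 : t * (y⁻¹ * (t * y * t⁻¹)) ^ 2 ^ i * t⁻¹ = ((y⁻¹ * (t * y * t⁻¹)) ^ 2 ^ i)⁻¹ := by
      rw [← conj_pow, ← inv_pow]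
      congr 1
      calc _ = t * y⁻¹ * t * y * (t * t)⁻¹ := by group
        _ = _ := by rw [it.1]; nth_rw 2 [← ti]; group
    replace h2 := (pow_mem h2 (2 ^ i)).2
    generalize (y⁻¹ * (t * y * t⁻¹)) ^ 2 ^ i = d at *
    have id : Invo (pc L d) := ⟨by rw [← map_mul, ← pow_two, pc_eq_one.mpr h6], mt pc_eq_one.mp h3⟩
    have h8 := (uα _ ⟨d, h2, rfl⟩ id.1 (mul_inv_eq_iff_eq_mul.mp (by
      rw [← map_inv, ← map_mul, ← map_mul, h7, map_inv, inv_eq_of_mul_eq_one_right id.1])).symm).resolve_left id.2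
    have h9 : t * d * t⁻¹ = d := by
      have e' : t * a * t⁻¹ = a := mul_inv_eq_one.mp e
      rcases u' (d * a⁻¹) (pc_eq_one.mp (by rw [map_mul, map_inv, h8, mul_inv_cancel])) with k | k
      · rwa [mul_inv_eq_one.mp k]
      · rw [eq_mul_of_mul_inv_eq k, ← conj_mul, e', zc, mul_inv_cancel_right]
    exact iz.2 (by rw [← sq d h2 id]; nth_rw 1 [← h9]; rw [h7, inv_mul_cancel])
  refine iα.2 (congrArg Subtype.val (eq_one_of_iv (k_nc q) (a := ⟨_, hα.2⟩) (Subtype.ext iα.1)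
    fun s is => Subtype.ext ?_))
  have ss : s.1 * s.1 = 1 := congrArg Subtype.val is.1
  obtain ⟨n, h1, h2, h3⟩ := H9.exists_central_involution_of_not_isConj tt ss fun e => by
    obtain ⟨g, e⟩ := isConj_iff.mp e.symm
    exact tK (e ▸ (inferInstance : (L.map (pc L)).Normal).conj_mem _ s.2 g)
  have h6 : (pc L t * s) ^ n ∈ L.map (pc L) ∨ (pc L t * s) ^ n * pc L t ∈ L.map (pc L) := by
    clear h1 h2 h3
    induction n with
    | zero => exact Or.inl (by simp)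
    | succ n ih =>
      refine ih.symm.imp (fun h => ?_) fun h => ?_
      · rw [pow_succ, ← mul_assoc]; exact mul_mem h s.2
      · rw [pow_succ, mul_assoc]
        refine mul_mem h ?_
        nth_rw 2 [← inv_eq_of_mul_eq_one_right tt]
        exact (inferInstance : (L.map (pc L)).Normal).conj_mem _ s.2 _
  generalize (pc L t * s) ^ n = w at *
  rcases h6 with h6 | h6
  · exact ((uα w h6 (W.sq2 h1) h2).resolve_left (W.ne1 h1) ▸ h3).eq.symm
  rcases uα _ h6 (by rw [mul_assoc, ← mul_assoc _ w, ← h2.eq, mul_assoc, tt, mul_one, W.sq2 h1])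
    (by rw [← mul_assoc, h2.eq]) with e | e
  · exact cα _ (U' t ht it tz _ ss (by
      rw [← mul_right_cancel (e.trans tt.symm)]; exact h3.eq.symm))
  · refine cα _ (U' (t * a) (mul_mem ht ha.1) ⟨ta, fun e => tK ?_⟩ (fun e => tK ?_) _ ss ?_)
    · exact ⟨t, eq_inv_of_mul_eq_one_left e ▸ inv_mem ha.2, rfl⟩
    · exact ⟨t, eq_mul_inv_of_mul_eq e ▸ mul_mem zL (inv_mem ha.2), rfl⟩
    · rw [map_mul, ← e, h2.eq, ← mul_assoc (pc L t), tt, one_mul]; exact h3.eq.symm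

end

end Cfsg.Agent.H7.CI
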