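import Cfsg.Agent.H7.CI5

/-! Groups with non-cyclic Sylow intersections of rank one. -/

set_option autoImplicit false
set_option linter.unusedSectionVars false

namespace Cfsg.Agent.H7.CI

open Subgroup H8 H2.SC WA Jk BS
open GW (Cz mem_Cz)
open scoped commutatorElement MatrixGroups

universe u

instance : Fact (Nat.Prime 5) := ⟨Nat.prime_five⟩

def CaseA (G : Type*) [Group G] : Prop := ∃ L : Subgroup G, L.Normal ∧ (∀ S, IsSylowIn 2 S ⊤ → S ≤ L ⊔ pCore 2 G) ∧
  (∃ n, Nonempty (pCore 2 G ≃* QuaternionGroup (2 ^ (n + 1)))) ∧ List3 (L.map (QuotientGroup.mk' (pCore 2 G))) ∧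
  ∃ A : Subgroup G, (∀ a ∈ A, a * a = 1) ∧ 4 < Nat.card A

def CaseB (G : Type*) [Group G] : Prop := ∃ E : Subgroup G, E.Normal ∧ (Odd E.index ∨ ∃ k, Odd k ∧ E.index = 2 * k) ∧
  ∃ (Z : Subgroup (SL(2, ZMod 5) × SL(2, ZMod 5))) (_ : Z.Normal), Z = zpowers (-1, -1) ∧
    Nonempty (E ≃* (SL(2, ZMod 5) × SL(2, ZMod 5)) ⧸ Z)

variable {G : Type u} [Group G] [Finite G] {L L' P Q S T X Y : Subgroup G} {a b t x y z : G}

theorem sl_of [L.Normal] (q : IsQuasisimple L) (se : W.SEm (L.map (pc L))) (hz : z ∈ centralizer (L : Set G))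
    (iz : Invo z) (hzL : z ∈ L) (h1 : ∀ x ∈ L, x ∈ centralizer (L : Set G) → x = 1 ∨ x = z)
    (h2 : ∀ x ∈ L, x * x = 1 → x = 1 ∨ x = z) : Nonempty (L ≃* SL(2, ZMod 5)) := by
  have := k_simple q
  have dc := dc_of q hz iz hzL h1 h2
  obtain ⟨e⟩ := H5.equiv_PSL_five_of_card (card_of_ds (k_nc q) se dc.ds) (ZMod.card 5)
  exact dc.equiv_SL (by decide) e (perfect_of (k_nc q)) (two_dvd_of_simple (k_nc q))

theorem exists_e8 (ix : Invo x) (iy : Invo y) (hne : y ≠ x) (zz : z * z = 1) (h1 : y * x = x * y) (h2 : z * x = x * z)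
    (h3 : z * y = y * z) (h4 : ¬ (z = 1 ∨ z = x ∨ z = y ∨ z = x * y)) :
    ∃ A : Subgroup G, (∀ a ∈ A, a * a = 1) ∧ 4 < Nat.card A := by
  have hr : GW.Refl x y := ⟨Iv.ord iy, h1, hne⟩
  have hc : zpowers z ≤ centralizer (GW.four x y : Set G) := zpowers_le.mpr (GW.mem_centralizer_four.mpr ⟨h2, h3⟩)
  refine ⟨GW.four x y ⊔ zpowers z, fun a ha => ?_, GW.card_four (Iv.ord ix) hr ▸ card_lt_of_lt
    (lt_of_le_of_ne le_sup_left fun e => h4 ((GW.mem_four (Iv.ord ix) hr).mp (e ▸ mem_sup_right (mem_zpowers z))))⟩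
  obtain ⟨v, hv, w, hw, rfl⟩ := (mem_sup_of_le_normalizer (hc.trans (centralizer_le_normalizer _))).mp ha
  rw [mul_assoc, ← mul_assoc w, ← hc hw v hv, mul_assoc, ← mul_assoc, GW.four_sq (Iv.ord ix) hr hv, one_mul]
  rcases (H9.mem_zpowers_of_mul_self zz).mp hw with rfl | rfl
  exacts [mul_one _, zz]

theorem le_cent_of_ne (hL : IsComponent L) (hL' : IsComponent L') (hne : L ≠ L') : L' ≤ centralizer (L : Set G) :=
  commutator_eq_bot_iff_le_centralizer.mp (Comp.comm_of_ne hL' hL hne.symm)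

theorem pCore_le_cent (hL : IsComponent L) : pCore 2 G ≤ centralizer (L : Set G) :=
  le_centralizer_iff.mp (commutator_eq_bot_iff_le_centralizer.mp (Comp.comm_pCore hL 2))

variable (h : R1 G)
include h

theorem no_four (hL : IsComponent L) (hY : IsPGroup 2 Y) (hle : Y ≤ centralizer (L : Set G)) : ¬ Four Y := fun h4 => by
  obtain ⟨S, hS, h1⟩ := exists_isSylowIn_ge hY le_top
  obtain ⟨k, hk, -, h2⟩ := exists_cj_ne hL hS
  exact h2 (h _ _ (syl_cj hS k) hS (four_mono h4 fun x hx => ⟨mem_cj_of_comm (h1 hx) (hle hx k hk), h1 hx⟩))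

section two
variable (hL : IsComponent L) (hL' : IsComponent L') (hne : L ≠ L')
include hL hL' hne

theorem sq_two (hY : IsPGroup 2 Y) (h1 : Y ≤ centralizer (L : Set G)) (h2 : Y ≤ centralizer (L' : Set G))
    (hx : x ∈ Y) : x * x = 1 := by
  obtain ⟨P, hP⟩ := exists_isSylowIn 2 L'
  have h3 := h2.trans (centralizer_le hP.le)
  have h4 := hP.pgroup.to_sup_of_normal_left' hY (h3.trans (centralizer_le_normalizer _))
  exact sq_of_cent h4 (no_four h hL h4 (sup_le (hP.le.trans (le_cent_of_ne hL hL' hne)) h1)) le_sup_left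
    (not_cyclic_qs (Comp.compOf hL').qs hP) (mem_sup_right hx) (h3 hx)

theorem third (hX : IsComponent X) : X = L ∨ X = L' := by
  by_contra! hn
  obtain ⟨P, hP⟩ := exists_isSylowIn 2 X
  have h1 := hP.le.trans (le_cent_of_ne hL hX hn.1.symm)
  obtain ⟨i, hi, -, -, h2, -⟩ := exists_ij hP.pgroup (no_four h hL hP.pgroup h1)
    (not_cyclic_qs (Comp.compOf hX).qs hP)
  exact h2.2 (sq_two h hL hL' hne hP.pgroup h1 (hP.le.trans (le_cent_of_ne hL' hX hn.2.symm)) hi)

theorem norm_two : normalizer (L : Set G) ≤ normalizer (L' : Set G) := fun g hg =>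
  cj_eq_self_iff.mp ((third h hL hL' hne (Comp.conj hL' g)).resolve_left fun e =>
    hne (cj_injective g ((cj_eq_self hg).trans e.symm)))

theorem index_two : (normalizer (L : Set G)).index ∣ 2 := by
  rw [index_dvd_two_iff]
  by_cases h1 : ∀ b, b ∈ normalizer (L : Set G)
  · exact ⟨1, fun b => Or.inr (h1 b)⟩
  have key : ∀ b, b ∉ normalizer (L : Set G) → cj b L = L' := fun b hb =>
    (third h hL hL' hne (Comp.conj hL b)).resolve_left fun e => hb (cj_eq_self_iff.mp e)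
  obtain ⟨a, ha⟩ := not_forall.mp h1
  refine ⟨a, fun b => or_iff_not_imp_right.mpr fun hb => cj_eq_self_iff.mp ?_⟩
  rw [cj_mul, key a ha]
  exact (third h hL hL' hne (Comp.conj hL' b)).resolve_right fun e =>
    hne (cj_injective b ((key b hb).trans e.symm))

variable (hO : pPrimeCore 2 G = ⊥)
include hO

theorem exists_z : ∃ z ∈ L, Invo z ∧ z ∈ pCore 2 G ∧ (∀ x ∈ pCore 2 G, x = 1 ∨ x = z) ∧
    ∀ x ∈ L, x * x = 1 → x = 1 ∨ x = z := by
  have q := (Comp.compOf hL).qs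
  have h0 := fun P (hP : IsSylowIn 2 P L) => no_four h hL' hP.pgroup (hP.le.trans (le_cent_of_ne hL' hL hne.symm))
  obtain ⟨⟨z, hz⟩, z1⟩ := ne_bot_iff_exists_ne_one.mp (show L ⊓ centralizer (L : Set G) ≠ ⊥ from fun e => by
    have := QS.isSimpleGroup_of_center_eq_bot q (map_injective L.subtype_injective (by
      rw [map_subtype_center, Subgroup.map_bot, e]))
    obtain ⟨P, hP⟩ := exists_isSylowIn 2 L
    exact h0 P hP (four_of_simple' (QS.not_isMulCommutative q) hP))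
  have h1 : z ∈ pCore 2 G := L0.fitting_eq_pCore_of_pPrimeCore_eq_bot hO ▸ Comp.center_le_fitting hL hz
  have h2 := fun x => sq_two (x := x) h hL hL' hne L0.pCore_isPGroup (pCore_le_cent hL) (pCore_le_cent hL')
  have iz : Invo z := ⟨h2 z h1, fun e => z1 (Subtype.ext e)⟩
  refine ⟨z, hz.1, iz, h1, fun x hx => eq_or_of_sq L0.pCore_isPGroup
    (no_four h hL L0.pCore_isPGroup (pCore_le_cent hL)) hx h1 (h2 x hx) iz, fun x hx e => ?_⟩
  obtain ⟨P, hP, h3⟩ := W.exists_sylow_mem (W.pw_of_sq e) hx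
  exact eq_or_of_sq hP.pgroup (h0 P hP) h3 (mem_syl hP (W.pw_of_sq iz.1) hz.1 fun y hy =>
    mem_Cz.mpr (hz.2 y (hP.le hy))) e iz

theorem loc_two : Nonempty (L ≃* SL(2, ZMod 5)) ∧ ∀ x ∈ normalizer (L : Set G), (∃ k, x ^ 2 ^ k = 1) →
    ∃ l ∈ L, l⁻¹ * x ∈ centralizer (L : Set G) := by
  obtain ⟨z, hz, iz, h1, h2, h3⟩ := exists_z h hL hL' hne hO
  obtain ⟨P, hP⟩ := exists_isSylowIn 2 L'
  have h4 := hP.le.trans (le_cent_of_ne hL hL' hne)
  have q := (QS.subgroupOf_iff le_normalizer).mpr (Comp.compOf hL).qs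
  have mc : ∀ x : normalizer (L : Set G), x ∈ centralizer (L.subgroupOf (normalizer (L : Set G)) : Set _) ↔
      (x : G) ∈ centralizer (L : Set G) := fun x =>
    ⟨fun e l hl => congrArg Subtype.val (e ⟨l, le_normalizer hl⟩ hl), fun e l hl => Subtype.ext (e l hl)⟩
  have hW := pgroup_subgroupOf hP.pgroup (normalizer (L : Set G))
  have hle : P.subgroupOf _ ≤ _ := fun x hx => (mc x).mpr (h4 hx)
  have hc : ¬ IsCyclic (P.subgroupOf (normalizer (L : Set G))) := fun _ => not_cyclic_qs (Comp.compOf hL').qs hP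
    (isCyclic_of_surjective _ (subgroupOfEquivOfLe (h4.trans (centralizer_le_normalizer _))).surjective)
  refine ⟨?_, fun x hx hx2 => ?_⟩
  · obtain ⟨e⟩ := sl_of q (k_sem q (h.subgroup _) hW hle hc) (z := ⟨z, le_normalizer hz⟩)
      ((mc _).mpr (pCore_le_cent hL h1)) ⟨Subtype.ext iz.1, fun e => iz.2 (congrArg Subtype.val e)⟩ hz
      (fun x hx e => (h2 x (L0.fitting_eq_pCore_of_pPrimeCore_eq_bot hO ▸
        Comp.center_le_fitting hL ⟨hx, (mc x).mp e⟩)).imp Subtype.ext Subtype.ext)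
      fun x hx e => (h3 x hx (congrArg Subtype.val e)).imp Subtype.ext Subtype.ext
    exact ⟨(subgroupOfEquivOfLe le_normalizer).symm.trans e⟩
  · obtain ⟨S, hS, h5⟩ := W.exists_sylow_mem (x := (⟨x, hx⟩ : normalizer (L : Set G)))
      (hx2.imp fun _ e => Subtype.ext e) (mem_top _)
    obtain ⟨l, hl, c, hc, e⟩ := (mem_sup_of_le_normalizer le_normalizer_of_normal).mp
      (le_of_w q (h.subgroup _) hW hle hc hS h5)
    exact ⟨l, hl, by rw [← show (l : G) * c = x from congrArg Subtype.val e, inv_mul_cancel_left]; exact (mc c).mp hc⟩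

theorem case_two : CaseB G := by
  obtain ⟨z, hz, iz, h1, h2, h3⟩ := exists_z h hL hL' hne hO
  obtain ⟨z', hz', iz', h1', -, h3'⟩ := exists_z h hL' hL hne.symm hO
  obtain rfl := (h2 z' h1').resolve_left iz'.2
  obtain ⟨⟨e⟩, h4⟩ := loc_two h hL hL' hne hO
  obtain ⟨⟨e'⟩, h4'⟩ := loc_two h hL' hL hne.symm hO
  have hF := L0.fitting_eq_pCore_of_pPrimeCore_eq_bot hO
  have c := le_cent_of_ne hL hL' hne
  have c' := le_cent_of_ne hL' hL hne.symm
  have hE : layer G = L ⊔ L' := le_antisymm (layer_le_iff.mpr fun X hX =>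
    (third h hL hL' hne hX).elim (·.le.trans le_sup_left) (·.le.trans le_sup_right))
    (sup_le (Comp.le_layer hL) (Comp.le_layer hL'))
  refine ⟨layer G, inferInstance, ?_, ?_⟩
  · obtain ⟨S, hS⟩ := exists_isSylowIn 2 (normalizer (L : Set G))
    have h5 : S ≤ layer G := fun x hx => by
      obtain ⟨l, hl, e1⟩ := h4 x (hS.le hx) (W.pw_of_mem hS.pgroup hx)
      obtain ⟨l', hl', e2⟩ := h4' x (norm_two h hL hL' hne (hS.le hx)) (W.pw_of_mem hS.pgroup hx)
      have h5 : l'⁻¹ * (l⁻¹ * x) ∈ fittingSubgroup G := centralizer_fitting_inf_centralizer_layer_le ⟨fun y hy => by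
        rcases h2 y (hF ▸ hy) with rfl | rfl
        · simp
        · exact (mul_inv_eq_iff_eq_mul.mp ((h2 _ ((inferInstance : (pCore 2 G).Normal).conj_mem _ h1 _)).resolve_left
            (Iv.conj iz _).2)).symm, by
        rw [hE]
        refine le_centralizer_iff.mp (sup_le ?_ ?_) (mem_zpowers _) <;> refine le_centralizer_iff.mp (zpowers_le.mpr ?_)
        · exact mul_mem (inv_mem (c hl')) e1
        · rw [← mul_assoc, inv_mem (c hl') _ (inv_mem hl) |>.symm, mul_assoc]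
          exact mul_mem (inv_mem (c' hl)) e2⟩
      refine (Subgroup.mul_mem_cancel_left _ (inv_mem (Comp.le_layer hL hl))).mp
        ((Subgroup.mul_mem_cancel_left _ (inv_mem (Comp.le_layer hL' hl'))).mp ?_)
      rcases h2 _ (hF ▸ h5) with e | e <;> rw [e]
      exacts [one_mem _, Comp.le_layer hL hz]
    have h6 : Odd ((layer G).relIndex (normalizer (L : Set G))) :=
      Nat.not_even_iff_odd.mp fun e => hS.not_dvd_relIndex (e.two_dvd.trans (relIndex_dvd_of_le_left _ h5))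
    rw [← relIndex_mul_index (layer_le_normalizer hL)]
    rcases (Nat.dvd_prime Nat.prime_two).mp (index_two h hL hL' hne) with e | e <;> rw [e]
    exacts [Or.inl (by rwa [mul_one]), Or.inr ⟨_, h6, mul_comm _ _⟩]
  · let φ := (L.subtype.comp e.symm.toMonoidHom).noncommCoprod (L'.subtype.comp e'.symm.toMonoidHom)
      fun m n => c (e'.symm n).2 _ (e.symm m).2
    have key : ∀ {L : Subgroup G} (e : L ≃* SL(2, ZMod 5)), (∀ x ∈ L, x * x = 1 → x = 1 ∨ x = z') →
        ∀ m, ((e.symm m : G) = 1 ↔ m = 1) ∧ ((e.symm m : G) = z' ↔ m = -1) := fun e h3 m => by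
      have k1 : ∀ m, (e.symm m : G) = 1 ↔ m = 1 := fun m => by simp
      refine ⟨k1 m, ?_⟩
      rw [← (h3 _ (e.symm (-1)).2 (by rw [← coe_mul, ← map_mul]; simp)).resolve_left (mt (k1 _).mp (by decide))]
      simp
    have hk : zpowers (-1, -1) = φ.ker := le_antisymm (zpowers_le.mpr (show (e.symm (-1) : G) * e'.symm (-1) = 1 by
      rw [(key e h3 _).2.mpr rfl, (key e' h3' _).2.mpr rfl, iz.1])) fun x hx => by
      replace hx : (e.symm x.1 : G) * e'.symm x.2 = 1 := hx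
      rcases h2 _ (hF ▸ Comp.center_le_fitting hL ⟨(e.symm x.1).2, by
        rw [eq_inv_of_mul_eq_one_left hx]; exact (centralizer _).inv_mem (c (e'.symm x.2).2)⟩) with k | k <;> rw [k] at hx
      · rw [show x = 1 from Prod.ext ((key e h3 _).1.mp k) ((key e' h3' _).1.mp (by simpa using hx))]
        exact one_mem _
      · rw [show x = (-1, -1) from Prod.ext ((key e h3 _).2.mp k)
          ((key e' h3' _).2.mp (mul_left_cancel (hx.trans iz.1.symm)))]
        exact mem_zpowers _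
    refine ⟨φ.ker, inferInstance, hk.symm, ⟨(MulEquiv.subgroupCongr ?_).trans (QuotientGroup.quotientKerEquivRange φ).symm⟩⟩
    refine hE.trans (Eq.trans ?_ (MonoidHom.noncommCoprod_range _ _ _).symm)
    simp [MonoidHom.range_comp, ← MonoidHom.range_eq_map]

end two

section one
variable [L.Normal] (hL : IsComponent L) (hO : pPrimeCore 2 G = ⊥)
include hL hO

theorem case_one (hc : ¬ IsCyclic (pCore 2 G)) : CaseA G := by
  have q := (Comp.compOf hL).qs
  have hQ : IsPGroup 2 (pCore 2 G) := L0.pCore_isPGroup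
  have hQC := pCore_le_cent hL
  have h4 := no_four h hL hQ hQC
  have hZ : ∀ x ∈ L, x ∈ centralizer (L : Set G) → x ∈ pCore 2 G := fun x h1 h2 =>
    L0.fitting_eq_pCore_of_pPrimeCore_eq_bot hO ▸ Comp.center_le_fitting hL ⟨h1, h2⟩
  have se := k_sem q h hQ hQC hc
  have := k_simple q
  refine ⟨L, inferInstance, fun S hS s hs => ?_, (H5.cyclic_or_quaternion_of_unique_involution hQ
    (uniq_ord hQ h4)).resolve_left hc, ?_, ?_⟩
  · have h1 := syl_inf (K := centralizer (L : Set G)) hS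
    obtain ⟨x, hx, h2⟩ := SetLike.not_le_iff_exists.mp (QS.sylow_not_le_centralizer q (two_dvd_qs q) (syl_inf hS))
    have h3 : S ⊓ centralizer (L : Set G) ≤ pCore 2 G := L0.le_pCore (normalizer_eq_top_iff.mp (eq_top_iff.mpr
      fun g _ => by
        obtain ⟨k, hk, e⟩ := h1.exists_cj_eq (syl_inf (syl_cj hS g))
        rw [cj_inf, h _ _ (syl_cj hS k) hS (four_of_cent (hS.pgroup.to_le inf_le_right)
          (le_inf (le_syl hQ (syl_cj hS k)) (le_syl hQ hS)) hc ⟨mem_cj_of_comm hx.1 (hk x hx.2).symm, hx.1⟩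
          (fun y hy => (hQC hy x hx.2).symm) fun e => h2 (hQC e)), cj_eq_self (le_normalizer hk)] at e
        rw [← cj_eq_self_iff, cj_inf, cj_eq_self (H := centralizer _) (le_normalizer_of_normal (mem_top g)), ← e]))
      h1.pgroup
    obtain ⟨l, hl, c, hc', rfl⟩ := (mem_sup_of_le_normalizer le_normalizer_of_normal).mp (le_of_w q h hQ hQC hc hS hs)
    obtain ⟨k, hk⟩ := W.pw_of_mem hS.pgroup hs
    rw [(show Commute l c from hc' l hl).mul_pow] at hk
    exact mul_mem (mem_sup_left hl) (mem_sup_right (mem_of_odd_relIndex le_normalizer_of_normal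
      (Nat.not_even_iff_odd.mp fun e => h1.not_dvd_relIndex (e.two_dvd.trans (relIndex_dvd_of_le_left _ h3))) hc'
      (hZ _ (eq_inv_of_mul_eq_one_right hk ▸ inv_mem (pow_mem hl _)) (pow_mem hc' _))))
  · obtain ⟨e⟩ := nonempty_equiv_map (QuotientGroup.mk' (pCore 2 G)) (pc L) (L := L) fun x hx =>
      (QuotientGroup.eq_one_iff x).trans (Iff.trans ⟨fun e => hQC e, hZ x hx⟩ pc_eq_one.symm)
    exact (list3_of_se (k_nc q) se).of_equiv e
  obtain ⟨i, hi, j, hj, iz, h1, h2⟩ := exists_ij hQ h4 hc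
  generalize hz : i * i = z at iz h1
  have zQ : z ∈ pCore 2 G := hz ▸ mul_mem hi hi
  have u : ∀ x ∈ L, pc L x = 1 → x = 1 ∨ x = z := fun x hx e => eq_or_of_sq hQ h4 (hZ x hx (pc_eq_one.mp e)) zQ
    (sq_of_cent hQ h4 le_rfl hc (hZ x hx (pc_eq_one.mp e)) fun y hy => (hQC hy x hx).symm) iz
  have key : ∀ a ∈ L, ∀ b ∈ L, Invo (pc L a) → Invo (pc L b) → a * a = b * b := fun a ha b hb ia ib => by
    obtain ⟨⟨_, g, hg, rfl⟩, e⟩ := isConj_iff.mp (one_class (k_nc q) (Or.inl se) (a := ⟨_, a, ha, rfl⟩)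
      (b := ⟨_, b, hb, rfl⟩) ⟨Subtype.ext ia.1, fun e => ia.2 (congrArg Subtype.val e)⟩
      ⟨Subtype.ext ib.1, fun e => ib.2 (congrArg Subtype.val e)⟩)
    replace e : pc L g * pc L a * (pc L g)⁻¹ = pc L b := congrArg Subtype.val e
    have e1 : g * (a * a) * g⁻¹ = a * a := by
      rw [pc_eq_one.mp (show pc L (a * a) = 1 by rw [map_mul, ia.1]) g hg, mul_inv_cancel_right]
    rw [← e1, ← conj_mul]
    rcases u (g * a * g⁻¹ * b⁻¹) (mul_mem (mul_mem (mul_mem hg ha) (inv_mem hg)) (inv_mem hb)) (by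
      simp only [map_mul, map_inv, e, mul_inv_cancel]) with k | k
    · rw [mul_inv_eq_one.mp k]
    · rw [eq_mul_of_mul_inv_eq k, mul_assoc, ← mul_assoc b, hQC zQ b hb, ← mul_assoc, ← mul_assoc, iz.1, one_mul]
  obtain ⟨P, hP⟩ := exists_isSylowIn 2 (L.map (pc L))
  obtain ⟨α, hα, β, hβ, ia, ib, hne, hab⟩ := four_of_simple' (k_nc q) hP
  obtain ⟨a, ha, rfl⟩ := hP.le hα
  obtain ⟨b, hb, rfl⟩ := hP.le hβ
  have iab : Invo (pc L (a * b)) := by
    rw [map_mul]
    exact ⟨by rw [mul_assoc, ← mul_assoc (pc L b), ← hab, mul_assoc, ib.1, mul_one, ia.1],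
      fun e => hne (mul_right_cancel (e.trans ib.1.symm))⟩
  have e1 := key b hb a ha ib ia
  have e2 := key _ (mul_mem ha hb) a ha iab ia
  have fin : ∀ x y, pc L x = pc L a → pc L y = pc L b → x * x = 1 → y * y = 1 → y * x = x * y → z * x = x * z →
      z * y = y * z → ∃ A : Subgroup G, (∀ a ∈ A, a * a = 1) ∧ 4 < Nat.card A := fun x y k1 k2 k3 k4 k5 k6 k7 => by
    refine exists_e8 ⟨k3, fun e => ia.2 (by rw [← k1, e, map_one])⟩ ⟨k4, fun e => ib.2 (by rw [← k2, e, map_one])⟩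
      (fun e => hne (by rw [← k1, ← k2, e])) iz.1 k5 k6 k7 ?_
    have := pc_eq_one.mpr (hQC zQ)
    rintro (e | e | e | e)
    exacts [iz.2 e, ia.2 (by rw [← k1, ← e, this]), ib.2 (by rw [← k2, ← e, this]),
      iab.2 (by rw [map_mul, ← k1, ← k2, ← map_mul, ← e, this])]
  have za := hQC zQ a ha
  have zb := hQC zQ b hb
  rcases u _ (mul_mem ha ha) (by rw [map_mul, ia.1]) with k | k <;> rw [k] at e1 e2
  · refine fin a b rfl rfl k e1 ?_ za.symm zb.symm
    calc b * a = a * a * b * a * (b * b) := by rw [k, e1]; group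
      _ = a * (a * b * (a * b)) * b := by group
      _ = a * b := by rw [e2, mul_one]
  have ai := hQC hi a ha
  have aj := hQC hj a ha
  have bi := hQC hi b hb
  have bj := hQC hj b hb
  refine fin (a * i) (b * j) (by rw [map_mul, pc_eq_one.mpr (hQC hi), mul_one])
    (by rw [map_mul, pc_eq_one.mpr (hQC hj), mul_one]) ?_ ?_ ?_ ?_ ?_
  · rw [← pow_two, (show Commute a i from ai).mul_pow, pow_two, pow_two, k, hz, iz.1]
  · rw [← pow_two, (show Commute b j from bj).mul_pow, pow_two, pow_two, e1, h1, iz.1]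
  · have k1 : b * a = a * b * z := by
      calc b * a = a⁻¹ * (a * b * (a * b)) * b⁻¹ := by group
        _ = a * b * (b * b) * (b * b * (b * b))⁻¹ := by rw [e2, ← k]; group
        _ = _ := by rw [e1, iz.1]; group
    have k2 : j * i = z * (i * j) := by
      calc j * i = j * i * j⁻¹ * j := by group
        _ = (i * i * (i * i))⁻¹ * (i * i) * (i * j) := by rw [h2]; group
        _ = _ := by rw [hz, iz.1]; group
    calc b * j * (a * i) = b * (j * a) * i := by group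
      _ = b * a * (j * i) := by rw [← aj]; group
      _ = a * b * (z * z) * i * j := by rw [k1, k2]; group
      _ = a * (b * i) * j := by rw [iz.1]; group
      _ = _ := by rw [bi]; group
  · rw [← mul_assoc, ← za, mul_assoc, ← hz]; group
  · rw [← mul_assoc, ← zb, mul_assoc, ← h1]; group

theorem cyc_one (hGS : GSh.{u}) (hE : layer G = L) (hc : IsCyclic (pCore 2 G)) (hS : IsSylowIn 2 S ⊤)
    (hT : IsSylowIn 2 T ⊤) (hne : S ≠ T) (h4 : Four S) : IsCyclic (S ⊓ T : Subgroup G) := by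
  have q := (Comp.compOf hL).qs
  have hQ : IsPGroup 2 (pCore 2 G) := L0.pCore_isPGroup
  have hF := L0.fitting_eq_pCore_of_pPrimeCore_eq_bot hO
  have hC : IsPGroup 2 (centralizer (L : Set G)) := fun ⟨c, hc'⟩ => by
    obtain ⟨p, -, r, hr, rfl, ⟨k, hk⟩, ho⟩ := exists_two_odd_decomp c
    obtain rfl := W.eq_one_of_odd_pw ho.not_two_dvd_nat (W.pw_of_mem hQ (hF ▸
      centralizer_fitting_inf_centralizer_layer_le ⟨hF ▸ H5.mem_centralizer_of_odd_of_isCyclic hQ hc
        (le_normalizer_of_normal (mem_top r)) ho, hE ▸ zpowers_le.mpr hc' hr⟩))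
    exact ⟨k, Subtype.ext (by simpa using hk)⟩
  have hQC : centralizer (L : Set G) = pCore 2 G := le_antisymm (L0.le_pCore inferInstance hC) (pCore_le_cent hL)
  by_cases h0 : pCore 2 G = ⊥
  · by_contra hn
    have := (nontrivial_iff_ne_bot L).mpr (Comp.ne_bot hL)
    have : Nontrivial G := L.subtype_injective.nontrivial
    obtain ⟨K, -, _, nc, ty, -, h1⟩ := h.simple_layer hGS (hF.trans h0)
    obtain ⟨i, hi, j, hj, h2, -, h3⟩ := exists_ij (hS.pgroup.to_le inf_le_left) (fun e => hne (h S T hS hT e)) hn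
    have k1 := Clos.sylow_sub (hS.of_le (h1 S hS) le_top)
    rcases typ_cases nc ty with h5 | h5
    · have e := subgroupOf_inj.mp (ti_of_se nc h5 k1 (Clos.sylow_sub (hT.of_le (h1 T hT) le_top))
        (x := ⟨i, h1 S hS hi.1⟩) hi.1 hi.2 fun e => h2.2 (by rw [show i = 1 from congrArg Subtype.val e, mul_one]))
      rw [inf_eq_left.mpr (h1 S hS), inf_eq_left.mpr (h1 T hT)] at e
      exact hne e
    · exact not_comm_ij h2 h3 (congrArg Subtype.val (h5.1 _ k1.pgroup ⟨i, h1 S hS hi.1⟩ hi.1 ⟨j, h1 S hS hj.1⟩ hj.1))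
  obtain ⟨⟨z, hz'⟩, z1⟩ := ne_bot_iff_exists_ne_one.mp (omZ_ne_bot hQ h0)
  have hz := hQC.ge hz'.1
  have iz : Invo z := ⟨hz'.2.1, fun e => z1 (Subtype.ext e)⟩
  by_cases hi : ∀ t ∈ L ⊔ centralizer (L : Set G), t * t = 1 → t ∈ centralizer (L : Set G)
  · exact (cyc_outer q h hC hz iz (no_four h hL hC le_rfl) hi hS h4).elim
  push Not at hi
  obtain ⟨t, ht, tt, t1⟩ := hi
  exact cyc_inner q h hC hz iz hGS (fun x hx y hy => comm_of_mem (hQC ▸ hc.isMulCommutative) hy hx) ht tt t1 hS hT hne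

end one

theorem core (hGS : GSh.{u}) (hO : pPrimeCore 2 G = ⊥) (hns : ¬ Group.IsSolvable G) (hS : IsSylowIn 2 S ⊤)
    (hT : IsSylowIn 2 T ⊤) (hne : S ≠ T) (hc : ¬ IsCyclic (S ⊓ T : Subgroup G)) (h4 : Four S) :
    CaseA G ∨ CaseB G := by
  have hQ : IsPGroup 2 (pCore 2 G) := L0.pCore_isPGroup
  obtain ⟨L, hL⟩ : ∃ L : Subgroup G, IsComponent L := by_contra fun hn => hns (by
    rcases H5.isPGroup_or_quaternion_of_unique_involution
      (centralizer_pCore_le_iff.mpr ⟨layer_eq_bot_iff.mpr (not_exists.mp hn), hO⟩) (uniq_ord hQ fun e =>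
        hne (h S T hS hT (four_mono e (le_inf (le_syl hQ hS) (le_syl hQ hT))))) with e | ⟨⟨e⟩, h1⟩
    · exact solvable_of_pgroup e
    refine Clos.solv_ext _ (solvable_of_pgroup hQ) ?_
    have h2 := card_eq_card_quotient_mul_card_subgroup (pCore 2 G)
    rw [Nat.card_congr e.toEquiv, Nat.card_eq_fintype_card (α := QuaternionGroup 2), QuaternionGroup.card] at h2
    have h3 : 0 < Nat.card (G ⧸ pCore 2 G) := Nat.card_pos
    by_cases h5 : Nat.card (G ⧸ pCore 2 G) = 2 ^ 2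
    · exact solvable_of_pgroup (IsPGroup.of_card h5)
    have := IsZGroup.of_squarefree (G := G ⧸ pCore 2 G) (by
      generalize Nat.card (G ⧸ pCore 2 G) = n at *
      have : n ≤ 6 := by omega
      interval_cases n <;> first | decide +kernel | omega)
    infer_instance)
  by_cases h1 : ∀ L' : Subgroup G, IsComponent L' → L' = L
  · have hE := layer_eq hL h1
    have : L.Normal := hE ▸ inferInstance
    exact Or.inl (case_one h hL hO fun e => hc (cyc_one h hL hO hGS hE e hS hT hne h4))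
  · push Not at h1
    obtain ⟨L', hL', e⟩ := h1
    exact Or.inr (case_two h hL' hL e hO)

omit h in
theorem equiv_map_odd {O : Subgroup G} [O.Normal] (hO : ¬ 2 ∣ Nat.card O) (hP : IsPGroup 2 P) :
    Nonempty (P ≃* P.map (QuotientGroup.mk' O)) :=
  ⟨MulEquiv.ofBijective ((QuotientGroup.mk' O).subgroupMap P) ⟨(injective_iff_map_eq_one _).mpr fun x hx =>
    Subtype.ext (mem_bot.mp (W.odd_inf_two hO hP ▸ mem_inf.mpr
      ⟨(QuotientGroup.eq_one_iff _).mp (congrArg Subtype.val hx), x.2⟩)), MonoidHom.subgroupMap_surjective _ _⟩⟩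

/-- an elementary abelian subgroup of order `8` makes `S` centralize the normal subgroups of odd order -/
theorem cent_of_e8 {O A : Subgroup G} [O.Normal] (hO : ¬ 2 ∣ Nat.card O) (hS : IsSylowIn 2 S ⊤) (hA : A ≤ S)
    (h2 : ∀ a ∈ A, a * a = 1) (h4 : 4 < Nat.card A) : O ≤ centralizer (S : Set G) := by
  refine (CopAct.of_pgroup (hS.pgroup.to_le hA) hO le_normalizer_of_normal).le_of_hyperplanes
    (elemAb_of (fun _ ha _ hb => BS.comm_of_sq h2 ha hb) fun a ha => by rw [pow_two, h2 a ha])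
    (fun e => by simp [e] at h4) fun B hB hi x hx s hs => ?_
  have h5 := relIndex_mul_relIndex ⊥ _ _ bot_le hB
  rw [relIndex_bot_left, relIndex_bot_left, hi] at h5
  obtain ⟨a, ha, a1, -⟩ := H9.exists_ne_ne_of_two_lt_card (H := B) (by omega) 1
  obtain ⟨b, hb, b1, e⟩ := H9.exists_ne_ne_of_two_lt_card (H := B) (by omega) a
  have h6 := cj_eq_self_iff.mp (h _ _ (syl_cj hS x) hS (four_mono ⟨a, ha, b, hb, ⟨h2 a (hB ha), a1⟩, ⟨h2 b (hB hb), b1⟩,
    e.symm, BS.comm_of_sq h2 (hB ha) (hB hb)⟩ fun y hy => ⟨mem_cj_of_comm (hA (hB hy)) (hx.2 y hy).symm, hA (hB hy)⟩))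
  refine (commutatorElement_eq_one_iff_mul_comm.mp (mem_bot.mp (W.odd_inf_two hO hS.pgroup ▸ mem_inf.mpr
    ⟨?_, mul_mem (conj_mem h6 hs) (inv_mem hs)⟩))).symm
  rw [commutatorElement_def, mul_assoc, mul_assoc, ← mul_assoc s]
  exact mul_mem hx.1 ((inferInstance : O.Normal).conj_mem _ (inv_mem hx.1) s)

omit h in
theorem s3310 (hGS : GSh.{u}) (hns : ¬ Group.IsSolvable G)
    (hI : ∀ S T : Sylow 2 G, S ≠ T → Cfsg.PRankLE 2 1 ↥((S : Subgroup G) ⊓ (T : Subgroup G)))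
    (hnC : ∃ S T : Sylow 2 (G ⧸ Cfsg.oddCore G), S ≠ T ∧
      ¬ IsCyclic ↥((S : Subgroup (G ⧸ Cfsg.oddCore G)) ⊓ (T : Subgroup (G ⧸ Cfsg.oddCore G))))
    (hnQ : ∀ S : Sylow 2 G, ∀ n : ℕ, IsEmpty (↥(S : Subgroup G) ≃* QuaternionGroup (2 ^ (n + 1)))) :
    (∃ (G₁ : Subgroup G) (_ : G₁.Normal) (_ : ((Cfsg.pCore 2 G ⊔ Cfsg.oddCore G).subgroupOf G₁).Normal),
      Odd G₁.index ∧ Cfsg.pCore 2 G ⊔ Cfsg.oddCore G ≤ G₁ ∧
      (∃ n : ℕ, Nonempty (↥(Cfsg.pCore 2 G) ≃* QuaternionGroup (2 ^ (n + 1)))) ∧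
      List3 (↥G₁ ⧸ (Cfsg.pCore 2 G ⊔ Cfsg.oddCore G).subgroupOf G₁)) ∨
    (∃ (G₁ : Subgroup G) (_ : G₁.Normal) (_ : ((Cfsg.oddCore G).subgroupOf G₁).Normal),
      (Odd G₁.index ∨ ∃ k : ℕ, Odd k ∧ G₁.index = 2 * k) ∧ Cfsg.oddCore G ≤ G₁ ∧
      ∃ (Z : Subgroup (SL(2, ZMod 5) × SL(2, ZMod 5))) (_ : Z.Normal), Z = Subgroup.zpowers (-1, -1) ∧
        Nonempty (↥G₁ ⧸ (Cfsg.oddCore G).subgroupOf G₁ ≃* (SL(2, ZMod 5) × SL(2, ZMod 5)) ⧸ Z)) := by
  set π := QuotientGroup.mk' (oddCore G)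
  have hπ : Function.Surjective π := QuotientGroup.mk'_surjective _
  have hO : ¬ 2 ∣ Nat.card (oddCore G) := L0.not_dvd_card_pPrimeCore
  have h : R1 G := r1_of fun S T hne h4 => h4.top_subtype.not_pRankLE (hI S T hne)
  obtain ⟨S, T, hne, hc⟩ := hnC
  rcases core (G := G ⧸ oddCore G) (r1_of fun S T hne h4 => by
      obtain ⟨S₀, T₀, h2, h3⟩ := H5.exists_sylow_pair_lift π hπ hne
      obtain ⟨e⟩ := equiv_map_odd hO (S₀.2.to_inf_left (K := T₀))
      exact (four_mono (four_map (h3 ▸ h4 : Four (map π _)).top_subtype (f := e.symm.toMonoidHom) e.symm.injective)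
        le_top).not_pRankLE (hI _ _ h2)) hGS L0.pPrimeCore_quotient_pPrimeCore
    (fun e => hns (Clos.solv_ext _ (GW.solvable_of_odd hO) e)) (isSylowIn_top S) (isSylowIn_top T)
    (fun e => hne (Sylow.ext e)) hc (by_contra fun h4 => by
      obtain ⟨S₀, h1, -, h2⟩ := exists_lift_ge π hπ (isSylowIn_top S) IsPGroup.of_bot bot_le
      obtain ⟨e⟩ := equiv_map_odd hO h1.pgroup
      rcases H5.cyclic_or_quaternion_of_unique_involution S.2 (uniq_ord S.2 h4) with _ | ⟨n, ⟨e'⟩⟩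
      · exact hc (isCyclic_of_le inf_le_left)
      · exact (hnQ h1.toSylowTop n).false ((e.trans (MulEquiv.subgroupCongr h2)).trans e'))
    with ⟨L, _, h1, ⟨n, ⟨e⟩⟩, h3, A, h4, h5⟩ | ⟨E, _, h1, Z, _, h2, ⟨e⟩⟩
  · obtain ⟨S', k1, k2⟩ := exists_isSylowIn_ge (Q := A) (p := 2) (fun a => ⟨1, Subtype.ext (by
      simpa [pow_two] using h4 a a.2)⟩) le_top
    obtain ⟨S, hS, -, rfl⟩ := exists_lift_ge π hπ k1 IsPGroup.of_bot bot_le
    obtain ⟨e1⟩ := equiv_map_odd hO (hS.pgroup.to_inf_left (K := A.comap π))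
    have k3 := cent_of_e8 h hO hS (A := S ⊓ A.comap π) inf_le_left (fun a ha => mem_bot.mp
      (W.odd_inf_two hO hS.pgroup ▸ mem_inf.mpr ⟨(QuotientGroup.eq_one_iff _).mp (h4 _ ha.2), mul_mem ha.1 ha.1⟩)) (by
        rwa [Nat.card_congr e1.toEquiv, show (S ⊓ A.comap π).map π = A from le_antisymm
          (map_le_iff_le_comap.mpr inf_le_right) fun a ha => let ⟨s, hs, e⟩ := k2 ha; ⟨s, ⟨hs, show π s ∈ A from e ▸ ha⟩, e⟩])
    have k4 : ∀ x ∈ (pCore 2 _).comap π, ∃ y ∈ S ⊓ (pCore 2 _).comap π, y⁻¹ * x ∈ oddCore G := fun x hx =>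
      let ⟨s, hs, e⟩ := le_syl L0.pCore_isPGroup k1 hx
      ⟨s, ⟨hs, show π s ∈ pCore 2 _ from e ▸ hx⟩, QuotientGroup.eq.mp e⟩
    have k5 : S ⊓ (pCore 2 _).comap π ≤ pCore 2 G := L0.le_pCore (normalizer_eq_top_iff.mp (eq_top_iff.mpr
      fun g _ => by
        obtain ⟨k, hk, e⟩ := (syl_inf (K := (pCore 2 _).comap π) hS).exists_cj_eq (syl_inf (syl_cj hS g))
        obtain ⟨y, hy, k5⟩ := k4 k hk
        rw [← mul_inv_cancel_left y k, cj_mul, cj_eq_self_of_mem_centralizer (g := y⁻¹ * k) (H := S ⊓ _)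
          fun x hx => k3 k5 x hx.1,
          cj_eq_self (le_normalizer hy)] at e
        rw [← cj_eq_self_iff, cj_inf, cj_eq_self (H := comap π _) (le_normalizer_of_normal (mem_top g)), ← e]))
      hS.pgroup.to_inf_left
    have k6 : (pCore 2 _).comap π = pCore 2 G ⊔ oddCore G := le_antisymm (fun x hx => by
        obtain ⟨y, hy, k6⟩ := k4 x hx
        exact mul_inv_cancel_left y x ▸ mul_mem (mem_sup_left (k5 hy)) (mem_sup_right k6))
      (sup_le (map_le_iff_le_comap.mp (L0.map_pCore_le π hπ)) ((QuotientGroup.ker_mk' _).ge.trans (ker_le_comap _ _)))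
    have hf : Function.Surjective ((QuotientGroup.mk' (pCore 2 _)).comp π) := (QuotientGroup.mk'_surjective _).comp hπ
    have k7 : ((QuotientGroup.mk' (pCore 2 _)).comp π).ker = pCore 2 G ⊔ oddCore G := by
      rw [← MonoidHom.comap_ker, QuotientGroup.ker_mk', k6]
    have : (L.map (QuotientGroup.mk' (pCore 2 _))).Normal := Normal.map inferInstance _ (QuotientGroup.mk'_surjective _)
    obtain ⟨e2⟩ := nonempty_equiv_comap _ hf (L.map (QuotientGroup.mk' (pCore 2 _))) k7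
    obtain ⟨e3⟩ := equiv_map_odd hO (L0.pCore_isPGroup (p := 2) (G := G))
    refine Or.inl ⟨_, inferInstance, inferInstance, ?_, k7 ▸ ker_le_comap _ _,
      ⟨n, ⟨(e3.trans (MulEquiv.subgroupCongr ?_)).trans e⟩⟩, h3.of_equiv e2⟩
    · rw [index_comap_of_surjective _ hf]
      refine odd_index_of fun S hS => ?_
      obtain ⟨S, h6, -, rfl⟩ := exists_lift_ge _ (QuotientGroup.mk'_surjective _) hS IsPGroup.of_bot bot_le
      simpa [Subgroup.map_sup] using map_mono (f := QuotientGroup.mk' (pCore 2 _)) (h1 S h6)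
    · simpa [Subgroup.map_sup, π] using (congrArg (map π) k6).symm.trans (map_comap_eq_self_of_surjective hπ _)
  · obtain ⟨e2⟩ := nonempty_equiv_comap π hπ E (QuotientGroup.ker_mk' _)
    exact Or.inr ⟨E.comap π, inferInstance, inferInstance, by rwa [index_comap_of_surjective _ hπ],
      (QuotientGroup.ker_mk' _).ge.trans (ker_le_comap _ _), Z, inferInstance, h2, ⟨e2.trans e⟩⟩

end Cfsg.Agent.H7.CI
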