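import Cfsg.Agent.H7.J1L2
import Cfsg.Agent.H7.ZStar
import Cfsg.Agent.BS.SEMain

/-! A subgroup `M = X C_M(X)` whose `X`-involutions fix a unique coset is the whole group. -/

set_option autoImplicit false

namespace Cfsg.Agent.H7.Jk

open Subgroup Cfsg.Agent.H8 Cfsg.Agent.BS
open scoped commutatorElement

universe u

structure NX (X : Type*) [Group X] : Prop where
  cen : ∀ z : X, (∀ y, Commute z y) → z = 1
  four : ∀ x : X, Iv x → ∃ v, Iv v ∧ Commute v x ∧ v ≠ x
  ncm : ∃ a b : X, Iv a ∧ Iv b ∧ ¬ Commute a b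
  odd : ∀ K : Subgroup X, K.Normal → (∀ v, Iv v → v ∉ K) → K = ⊥

variable {X : Type*} [Group X] {G : Type u} [Group G]

structure DH (φ : X →* G) (M : Subgroup G) : Prop where
  inj : Function.Injective φ
  mem : ∀ x, φ x ∈ M
  dec : ∀ m ∈ M, ∃ x, ∀ y, Commute ((φ x)⁻¹ * m) (φ y)
  fix : ∀ x, Iv x → ∀ g, g * φ x * g⁻¹ ∈ M → g ∈ M

namespace DH

variable {φ : X →* G} {M : Subgroup G} (h : DH φ M)
include h

theorem iv {x : X} (hx : Iv x) : Iv (φ x) :=
  ⟨by rw [← map_mul, hx.1, map_one], fun e => hx.2 (h.inj (e.trans (map_one φ).symm))⟩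

theorem cm {x y : X} (c : Commute (φ x) (φ y)) : Commute x y :=
  h.inj (by rw [map_mul, map_mul, c.eq])

theorem cent {x : X} (hx : Iv x) {g : G} (c : Commute g (φ x)) : g ∈ M :=
  h.fix x hx g (by rw [conj_eq_of_cm c]; exact h.mem x)

omit h in
theorem conj {m : G} {x : X} (hx : ∀ y, Commute ((φ x)⁻¹ * m) (φ y)) (y : X) :
    m * φ y * m⁻¹ = φ (x * y * x⁻¹) := by
  rw [map_mul, map_mul, map_inv, ← conj_eq_of_cm (hx y)]
  nth_rewrite 1 [← conj_eq_of_cm (hx y).inv_left]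
  group

omit h in
theorem sq_of_dec (hX : ∀ z : X, (∀ y, Commute z y) → z = 1) (inj : Function.Injective φ) {i : G} {x : X}
    (hx : ∀ y, Commute ((φ x)⁻¹ * i) (φ y)) (hi : i * i = 1) : x * x = 1 :=
  hX _ fun y => cm_of_conj_eq (inj (by
    rw [show x * x * y * (x * x)⁻¹ = x * (x * y * x⁻¹) * x⁻¹ by group, ← conj hx, ← conj hx,
      show i * (i * φ y * i⁻¹) * i⁻¹ = (i * i) * φ y * (i * i)⁻¹ by group, hi]
    group))

theorem le_of_odd [Finite G] {K : Subgroup G} (hK : ¬ 2 ∣ Nat.card K) {x v : X} (hx : Iv x) (hv : Iv v)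
    (c : Commute v x) (ne : v ≠ x) (h1 : φ x ∈ normalizer (K : Set G))
    (h2 : φ v ∈ normalizer (K : Set G)) : K ≤ M :=
  have k : ∀ y, Iv y → K ⊓ centralizer {φ y} ≤ M := fun _ hy _ hg =>
    h.cent hy (mem_centralizer_singleton_iff.mp hg.2)
  T4.le_of_four (Nat.odd_iff.mpr (Nat.two_dvd_ne_zero.mp hK)) (h.iv hx) (h.iv hv)
    (fun e => ne (h.inj e).symm) (c.map φ).symm h1 h2 (k x hx) (k v hv)
    (map_mul φ x v ▸ k _ (hx.mul hv c ne))

theorem sub {H : Subgroup G} (hH : ∀ x, φ x ∈ H) : DH (φ.codRestrict H hH) (M.subgroupOf H) where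
  inj a b e := h.inj (congrArg Subtype.val e)
  mem := h.mem
  dec m hm := by
    obtain ⟨x, hx⟩ := h.dec m hm
    exact ⟨x, fun y => Subtype.ext (hx y)⟩
  fix x hx g hg := h.fix x hx g hg

theorem quo (hX : NX X) (N : Subgroup G) [N.Normal] (hN : N ≤ M) (hc : ∀ n ∈ N, ∀ y, Commute n (φ y)) :
    DH ((QuotientGroup.mk' N).comp φ) (M.map (QuotientGroup.mk' N)) where
  inj := (injective_iff_map_eq_one _).mpr fun x hx =>
    hX.cen x fun y => h.cm (hc _ ((QuotientGroup.eq_one_iff _).mp hx) y)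
  mem x := mem_map_of_mem _ (h.mem x)
  dec := by
    rintro _ ⟨m, hm, rfl⟩
    obtain ⟨x, hx⟩ := h.dec m hm
    exact ⟨x, fun y => by simpa using (hx y).map (QuotientGroup.mk' N)⟩
  fix x hx g hg := by
    obtain ⟨g, rfl⟩ := QuotientGroup.mk'_surjective N g
    refine mem_map_of_mem _ (h.fix x hx g ?_)
    have : g * φ x * g⁻¹ ∈ (M.map (QuotientGroup.mk' N)).comap (QuotientGroup.mk' N) := hg
    rwa [comap_map_eq_self (by rwa [QuotientGroup.ker_mk'])] at this

end DH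

theorem card_lt_of_ne_top [Finite G] {H : Subgroup G} (h : H ≠ ⊤) : Nat.card H < Nat.card G :=
  lt_of_le_of_ne H.card_le_card_group fun e => h (H.eq_top_of_card_eq e)

open DH in
theorem disc_aux (hX : NX X) (n : ℕ) : ∀ (G : Type u) [Group G] [Finite G], Nat.card G = n →
    ∀ (φ : X →* G) (M : Subgroup G), DH φ M → M = ⊤ := by
  induction n using Nat.strong_induction_on with
  | _ n ih =>
  intro G _ _ hn φ M h
  by_contra hM
  have quo : ∀ (N : Subgroup G) [N.Normal], N ≤ M → (∀ n ∈ N, ∀ y, Commute n (φ y)) → N = ⊥ := by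
    intro N _ h1 h2
    by_contra hN
    have := ih _ (hn ▸ card_quotient_lt' hN) _ rfl _ _ (h.quo hX N h1 h2)
    apply hM
    rw [← comap_map_eq_self (f := QuotientGroup.mk' N) (H := M) (by rwa [QuotientGroup.ker_mk']), this,
      comap_top]
  obtain ⟨a, b, ha, hb, hab⟩ := hX.ncm
  obtain ⟨v, v1, v2, v3⟩ := hX.four a ha
  have hO : pPrimeCore 2 G = ⊥ := by
    have h1 : pPrimeCore 2 G ≤ M := h.le_of_odd L0.not_dvd_card_pPrimeCore ha v1 v2 v3
      (by rw [normalizer_eq_top]; trivial) (by rw [normalizer_eq_top]; trivial)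
    refine quo _ h1 fun k hk y => ?_
    obtain ⟨x, hx⟩ := h.dec k (h1 hk)
    have h2 := hX.odd ((pPrimeCore 2 G).comap φ) inferInstance fun w hw e =>
      L0.not_dvd_card_pPrimeCore (p := 2) (G := G)
        ((h.iv hw).ord.symm.dvd.trans (orderOf_dvd_natCard _ (mem_comap.mp e)))
    have h3 : x * y * x⁻¹ * y⁻¹ ∈ (pPrimeCore 2 G).comap φ := by
      rw [mem_comap, map_mul, ← conj hx, map_inv, mul_assoc, mul_assoc, ← mul_assoc (φ y)]
      exact mul_mem hk (Normal.conj_mem inferInstance _ (inv_mem hk) _)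
    rw [h2, mem_bot, mul_inv_eq_one] at h3
    exact cm_of_conj_eq (by rw [conj hx, h3])
  have dec : ∀ i ∈ M, Iv i → ∃ x, x * x = 1 ∧ ∀ y, Commute ((φ x)⁻¹ * i) (φ y) := fun i hi i1 => by
    obtain ⟨x, hx⟩ := h.dec i hi
    exact ⟨x, sq_of_dec hX.cen h.inj hx i1.1, hx⟩
  have cen : ∀ i ∈ M, Iv i → ∀ g, Commute g i → g ∈ M := fun i hi i1 g hg => by
    obtain ⟨x, x2, hx⟩ := dec i hi i1
    have mc : ∀ g, g ∈ centralizer ({i} : Set G) ↔ Commute g i := fun g => mem_centralizer_singleton_iff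
    by_cases x1 : x = 1
    · rw [x1, map_one, inv_one, one_mul] at hx
      by_cases hC : centralizer ({i} : Set G) = ⊤
      · have hz : ∀ g, Commute g i := fun g => (mc g).mp (hC ▸ mem_top g)
        have : (zpowers i).Normal := ⟨fun z hz' g => by rwa [conj_eq_of_cm (cm_zp (hz g).symm hz').symm]⟩
        exact absurd (zpowers_eq_bot.mp (quo (zpowers i) (by rwa [zpowers_le])
          fun z hz' y => cm_zp (hx y) hz')) i1.2
      · have := ih _ (hn ▸ card_lt_of_ne_top hC) _ rfl _ _ (h.sub fun y => (mc _).mpr (hx y).symm)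
        exact (this ▸ mem_top _ : (⟨g, (mc g).mpr hg⟩ : centralizer ({i} : Set G)) ∈ M.subgroupOf _)
    · have ix : Iv x := ⟨x2, x1⟩
      have cm : ∀ y, Commute y x → Commute (φ y) i := fun y hy => by
        have := (hy.map φ).mul_right (hx y).symm
        rwa [mul_inv_cancel_left] at this
      obtain ⟨w, w1, w2, w3⟩ := hX.four x ix
      have h1 : opp 2 (centralizer ({i} : Set G)) ≤ M := h.le_of_odd (not_dvd_card_opp _) ix w1 w2 w3
        (le_normalizer_opp _ ((mc _).mpr (cm x (Commute.refl x)))) (le_normalizer_opp _ ((mc _).mpr (cm w w2)))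
      have h2 := zstar_commute_in (h.iv ix).1 ((mc _).mpr (cm x (Commute.refl x))) (fun k hk c => by
        obtain ⟨y, hy⟩ := h.dec k (h.fix x ix k (h.cent ix c.symm))
        have : (x * y)⁻¹ * (y * x) = 1 := hX.cen _ fun z => cm_of_conj_eq (h.inj (by
          have e : k * (i * φ z * i⁻¹) * k⁻¹ = i * (k * φ z * k⁻¹) * i⁻¹ := by
            rw [show k * (i * φ z * i⁻¹) * k⁻¹ = (k * i) * φ z * (k * i)⁻¹ by group, ((mc k).mp hk).eq]
            group
          rw [conj hx, conj hy, conj hy, conj hx] at e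
          rw [show (x * y)⁻¹ * (y * x) * z * ((x * y)⁻¹ * (y * x))⁻¹ =
            (x * y)⁻¹ * (y * (x * z * x⁻¹) * y⁻¹) * (x * y) by group, h.inj e]
          group))
        rw [conj hy, ← inv_mul_eq_one.mp this, mul_inv_cancel_right]) ((mc g).mpr hg)
      refine h.fix x ix g ?_
      have := mul_mem (inv_mem (h.mem x)) (h1 h2)
      rwa [commutatorElement_def, mul_assoc, mul_assoc, inv_mul_cancel_left, (h.iv ix).inv, ← mul_assoc]
        at this
  have hSE : IsStronglyEmbedded M := by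
    refine ⟨hM, even_iff_two_dvd.mpr ((h.iv ha).ord ▸ orderOf_dvd_natCard _ (h.mem a)), fun g hg => ?_⟩
    rw [← Nat.not_even_iff_odd, even_iff_two_dvd]
    intro h2
    have : Fact (Nat.Prime 2) := ⟨Nat.prime_two⟩
    obtain ⟨⟨i, i1, w, w1, rfl⟩, hu⟩ := exists_prime_orderOf_dvd_card' 2 h2
    have iu := Iv.of_ord ((orderOf_coe _).trans hu)
    have iw := iu.conj g⁻¹
    change Iv (g * w * g⁻¹) at iu
    change g * w * g⁻¹ ∈ M at i1
    rw [show g⁻¹ * ((MulAut.conj g).toMonoidHom w) * g⁻¹⁻¹ = w by simp [mul_assoc]] at iw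
    obtain ⟨x, x2, hx⟩ := dec w w1 iw
    obtain ⟨y, y1, y2⟩ : ∃ y, Iv y ∧ Commute (φ y) w := by
      by_cases x1 : x = 1
      · exact ⟨a, ha, by simpa [x1] using (hx a).symm⟩
      · refine ⟨x, ⟨x2, x1⟩, ?_⟩
        have := (Commute.refl (φ x)).mul_right (hx x).symm
        rwa [mul_inv_cancel_left] at this
    exact hg (h.fix y y1 g (cen _ i1 iu _ (cm_conj y2 g)))
  obtain ⟨Y, hY, -⟩ := bender_suz hSE (Four.not_pRankLE ⟨φ a, mem_top _, φ v, mem_top _, h.iv ha, h.iv v1,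
    fun e => v3 (h.inj e).symm, (v2.map φ).symm⟩) hO
  have hQ : ∀ x, Iv x → φ x ∈ Y.Q := fun x hx =>
    Y.mem_Q_of_two (k := 1) (hY ▸ h.mem x) (by rw [pow_one, pow_two, (h.iv hx).1])
  exact hab (h.cm (Y.Z_comm (Y.mem_Z.2 ⟨hQ a ha, (h.iv ha).1⟩) (hQ b hb)))

end Cfsg.Agent.H7.Jk
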