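import Cfsg.Agent.H7.It5
import Cfsg.Agent.FT.Main

set_option autoImplicit false

/-! Groups of order `a * b` whose centralizer orders divide `a` or are `b` or `d`. -/

namespace Cfsg.Agent.H7.CA

open Subgroup H8 FT
open scoped commutatorElement

variable {G : Type*} [Group G] [Finite G]

theorem syl_top {p : ℕ} [hp : Fact p.Prime] {S K : Subgroup G} (hS : IsSylowIn p S K)
    (h : ¬ p ∣ K.index) : IsSylowIn p S ⊤ :=
  IsSylowIn.of_not_dvd_relIndex le_top hS.pgroup (by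
    rw [relIndex_top_right, ← relIndex_mul_index hS.le, hp.1.dvd_mul, not_or]
    exact ⟨hS.not_dvd_relIndex, h⟩)

theorem syl_index {p : ℕ} [Fact p.Prime] {S K : Subgroup G} (hS : IsSylowIn p S ⊤) (h : S ≤ K) :
    ¬ p ∣ K.index := fun hd =>
  hS.not_dvd_relIndex (relIndex_top_right S ▸ hd.trans (index_dvd_of_le h))

theorem frat {K O : Subgroup G} (hs : Group.IsSolvable K) (hO : O ⊴ K) (hne : ¬ K ≤ O) :
    ∃ p : ℕ, p.Prime ∧ ∀ S, IsSylowIn p S K →
      ∃ A, A ≤ S ∧ ¬ A ≤ O ∧ O ⊔ A ⊴ K ∧ K ≤ O ⊔ (K ⊓ 𝐍(A)) := by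
  obtain ⟨p, M, hp, h1, h2, h3, -, h4⟩ := solvable_norm_abelem (H := K ⁒ O) (solvable_quo hs O)
    (mt (quo_eq_bot_iff hO.norm).mp hne) le_normalizer
  have := Fact.mk hp
  refine ⟨p, hp, fun S hS => ?_⟩
  have hM : copre O M ⊴ K := copre_normalIn_of_quo hO ⟨h1, h3⟩
  have hA : IsSylowIn p (S ⊓ copre O M) (copre O M) := by
    have := hS.inf_of_le_normalizer hM.norm
    rwa [inf_eq_right.mpr hM.le] at this
  have hn : S ⊓ copre O M ≤ 𝐍(O) := hA.le.trans (copre_le_normalizer M)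
  have e1 : (S ⊓ copre O M) ⁒ O = M := by
    have h5 := sylow_quo hA (copre_le_normalizer M)
    rw [quo_copre] at h5
    exact (h5.max M le_rfl (fun g => ⟨1, Subtype.ext (by simpa using h4.2 g g.2)⟩) h5.le).symm
  have e2 : O ⊔ (S ⊓ copre O M) = copre O M := by rw [← copre_quo hn, e1]
  refine ⟨_, inf_le_left, fun h => h2 (e1 ▸ quo_eq_bot_of_le h), e2.symm ▸ hM, ?_⟩
  refine (hA.frattini_sup hM.le hM.norm).ge.trans (sup_le ?_ le_sup_right)
  exact e2.ge.trans (sup_le_sup_left (le_inf (hA.le.trans hM.le) le_normalizer) O)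

theorem sylow_comm {p : ℕ} [Fact p.Prime] {L R : Subgroup G} (hs : Group.IsSolvable L)
    (hR : IsSylowIn p R L) (h : ∀ w ∈ R, ∃ S, IsSylowIn p S L ∧ S ≤ 𝐂[w]) : R ≤ 𝐂(R) := by
  have hO : Opp p L ⊴ L := Opp_eq_Opi (p := p) L ▸ Opi_normalIn _ L
  have h1 : Opp p (L ⁒ Opp p L) = ⊥ := by
    rw [Opp_eq_Opi, Opp_eq_Opi]; exact Opi_quo_Opi _ L
  have h2 : R ⁒ Opp p L ≤ 𝐂(Op p (L ⁒ Opp p L)) := fun c hc => by
    obtain ⟨w, hw, rfl⟩ := (mem_quo_of_le (hR.le.trans hO.norm)).mp hc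
    obtain ⟨S, hS, h3⟩ := h w hw
    refine le_centralizer_singleton_iff.mp (le_trans ?_
      (quo_le_centralizer_singleton (hO.norm (hR.le hw)) h3))
    rw [Op_eq_Opi]; exact Opi_le_sylow (sylow_quo hS hO.norm)
  have h3 : R ⁒ Opp p L ≤ 𝐂(R ⁒ Opp p L) := h2.trans (centralizer_anti
    ((le_inf (quo_mono hR.le _) h2).trans (cent_pcore_sub_pcore (solvable_quo hs _) h1)))
  rw [quo_le_centralizer_iff (hR.le.trans hO.norm) (hR.le.trans hO.norm)] at h3
  rw [← commutator_eq_bot_iff_le_centralizer, eq_bot_iff, ← B06.inf_Opp_eq_bot hR.pgroup L]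
  exact le_inf (der_le R) h3

theorem pg_le {q : ℕ} [Fact q.Prime] {O C X : Subgroup G} (hO : IsPGroup q O) (hC : C ≤ 𝐍(O))
    (h : ¬ q ∣ O.relIndex C) (hX : IsPGroup q X) (hle : X ≤ O ⊔ C) : X ≤ O := by
  refine (IsSylowIn.of_not_dvd_relIndex le_sup_left hO ?_).le_of_le_normalizer' hX hle
    (hle.trans (sup_le le_normalizer hC))
  rwa [← card_quo (sup_le le_normalizer hC), quo_self_sup hC, card_quo hC]

theorem mem_zpowers_of_cyclic {q : ℕ} (hq : q.Prime) {X : Subgroup G} (hX : IsCyclic X) {x y : G}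
    (hx : x ∈ X) (hy : y ∈ X) (h1 : x ^ q = 1) (h2 : orderOf y = q) : x ∈ zpowers y := by
  classical
  have := Fintype.ofFinite X
  have h3 := IsCyclic.card_pow_eq_one_le (α := X) hq.pos
  have h4 : (zpowers (⟨y, hy⟩ : X) : Set X).toFinset = Finset.univ.filter fun a : X => a ^ q = 1 := by
    refine Finset.eq_of_subset_of_card_le (fun a ha => ?_) (h3.trans ?_)
    · obtain ⟨n, rfl⟩ := mem_zpowers_iff.mp (Set.mem_toFinset.mp ha)
      refine Finset.mem_filter.mpr ⟨Finset.mem_univ _, Subtype.ext ?_⟩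
      rw [coe_pow, coe_zpow, ← zpow_natCast, ← zpow_mul, mul_comm, zpow_mul, zpow_natCast, ← h2,
        pow_orderOf_eq_one, one_zpow, coe_one]
    · rw [Set.toFinset_card, ← Nat.card_eq_fintype_card]
      change q ≤ Nat.card (zpowers (⟨y, hy⟩ : X))
      rw [Nat.card_zpowers, ← orderOf_coe, h2]
  have h5 : (⟨x, hx⟩ : X) ∈ zpowers (⟨y, hy⟩ : X) := Set.mem_toFinset.mp
    (h4 ▸ Finset.mem_filter.mpr ⟨Finset.mem_univ _, Subtype.ext h1⟩)
  obtain ⟨n, hn⟩ := mem_zpowers_iff.mp h5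
  exact mem_zpowers_iff.mpr ⟨n, congrArg Subtype.val hn⟩

structure Sd (G : Type*) [Group G] (a b d : ℕ) : Prop where
  card : Nat.card G = a * b
  cop : a.Coprime b
  val : ∀ g : G, g ≠ 1 → co g ∣ a ∨ co g = b ∨ co g = d
  dvd : d ∣ b

namespace Sd

variable {a b d : ℕ} (h : Sd G a b d) {g : G} {K A : Subgroup G}
include h

omit [Finite G] in
theorem ty (hg : g ≠ 1) (hc : a.Coprime (orderOf g)) : co g = b ∨ co g = d :=
  (h.val g hg).resolve_left fun h1 => hg (orderOf_eq_one_iff.mp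
    (Nat.eq_one_of_dvd_coprimes hc ((orderOf_dvd_co g).trans h1) dvd_rfl))

omit [Finite G] in
theorem co_dvd (hg : g ≠ 1) (hc : a.Coprime (orderOf g)) : co g ∣ b :=
  (h.ty hg hc).elim Eq.dvd (· ▸ h.dvd)

omit [Finite G] in
theorem cop_co (hg : g ≠ 1) (hc : a.Coprime (orderOf g)) : a.Coprime (co g) :=
  h.cop.coprime_dvd_right (h.co_dvd hg hc)

omit [Finite G] in
theorem co_dvd' (hg : g ≠ 1) (hc : b.Coprime (orderOf g)) : co g ∣ a := by
  refine (h.val g hg).resolve_right fun h1 => hg (orderOf_eq_one_iff.mp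
    (Nat.eq_one_of_dvd_coprimes hc ((orderOf_dvd_co g).trans ?_) dvd_rfl))
  exact h1.elim Eq.dvd (· ▸ h.dvd)

omit [Finite G] in
theorem semi (hK : a.Coprime #|K|) (hA : b.Coprime #|A|) : Semiregular K A :=
  semiregular_iff.mpr fun _ hx _ hy hc => or_iff_not_imp_right.mpr fun hy1 =>
    orderOf_eq_one_iff.mp (Nat.eq_one_of_dvd_coprimes hA
      ((Subgroup.orderOf_dvd_natCard _ (mem_cen.mpr hc.symm)).trans
        (h.co_dvd hy1 (hK.coprime_dvd_right (K.orderOf_dvd_natCard hy)))) (A.orderOf_dvd_natCard hx))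

omit [Finite G] in
theorem dvd_b (hK : a.Coprime #|K|) : #|K| ∣ b :=
  hK.symm.dvd_of_dvd_mul_left (h.card ▸ card_subgroup_dvd_card K)

theorem idx (e : #|K| = b) : K.index = a := by
  have h1 := K.index_mul_card
  rw [h.card, e] at h1
  exact Nat.eq_of_mul_eq_mul_right (e ▸ Nat.card_pos) h1

omit [Finite G] in
theorem not_dvd {s : ℕ} (hs : s.Prime) (h1 : s ∣ b) : ¬ s ∣ a := fun h2 =>
  hs.one_lt.ne' (Nat.eq_one_of_dvd_coprimes h.cop h2 h1)

theorem nil {u : G} {s : ℕ} (hs : s.Prime) (hsa : s ∣ a) (hu : orderOf u = s) (hK : a.Coprime #|K|)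
    (hn : u ∈ 𝐍(K)) (hsol : Group.IsSolvable K) : Group.IsNilpotent K := by
  have h1 : #|zpowers u| = s := by rw [Nat.card_zpowers, hu]
  have h2 := h.semi hK (A := zpowers u) (h1 ▸ h.cop.symm.coprime_dvd_right hsa)
  exact prime_Frobenius_sol_kernel_nil (isSdp_sup (zpowers_le.mpr hn) h2.inf_eq_bot)
    (solvable_sup (zpowers_le.mpr hn) hsol (solvable_zpowers u)) (h1 ▸ hs)
    (h2.inf_centralizer le_rfl (ne_bot_of_card_prime (h1 ▸ hs)))

end Sd

theorem cop_pg {a s : ℕ} (hs : s.Prime) (h : ¬ s ∣ a) {K : Subgroup G} (hK : IsPGroup s K) :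
    a.Coprime #|K| :=
  have := Fact.mk hs
  (coprime_of_pgroup hK h).symm

omit [Finite G] in
theorem cop_pe {a s : ℕ} (hs : s.Prime) (h : ¬ s ∣ a) {w : G} (hw : PE s w) :
    a.Coprime (orderOf w) := (hw.coprime_nat ((Nat.Prime.coprime_iff_not_dvd hs).mpr h)).symm

end Cfsg.Agent.H7.CA
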