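import Cfsg.Agent.H7.It10

set_option autoImplicit false

/-! The case where the elements with centralizer order `b` are `q`-elements: local structure. -/

namespace Cfsg.Agent.H7.CA

open Subgroup H8 FT
open scoped commutatorElement

structure L2 (G : Type*) [Group G] (a b d q r k : ℕ) : Prop extends Sd G a b d where
  hq : q.Prime
  hr : r.Prime
  ne : r ≠ q
  rb : r ∣ b
  eq : b = q ^ (k + 1) * d
  pe : ∀ z : G, z ≠ 1 → co z = b → PE q z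
  odd : ∀ K : Subgroup G, K ≠ ⊥ → a.Coprime #|K| → Odd #|𝐍(K)|
  ex : ∃ y : G, y ≠ 1 ∧ co y = b

/-- the `q`-subgroups containing `O_q(D)` and normalized by `D` -/
structure Inv {G : Type*} [Group G] (q : ℕ) (D T : Subgroup G) : Prop where
  pg : IsPGroup q T
  le : Opi {q} D ≤ T
  norm : D ≤ 𝐍(T)

variable {G : Type*} [Group G] [Finite G]

theorem le_Opq {q : ℕ} (hq : q.Prime) {K X : Subgroup G} (hX : IsPGroup q X) (h : X ⊴ K) :
    X ≤ Opi {q} K :=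
  have := Fact.mk hq
  le_Opi h (isPiGroup_of_pgroup hX rfl)

namespace L2

variable {a b d q r k : ℕ} (h : L2 G a b d q r k) {g w z y : G} {K R T : Subgroup G} {s : ℕ}
include h

omit [Finite G] in
theorem qa : ¬ q ∣ a := h.not_dvd h.hq (h.eq ▸ (dvd_pow_self q k.succ_ne_zero).mul_right d)

omit [Finite G] in
theorem ra : ¬ r ∣ a := h.not_dvd h.hr h.rb

theorem db : ¬ b ∣ d := fun h1 => by
  have h2 : 0 < d := Nat.pos_of_mul_pos_left (h.eq ▸ Nat.pos_of_mul_pos_left (h.card ▸ Nat.card_pos))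
  have h3 := Nat.le_of_dvd h2 h1
  have h4 := Nat.one_lt_pow k.succ_ne_zero h.hq.one_lt
  rw [h.eq] at h3
  exact (lt_mul_of_one_lt_left h2 h4).not_ge h3

omit [Finite G] in
theorem tyd (hs : s.Prime) (hsq : s ≠ q) (hsa : ¬ s ∣ a) (hw : PE s w) (h1 : w ≠ 1) : co w = d :=
  (h.ty h1 (cop_pe hs hsa hw)).resolve_left fun e =>
    h1 (orderOf_eq_one_iff.mp (Nat.coprime_self _ |>.mp (hw.coprime hs h.hq hsq (h.pe w h1 e))))

theorem mn (e : co w = d) : Mn w := fun y hy hd => by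
  rcases h.val y hy with h1 | h1 | h1
  · exact (hy (orderOf_eq_one_iff.mp (Nat.eq_one_of_dvd_coprimes h.cop
      ((orderOf_dvd_co y).trans h1) ((orderOf_dvd_co y).trans (hd.trans (e ▸ h.dvd)))))).elim
  · exact (h.db (e ▸ h1 ▸ hd)).elim
  · exact h1.trans e.symm

theorem idxd (e : co w = d) : 𝐂[w].index = a * q ^ (k + 1) := by
  have h1 := 𝐂[w].index_mul_card
  rw [h.card, h.eq, ← mul_assoc, ← e] at h1
  exact Nat.eq_of_mul_eq_mul_right Nat.card_pos h1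

theorem not_dvd_idx (hs : s.Prime) (hsq : s ≠ q) (hsa : ¬ s ∣ a) (e : co w = b ∨ co w = d) :
    ¬ s ∣ 𝐂[w].index := by
  rcases e with e | e
  · rwa [h.idx e]
  · rw [h.idxd e, hs.dvd_mul, not_or]
    exact ⟨hsa, fun h1 => hsq ((Nat.prime_dvd_prime_iff_eq hs h.hq).mp (hs.dvd_of_dvd_pow h1))⟩

theorem syl (hs : s.Prime) (hsq : s ≠ q) (hsa : ¬ s ∣ a) (e : co w = b ∨ co w = d) :
    ∃ S, IsSylowIn s S ⊤ ∧ S ≤ 𝐂[w] := by
  have := Fact.mk hs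
  obtain ⟨S, hS⟩ := exists_isSylowIn s 𝐂[w]
  exact ⟨S, syl_top hS (h.not_dvd_idx hs hsq hsa e), hS.le⟩

omit [Finite G] in
theorem odd_le (h1 : T ≠ ⊥) (h2 : a.Coprime #|T|) (h3 : K ≤ 𝐍(T)) : Odd #|K| :=
  (h.odd T h1 h2).of_dvd_nat (card_dvd_of_le h3)

omit [Finite G] in
theorem odd_pi (h2 : a.Coprime #|K|) : Odd #|K| := by
  by_cases h1 : K = ⊥
  · simp [h1]
  · exact h.odd_le h1 h2 le_normalizer

omit [Finite G] in
theorem pi_b (e : co z = b) : a.Coprime #|𝐂[z]| := h.cop.coprime_dvd_right e.dvd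

theorem exq (hz : z ≠ 1) (e : co z = b) : ∃ y, orderOf y = q ∧ co y = b ∧ 𝐂[y] = 𝐂[z] := by
  obtain ⟨y, hy, h1, h2⟩ := exists_mem_orderOf (K := zpowers z) h.hq
    (Nat.card_zpowers z ▸ (h.pe z hz e).dvd h.hq hz)
  have h3 := cen_le_of_mem_zpowers hy
  have h4 := (h.ty h2 (cop_pe h.hq h.qa (pe_of_orderOf h1))).resolve_right fun e' =>
    h.db (e ▸ e' ▸ card_dvd_of_le h3)
  exact ⟨y, h1, h4, (eq_of_le_of_card_ge h3 (h4.trans e.symm).le).symm⟩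

theorem exy {S : Subgroup G} (hs : s.Prime) (hsa : ¬ s ∣ a) (hS : IsSylowIn s S ⊤) :
    ∃ y, orderOf y = q ∧ co y = b ∧ S ≤ 𝐂[y] := by
  obtain ⟨z, hz, e⟩ := h.ex
  obtain ⟨y, h1, h2, -⟩ := h.exq hz e
  obtain ⟨g, hg⟩ := exists_conj_le hs hS (t := y) (by rwa [h.idx h2])
  exact ⟨_, by rw [orderOf_conj', h1], by rw [co_conj, h2], hg⟩

theorem ab {S : Subgroup G} (hs : s.Prime) (hsq : s ≠ q) (hsa : ¬ s ∣ a) (hS : IsSylowIn s S ⊤) :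
    S ≤ 𝐂(S) := by
  have := Fact.mk hs
  obtain ⟨y, h1, h2, h3⟩ := h.exy hs hsa hS
  refine sylow_comm (odd_solvable (h.odd_pi (h.pi_b h2))) (hS.of_le h3 le_top) fun w hw => ?_
  by_cases hw1 : w = 1
  · exact ⟨S, hS.of_le h3 le_top, fun x _ => mem_cen.mpr (by rw [hw1, mul_one, one_mul])⟩
  have hw' := pe_of_mem hS.pgroup hw
  have e := h.tyd hs hsq hsa hw' hw1
  obtain ⟨S', h4, h5⟩ := h.syl hs hsq hsa (.inr e)
  exact ⟨S', h4.of_le (h5.trans ((h.mn e).le hw1 (mem_centralizer_singleton_comm.mp (h3 hw))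
    (hw'.coprime hs h.hq hsq (pe_of_orderOf h1)))) le_top, h5⟩

theorem cab (hs : s.Prime) (hsq : s ≠ q) (hsa : ¬ s ∣ a) (hw : PE s w) (h1 : w ≠ 1) :
    𝐂[w] ≤ 𝐂(𝐂[w]) := by
  have := Fact.mk hs
  have e := h.tyd hs hsq hsa hw h1
  have k1 : ∀ p, p.Prime → p ≠ s → ∀ v ∈ 𝐂[w], PE p v → 𝐂[w] ≤ 𝐂[v] := fun p hp hne v hv hv' =>
    (h.mn e).le h1 hv (hw.coprime hs hp hne.symm hv')
  refine le_of_pe fun p hp v hv hv' => le_centralizer_singleton_iff.mp ?_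
  by_cases hne : p = s
  · subst hne
    obtain ⟨S, hS, h2⟩ := exists_isSylowIn_ge hv'.pgroup (zpowers_le.mpr hv)
    obtain ⟨j, hj⟩ := index_pow_of_pe (p := p) (H := 𝐂[v]) (L := 𝐂[w]) fun p' hp' hne u hu hu' =>
      mem_centralizer_singleton_comm.mp (k1 p' hp' hne u hu hu' hv)
    have h3 : S ≤ 𝐂[v] := (h.ab hp hsq hsa (syl_top hS (h.not_dvd_idx hp hsq hsa (.inr e)))).trans
      (centralizer_le_centralizer_singleton (h2 (mem_zpowers v)))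
    have h4 : ¬ p ∣ _ := fun hd => hS.not_dvd_relIndex (hd.trans (relIndex_dvd_of_le_left 𝐂[w] h3))
    rcases j with _ | j
    · exact relIndex_eq_one.mp hj
    · exact (h4 (hj ▸ dvd_pow_self p j.succ_ne_zero)).elim
  · exact k1 p hp hne v hv hv'

section
variable (hR : IsSylowIn r R ⊤)
include hR

theorem exw : ∃ w ∈ R, w ≠ 1 :=
  have := Fact.mk h.hr
  exists_ne_one_of_ne_bot (hR.ne_bot (by rw [card_top, h.card]; exact h.rb.mul_left a))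

theorem RD : R ≤ 𝐂(R) := h.ab h.hr h.ne h.ra hR

theorem cR (hw : w ∈ R) (h1 : w ≠ 1) : 𝐂[w] = 𝐂(R) :=
  le_antisymm ((h.cab h.hr h.ne h.ra (pe_of_mem hR.pgroup hw) h1).trans (centralizer_anti
    ((h.RD hR).trans (centralizer_le_centralizer_singleton hw))))
    (centralizer_le_centralizer_singleton hw)

theorem cardD : #|𝐂(R)| = d := by
  obtain ⟨w, hw, h1⟩ := h.exw hR
  rw [← h.cR hR hw h1]
  exact h.tyd h.hr h.ne h.ra (pe_of_mem hR.pgroup hw) h1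

theorem abD : 𝐂(R) ≤ 𝐂(𝐂(R)) := by
  obtain ⟨w, hw, h1⟩ := h.exw hR
  rw [← h.cR hR hw h1]
  exact h.cab h.hr h.ne h.ra (pe_of_mem hR.pgroup hw) h1

theorem piD : a.Coprime #|𝐂(R)| := h.cardD hR ▸ h.cop.coprime_dvd_right h.dvd

theorem nilD : Group.IsNilpotent 𝐂(R) := nilpotent_of_comm (comm_iff_le_centralizer.mpr (h.abD hR))

theorem Dle (hg : g ∈ 𝐂(R)) : 𝐂(R) ≤ 𝐂[g] :=
  (h.abD hR).trans (centralizer_le_centralizer_singleton hg)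

theorem cD (hg : g ∈ 𝐂(R)) (e : co g = d) : 𝐂[g] = 𝐂(R) :=
  (eq_of_le_of_card_ge (h.Dle hR hg) (e.trans (h.cardD hR).symm).le).symm

theorem sylD (hs : s.Prime) (hsq : s ≠ q) (hsa : ¬ s ∣ a) : ∃ S, IsSylowIn s S ⊤ ∧ S ≤ 𝐂(R) := by
  obtain ⟨w, hw, h1⟩ := h.exw hR
  rw [← h.cR hR hw h1]
  exact h.syl hs hsq hsa (.inr (h.tyd h.hr h.ne h.ra (pe_of_mem hR.pgroup hw) h1))

theorem normD {A : Subgroup G} (hs : s.Prime) (hsq : s ≠ q) (hsa : ¬ s ∣ a) (hA : IsPGroup s A)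
    (h1 : A ≠ ⊥) (h2 : A ≤ 𝐂(R)) : 𝐂(A) = 𝐂(R) := by
  obtain ⟨v, hv, h3⟩ := exists_ne_one_of_ne_bot h1
  exact le_antisymm (h.cD hR (h2 hv) (h.tyd hs hsq hsa (pe_of_mem hA hv) h3) ▸
    centralizer_le_centralizer_singleton hv) ((h.abD hR).trans (centralizer_anti h2))

theorem ND : 𝐍(𝐂(R)) = 𝐍(R) := by
  have := Fact.mk h.hr
  refine le_antisymm ?_ (normalizer_le_normalizer_centralizer _)
  have h1 := sylow_Opi_of_nilpotent (p := r) (h.nilD hR)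
  rw [← (hR.of_le (h.RD hR) le_top).max _ h1.le h1.pgroup
    (le_Opi_of_nilpotent (h.nilD hR) (h.RD hR) (isPiGroup_of_pgroup hR.pgroup rfl))]
  conv_lhs => rw [(hR.of_le (h.RD hR) le_top).max _ h1.le h1.pgroup
    (le_Opi_of_nilpotent (h.nilD hR) (h.RD hR) (isPiGroup_of_pgroup hR.pgroup rfl))]
  exact normalizer_le_Opi _ _

theorem Q0le {X : Subgroup G} (hX : IsPGroup q X) (h1 : X ≤ 𝐂(R)) : X ≤ Opi {q} 𝐂(R) :=
  have := Fact.mk h.hq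
  le_Opi_of_nilpotent (h.nilD hR) h1 (isPiGroup_of_pgroup hX rfl)

theorem Q0ne : Opi {q} 𝐂(R) ≠ ⊥ := by
  obtain ⟨y, h1, -, h2⟩ := h.exy h.hr h.ra hR
  exact ne_bot_of_mem (h.Q0le hR (pe_of_orderOf h1).pgroup
    (zpowers_le.mpr (le_centralizer_singleton_iff.mp h2)) (mem_zpowers y)) (ne_one_of_prime h.hq h1)

theorem lemS (hK : Odd #|K|) (hD : 𝐂(R) ≤ K) (hO : Opi {q} K ≠ ⊥) :
    K ≤ Opi {q} K ⊔ (K ⊓ 𝐍(R)) ∨ (¬ a.Coprime #|K| ∧
      ∃ C, C ≤ K ∧ b.Coprime #|C| ∧ der K ≤ Opi {q} K ⊔ C) := by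
  have := Fact.mk h.hq
  have hn := Opi_normalIn {q} K
  obtain ⟨p, hp, h1⟩ := frat (odd_solvable hK) hn fun hle => by
    obtain ⟨w, hw, h1⟩ := h.exw hR
    exact h1 (orderOf_eq_one_iff.mp (Nat.coprime_self _ |>.mp ((pe_of_mem hR.pgroup hw).coprime h.hr
      h.hq h.ne (pe_of_mem (pgroup_Opi K) (hle (hD (h.RD hR hw)))))))
  have := Fact.mk hp
  have hpq : p ≠ q := by
    rintro rfl
    obtain ⟨S, hS⟩ := exists_isSylowIn p K
    obtain ⟨A, h2, h3, h4, -⟩ := h1 S hS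
    exact h3 (le_sup_right.trans (le_Opq hp (hS.pgroup.to_le (sup_le (Opi_le_sylow hS) h2)) h4))
  by_cases hpa : p ∣ a
  · obtain ⟨S, hS⟩ := exists_isSylowIn p K
    obtain ⟨A, h2, h3, -, h5⟩ := h1 S hS
    have hA := hS.pgroup.to_le h2
    have hA1 : A ≠ ⊥ := fun e => h3 (e ▸ bot_le)
    have hAb : b.Coprime #|A| := cop_pg hp (fun h6 => h.not_dvd hp h6 hpa) hA
    have hAK := h2.trans hS.le
    obtain ⟨v, hv, hv1⟩ := exists_ne_one_of_ne_bot hA1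
    refine .inr ⟨fun h6 => hp.one_lt.ne' (Nat.eq_one_of_dvd_coprimes h6 hpa
      (mem_pi_of_pgroup hA hA1 hAK).2), K ⊓ 𝐂(A), inf_le_left, ?_, ?_⟩
    · exact (h.cop.symm.coprime_dvd_right (h.co_dvd' hv1 (hAb.coprime_dvd_right
        (A.orderOf_dvd_natCard hv)))).coprime_dvd_right
        (card_dvd_of_le (inf_le_right.trans (centralizer_le_centralizer_singleton hv)))
    · have hc := odd_regular_pgroup_cyclic hA (hK.of_dvd_nat (card_dvd_of_le hAK)) hO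
        (hAK.trans hn.norm) (h.semi (cop_pg h.hq h.qa (pgroup_Opi K)) hAb)
      have h6 : K ⊓ 𝐍(A) ≤ 𝐍(Opi {q} K) := inf_le_left.trans hn.norm
      rw [← quo_le_quo_iff' ((der_le K).trans hn.norm) (inf_le_left.trans hn.norm), quo_der hn.norm]
      refine (der_mono ((quo_mono h5 _).trans (quo_self_sup h6).le)).trans ?_
      rw [← quo_der h6]
      exact quo_mono (le_inf ((der_le _).trans inf_le_left) (der1_cent_cyclic hc inf_le_right)) _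
  · obtain ⟨S, hS, h2⟩ := h.sylD hR hp hpq hpa
    obtain ⟨A, h3, h4, -, h5⟩ := h1 S (hS.of_le (h2.trans hD) le_top)
    refine .inl (h5.trans (sup_le_sup_left (inf_le_inf_left _ ?_) _))
    rw [← h.ND hR, ← h.normD hR hp hpq hpa (hS.pgroup.to_le h3) (fun e => h4 (e ▸ bot_le)) (h3.trans h2)]
    exact normalizer_le_normalizer_centralizer _

omit h hR in
theorem inv0 (hq : q.Prime) : Inv q 𝐂(R) (Opi {q} 𝐂(R)) :=
  have := Fact.mk hq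
  ⟨pgroup_Opi _, le_rfl, (Opi_normalIn _ _).norm⟩

omit hR in
theorem inv_Op (hT : Inv q 𝐂(R) T) : Inv q 𝐂(R) (Opi {q} 𝐍(T)) :=
  have := Fact.mk h.hq
  ⟨pgroup_Opi _, hT.le.trans (le_Opq h.hq hT.pg (normalIn_normalizer T)),
    hT.norm.trans (Opi_normalIn _ _).norm⟩

theorem u1 (hT : Inv q 𝐂(R) T) {X : Subgroup G} (hX : IsPGroup q X) (h1 : X ≤ 𝐍(T))
    (h2 : 𝐂(R) ≤ 𝐍(X)) : X ≤ Opi {q} 𝐍(T) := by
  have := Fact.mk h.hq
  have := Fact.mk h.hr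
  have hO := h.inv_Op hT
  have hn := Opi_normalIn {q} 𝐍(T)
  have hT1 : T ≠ ⊥ := fun e => h.Q0ne hR (eq_bot_iff.mpr (e ▸ hT.le))
  have hc : CopAct R X := CopAct.of_pgroup hR.pgroup (not_dvd_card_of_pgroup h.ne.symm hX)
    ((h.RD hR).trans h2)
  have hRT := (h.RD hR).trans hT.norm
  suffices h3 : ⁅X, R⁆ ≤ Opi {q} 𝐍(T) by
    exact hc.commutator_sup_centralizer.ge.trans (sup_le h3
      ((h.Q0le hR (hX.to_le inf_le_left) inf_le_right).trans hO.le))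
  have h4 := hX.to_le hc.commutator_le
  rcases h.lemS hR (h.odd T hT1 (cop_pg h.hq h.qa hT.pg)) hT.norm
    (fun e => h.Q0ne hR (eq_bot_iff.mpr (e ▸ hO.le))) with h5 | ⟨-, C, h5, h6, h7⟩
  · refine pg_le hO.pg (hRT.trans hn.norm) (fun h6 => not_dvd_card_of_pgroup h.ne hR.pgroup
      (h6.trans (relIndex_dvd_card _ _))) h4 ?_
    have h6 : X ≤ 𝐍(Opi {q} 𝐍(T) ⊔ R) := h1.trans (h5.trans (sup_le
      (le_sup_left.trans le_normalizer)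
      (le_normalizer_sup (inf_le_left.trans hn.norm) inf_le_right)))
    exact (commutator_mono le_rfl le_sup_right).trans (le_normalizer_iff_commutator_le_right.mp h6)
  · exact pg_le hO.pg (h5.trans hn.norm) (fun h8 => h.hq.one_lt.ne' (Nat.eq_one_of_dvd_coprimes h6
      (h.eq ▸ (dvd_pow_self q k.succ_ne_zero).mul_right d) (h8.trans (relIndex_dvd_card _ _)))) h4
      ((commutator_mono h1 hRT).trans h7)

theorem u2 {T1 T2 : Subgroup G} (hT : Inv q 𝐂(R) T) (h1 : Inv q 𝐂(R) T1) (h2 : Inv q 𝐂(R) T2)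
    (l1 : T ≤ T1) (l2 : T ≤ T2) : ∃ U, Inv q 𝐂(R) U ∧ T1 ≤ U ∧ T2 ≤ U := by
  have := Fact.mk h.hq
  induction T using WellFoundedGT.induction generalizing T1 T2 with
  | ind T ih =>
  rcases l1.eq_or_lt with rfl | l1'
  · exact ⟨T2, h2, l2, le_rfl⟩
  rcases l2.eq_or_lt with rfl | l2'
  · exact ⟨T1, h1, le_rfl, l1⟩
  have k : ∀ X, Inv q 𝐂(R) X → T < X → T < Opi {q} 𝐍(T) ∧
      ∃ U, Inv q 𝐂(R) U ∧ X ≤ U ∧ Opi {q} 𝐍(T) ≤ U := fun X hX l => by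
    have h3 := lt_inf_normalizer_of_pgroup hX.pg l
    have h4 : 𝐂(R) ≤ 𝐍((X ⊓ 𝐍(T) : Subgroup G)) :=
      le_normalizer_inf hX.norm (le_normalizer_normalizer hT.norm)
    have h5 := h.u1 hR hT (hX.pg.to_le inf_le_left) inf_le_right h4
    exact ⟨h3.trans_le h5, ih _ h3 ⟨hX.pg.to_le inf_le_left, hT.le.trans h3.le, h4⟩ hX
      (h.inv_Op hT) inf_le_left h5⟩
  obtain ⟨h3, U1, h4, h5, h6⟩ := k T1 h1 l1'
  obtain ⟨-, U2, h7, h8, h9⟩ := k T2 h2 l2'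
  obtain ⟨U, k1, k2, k3⟩ := ih _ h3 (h.inv_Op hT) h4 h7 h6 h9
  exact ⟨U, k1, h5.trans k2, h8.trans k3⟩

theorem exU : ∃ U, Inv q 𝐂(R) U ∧ 𝐍(R) ≤ 𝐍(U) ∧
    ∀ X : Subgroup G, IsPGroup q X → 𝐂(R) ≤ 𝐍(X) → X ≤ U := by
  have := Fact.mk h.hq
  obtain ⟨U, hU, hm⟩ := WellFounded.has_min (wellFounded_gt (α := Subgroup G))
    {T | Inv q 𝐂(R) T} ⟨_, inv0 h.hq⟩
  have k : ∀ X : Subgroup G, IsPGroup q X → 𝐂(R) ≤ 𝐍(X) → X ≤ U := fun X hX hn => by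
    have h1 := (Opi_le {q} 𝐂(R)).trans hn
    obtain ⟨V, h2, h3, h4⟩ := h.u2 hR (inv0 h.hq) hU (T2 := X ⊔ Opi {q} 𝐂(R))
      ⟨hX.to_sup_of_normal_left' (pgroup_Opi _) h1, le_sup_right,
        le_normalizer_sup hn (inv0 h.hq).norm⟩ hU.le le_sup_right
    exact le_sup_left.trans (h4.trans (h3.eq_or_lt.resolve_right (hm V h2)).ge)
  refine ⟨U, hU, fun n hn => mem_normalizer_of_cj_le (k _ (pgroup_cj hU.pg n) ?_), k⟩
  exact le_normalizer_cj hU.norm (h.ND hR ▸ hn)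

theorem u3 {U : Subgroup G} (hU : ∀ X : Subgroup G, IsPGroup q X → 𝐂(R) ≤ 𝐍(X) → X ≤ U) (hz : z ≠ 1)
    (e : co z = b) (h1 : z ∈ 𝐂(R)) : 𝐂[z] ≤ U ⊔ 𝐍(R) := by
  have := Fact.mk h.hq
  have h2 := h.Dle hR h1
  refine ((h.lemS hR (h.odd_pi (h.pi_b e)) h2 (ne_bot_of_mem (le_Opq h.hq (h.pe z hz e).pgroup
    ⟨zpowers_le.mpr (mem_cen.mpr rfl), ?_⟩ (mem_zpowers z)) hz)).resolve_right
    fun h3 => h3.1 (h.pi_b e)).trans (sup_le_sup (hU _ (pgroup_Opi _)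
      (h2.trans (Opi_normalIn _ _).norm)) inf_le_right)
  exact centralizer_zpowers z ▸ centralizer_le_normalizer _

theorem piN : a.Coprime #|𝐍(R)| := by
  have := Fact.mk h.hq
  have := Fact.mk h.hr
  by_contra h1
  obtain ⟨s, hs, hsa, h2⟩ := Nat.Prime.not_coprime_iff_dvd.mp h1
  obtain ⟨u, hu, h3, -⟩ := exists_mem_orderOf hs h2
  obtain ⟨w, hw, hw1⟩ := h.exw hR
  have hodd := h.odd R (ne_bot_of_mem hw hw1) (cop_pg h.hr h.ra hR.pgroup)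
  have hDN : 𝐂(R) ⊴ 𝐍(R) := ⟨centralizer_le_normalizer _, (h.ND hR).ge⟩
  have key : ∀ M X : Subgroup G, a.Coprime #|M| → u ∈ 𝐍(M) → R ≤ M → X ≤ M → IsPGroup q X →
      X ≤ 𝐂(R) := fun M X k1 k2 k3 k4 k5 =>
    le_centralizer_of_nilpotent (h.nil hs hsa h3 k1 k2 (odd_solvable (h.odd_pi k1))) k4 k3
      (coprime_of_pgroup k5 (not_dvd_card_of_pgroup h.ne hR.pgroup))
  obtain ⟨U, hU, h4, h5⟩ := h.exU hR
  have h6 : U ≤ 𝐂(R) := key (U ⊔ 𝐂(R)) U (coprime_card_sup hU.norm (cop_pg h.hq h.qa hU.pg)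
    (h.piD hR)) (le_normalizer_sup h4 hDN.norm hu) ((h.RD hR).trans le_sup_right) le_sup_left hU.pg
  obtain ⟨y, hy, e, h7⟩ := h.exy h.hr h.ra hR
  have h8 : 𝐂[y] ≤ 𝐍(R) := (h.u3 hR h5 (ne_one_of_prime h.hq hy) e
    (le_centralizer_singleton_iff.mp h7)).trans (sup_le (h6.trans hDN.le) le_rfl)
  have h9 : q ∣ 𝐂(R).relIndex 𝐍(R) := by
    have k1 := h.Dle hR (le_centralizer_singleton_iff.mp h7)
    have k2 := L0.relIndex_mul_card_of_le k1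
    rw [h.cardD hR, show #|𝐂[y]| = b from e, h.eq] at k2
    rw [← relIndex_mul_relIndex _ _ _ k1 h8, Nat.eq_of_mul_eq_mul_right
      (h.cardD hR ▸ Nat.card_pos) k2]
    exact (dvd_pow_self q k.succ_ne_zero).mul_right _
  obtain ⟨p, hp, k1⟩ := frat (odd_solvable hodd) hDN fun hle =>
    h.hq.one_lt.ne' (Nat.dvd_one.mp (relIndex_eq_one.mpr hle ▸ h9))
  have := Fact.mk hp
  by_cases hpa : p ∣ a
  · obtain ⟨S, hS⟩ := exists_isSylowIn p 𝐍(R)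
    obtain ⟨A, k2, k3, -, k5⟩ := k1 S hS
    have hA := hS.pgroup.to_le k2
    have hAb : b.Coprime #|A| := cop_pg hp (fun h6 => h.not_dvd hp h6 hpa) hA
    have k6 : 𝐍(R) ⊓ 𝐍(A) ≤ 𝐍(𝐂(R)) := inf_le_left.trans hDN.norm
    rw [← card_quo hDN.norm, le_antisymm ((quo_mono k5 _).trans (quo_self_sup k6).le)
      (quo_mono inf_le_left _), card_quo k6] at h9
    obtain ⟨v, hv, hv1, hv2⟩ := exists_pe_of_dvd h.hq h9
    have k8 := (zpowers_le.mpr hv).trans inf_le_right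
    have k9 := (h.semi (cop_pg h.hq h.qa hv2.pgroup) hAb).symm
    obtain ⟨x, hx, hx1⟩ := exists_ne_one_of_ne_bot (Frobenius_rfix_compl
      ⟨isSdp_sup k8 k9.inf_eq_bot, fun e => k3 (e ▸ bot_le),
        ne_bot_of_mem (mem_zpowers v) fun e => hv1 (e ▸ one_mem _), k9⟩
      (comm_iff_le_centralizer.mpr (h.RD hR))
      (sup_le (k2.trans hS.le) ((zpowers_le.mpr hv).trans inf_le_left))
      (coprime_of_pgroup hR.pgroup fun h6 => h.hr.one_lt.ne'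
        (Nat.eq_one_of_dvd_coprimes hAb h.rb h6)) k3)
    exact hv1 (h.cR hR hx.1 hx1 ▸ le_centralizer_singleton_iff.mpr hx.2 (mem_zpowers v))
  by_cases hpq : p = q
  · subst hpq
    obtain ⟨S, hS⟩ := exists_isSylowIn p 𝐍(R)
    obtain ⟨A, k2, k3, k4, -⟩ := k1 S hS
    have hA := hS.pgroup.to_le k2
    exact k3 (key _ A (coprime_card_sup ((k2.trans hS.le).trans hDN.norm) (h.piD hR)
      (cop_pg hp hpa hA)) (k4.norm hu) ((h.RD hR).trans le_sup_left) le_sup_right hA)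
  · obtain ⟨S, hS, k2⟩ := h.sylD hR hp hpq hpa
    obtain ⟨A, k3, k4, -⟩ := k1 S (hS.of_le (k2.trans hDN.le) le_top)
    exact k4 (k3.trans k2)

theorem exL : ∃ U, Inv q 𝐂(R) U ∧ 𝐍(R) ≤ 𝐍(U) ∧ (∀ X : Subgroup G, IsPGroup q X → 𝐂(R) ≤ 𝐍(X) → X ≤ U) ∧
    ∀ z, z ≠ 1 → co z = b → z ∈ 𝐂(R) → 𝐂[z] = U ⊔ 𝐍(R) := by
  obtain ⟨U, hU, h1, h2⟩ := h.exU hR
  refine ⟨U, hU, h1, h2, fun z hz e h3 => eq_of_le_of_card_ge (h.u3 hR h2 hz e h3) ?_⟩
  exact (Nat.le_of_dvd (e ▸ Nat.card_pos) (h.dvd_b (coprime_card_sup h1 (cop_pg h.hq h.qa hU.pg)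
    (h.piN hR)))).trans e.ge

end

end L2

end Cfsg.Agent.H7.CA
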