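import Cfsg.Agent.H7.It11

set_option autoImplicit false

/-! The case where the elements with centralizer order `b` are `q`-elements is impossible. -/

namespace Cfsg.Agent.H7.CA

open Subgroup H8 FT
open scoped commutatorElement

variable {G : Type*} [Group G] [Finite G]

namespace L2

variable {a b d q r k : ℕ} (h : L2 G a b d q r k) {g w z y v : G} {K R T : Subgroup G} {s : ℕ}
include h

theorem sameR (hR : IsSylowIn r R ⊤) (hy : y ≠ 1) (ey : co y = b) (hz : z ≠ 1) (ez : co z = b)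
    (h1 : y ∈ 𝐂(R)) (h2 : z ∈ 𝐂(R)) : 𝐂[y] = 𝐂[z] := by
  obtain ⟨U, -, -, -, h3⟩ := h.exL hR
  rw [h3 y hy ey h1, h3 z hz ez h2]

theorem qT (hy : y ≠ 1) (ey : co y = b) (hz : z ≠ 1) (ez : co z = b) (hne : 𝐂[y] ≠ 𝐂[z]) :
    IsPGroup q ↥(𝐂[y] ⊓ 𝐂[z]) := by
  refine IsPGroup.of_card (Nat.eq_prime_pow_of_unique_prime_dvd Nat.card_pos.ne' fun {s} hs hd => ?_)
  by_contra hsq
  obtain ⟨w, hw, h1, h2⟩ := exists_mem_orderOf hs hd
  have e := h.tyd hs hsq (h.not_dvd hs (ey ▸ hd.trans (card_dvd_of_le inf_le_left)))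
    (pe_of_orderOf h1) h2
  obtain ⟨R, hR, h3⟩ := h.syl h.hr h.ne h.ra (.inr e)
  have h4 := h.cD hR (le_centralizer_singleton_iff.mp h3) e
  exact hne (h.sameR hR hy ey hz ez (h4 ▸ mem_centralizer_singleton_comm.mp hw.1)
    (h4 ▸ mem_centralizer_singleton_comm.mp hw.2))

theorem conjL (hy : y ≠ 1) (ey : co y = b) (hz : z ≠ 1) (ez : co z = b) :
    ∃ g, cj g 𝐂[y] = 𝐂[z] := by
  have := Fact.mk h.hr
  obtain ⟨R, hR, h1⟩ := h.syl h.hr h.ne h.ra (.inl ez)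
  obtain ⟨g, hg⟩ := exists_conj_le h.hr hR (t := y) (by rw [h.idx ey]; exact h.ra)
  exact ⟨g, cj_centralizer_singleton g y ▸ h.sameR hR (by simpa using hy) ((co_conj g y).trans ey) hz ez
    (le_centralizer_singleton_iff.mp hg) (le_centralizer_singleton_iff.mp h1)⟩

theorem tb_of (hR : IsSylowIn r R ⊤) (hv : PE q v) (h1 : v ∈ 𝐍(R)) (h2 : v ∉ 𝐂(R)) : co v = b := by
  have := Fact.mk h.hr
  have := Fact.mk h.hq
  have hv1 : v ≠ 1 := fun e => h2 (e ▸ one_mem _)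
  refine (h.ty hv1 (cop_pe h.hq h.qa hv)).resolve_right fun e => h2 ?_
  obtain ⟨U, hU, h3, -, h4⟩ := h.exL hR
  obtain ⟨y, hy, ey, h5⟩ := h.exy h.hr h.ra hR
  have h6 := h4 y (ne_one_of_prime h.hq hy) ey (le_centralizer_singleton_iff.mp h5)
  obtain ⟨R', hR', h7⟩ := h.syl h.hr h.ne h.ra (.inr e)
  have h8 : R' ≤ 𝐂[y] := le_centralizer_singleton_iff.mpr
    (h.cD hR' (le_centralizer_singleton_iff.mp h7) e ▸
      mem_centralizer_singleton_comm.mp (h6 ▸ (le_sup_right : 𝐍(R) ≤ U ⊔ 𝐍(R)) h1))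
  obtain ⟨l, hl, e'⟩ := (hR'.of_le h8 le_top).exists_cj_eq (hR.of_le h5 le_top)
  have k1 : cj l (zpowers v) ≤ U := (h.Q0le hR (pgroup_cj hv.pgroup l) (by
    rw [← e', ← cj_centralizer]
    exact cj_mono l (zpowers_le.mpr (le_centralizer_singleton_iff.mp h7)))).trans hU.le
  have k2 : zpowers v ≤ U := by
    rwa [← cj_eq_self (sup_le le_normalizer h3 (h6 ▸ hl)), cj_le_cj_iff] at k1
  refine zpowers_le.mp (commutator_eq_bot_iff_le_centralizer.mp (eq_bot_iff.mpr ?_))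
  rw [← disjoint_of_coprime_card (coprime_of_pgroup hU.pg (not_dvd_card_of_pgroup h.ne hR.pgroup))]
  exact le_inf ((commutator_mono k2 le_rfl).trans
    (le_normalizer_iff_commutator_le_left.mp (le_normalizer.trans h3)))
    (le_normalizer_iff_commutator_le_right.mp (zpowers_le.mpr h1))

theorem NleL (hR : IsSylowIn r R ⊤) (hy : y ≠ 1) (ey : co y = b) (h1 : R ≤ 𝐂[y]) : 𝐍(R) ≤ 𝐂[y] := by
  obtain ⟨U, -, -, -, h4⟩ := h.exL hR
  exact h4 y hy ey (le_centralizer_singleton_iff.mp h1) ▸ le_sup_right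

theorem exv [IsSimpleGroup G] (hG : ¬ IsMulCommutative G) (hR : IsSylowIn r R ⊤) :
    ∃ v, PE q v ∧ v ∈ 𝐍(R) ∧ v ∉ 𝐂(R) := by
  have := Fact.mk h.hr
  obtain ⟨s, hs, hd⟩ := Nat.exists_prime_and_dvd (H6.relIndex_centralizer_ne_one
    (H6.perfect_of_simple hG) (h.card ▸ h.rb.mul_left a) hR.toSylowTop)
  change s ∣ 𝐂(R).relIndex 𝐍(R) at hd
  have := Fact.mk hs
  obtain rfl : s = q := by
    by_contra hsq
    obtain ⟨S, hS, h1⟩ := h.sylD hR hs hsq fun h1 => hs.one_lt.ne'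
      (Nat.eq_one_of_dvd_coprimes (h.piN hR) h1 (hd.trans (relIndex_dvd_card _ _)))
    exact (hS.of_le (h1.trans (centralizer_le_normalizer _)) le_top).not_dvd_relIndex
      (hd.trans (relIndex_dvd_of_le_left _ h1))
  obtain ⟨v, h1, h2, h3⟩ := exists_pe_of_dvd hs hd
  exact ⟨v, h3, h1, h2⟩

theorem pair [IsSimpleGroup G] (hG : ¬ IsMulCommutative G) : ∃ y v : G, orderOf y = q ∧ co y = b ∧
    orderOf v = q ∧ co v = b ∧ v ∈ 𝐂[y] ∧ 𝐂[y] ≠ 𝐂[v] := by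
  obtain ⟨R, hR⟩ := exists_isSylowIn r (⊤ : Subgroup G)
  obtain ⟨v, h1, h2, h3⟩ := h.exv hG hR
  obtain ⟨y, hy, ey, h4⟩ := h.exy h.hr h.ra hR
  obtain ⟨u, hu, eu, h5⟩ := h.exq (z := v) (fun e => h3 (e ▸ one_mem _)) (h.tb_of hR h1 h2 h3)
  refine ⟨y, u, hy, ey, hu, eu, mem_centralizer_singleton_comm.mp (h5 ▸
    mem_centralizer_singleton_comm.mp (h.NleL hR (ne_one_of_prime h.hq hy) ey h4 h2)), fun e => h3 ?_⟩
  exact le_centralizer_singleton_iff.mp (h5 ▸ e ▸ h4)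

theorem good (hz : z ≠ 1) (ez : co z = b) (h1 : Opp q 𝐂[z] ≠ ⊥) (hR : IsSylowIn r R ⊤)
    (hy : y ≠ 1) (ey : co y = b) (h2 : R ≤ 𝐂[y]) : 𝐂[y] ≤ 𝐍(R) := by
  have := Fact.mk h.hq
  obtain ⟨g, hg⟩ := h.conjL hz ez hy ey
  rw [Opp_eq_Opi, Ne, ← cj_eq_bot_iff (g := g), cj_Opi, hg] at h1
  obtain ⟨s, hs, hd⟩ := exists_mem_pi h1
  have := Fact.mk hs
  have h3 := le_centralizer_singleton_iff.mp h2
  have hsq : s ≠ q := isPiGroup_Opi _ _ s hs hd
  have hsa := h.not_dvd hs (ey ▸ hd.trans (card_dvd_of_le (Opi_le _ _)))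
  obtain ⟨S, hS, h4⟩ := h.sylD hR hs hsq hsa
  have h5 := (hS.of_le (h4.trans (h.Dle hR h3)) le_top).inf_of_le_normalizer
    (Opi_normalIn {q}ᶜ 𝐂[y]).norm
  rw [inf_eq_right.mpr (Opi_le _ _)] at h5
  have h6 := h.normD hR hs hsq hsa h5.pgroup (h5.ne_bot hd) (inf_le_left.trans h4)
  obtain ⟨U, hU, h7, -, h8⟩ := h.exL hR
  have h9 := h8 y hy ey h3
  refine h9.le.trans (sup_le (le_trans ?_ (centralizer_le_normalizer _)) le_rfl)
  exact h6 ▸ ((le_Opq h.hq hU.pg ⟨h9 ▸ le_sup_left, h9 ▸ sup_le le_normalizer h7⟩).trans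
    (Opi_le_centralizer_Opi_compl _ _)).trans (centralizer_anti inf_le_right)

theorem cyc (hR : IsSylowIn r R ⊤) {X : Subgroup G} (hX : IsPGroup q X) (h1 : X ≤ 𝐍(R))
    (h2 : ∀ x ∈ X, x ∈ 𝐂(R) → x = 1) : IsCyclic X := by
  have := Fact.mk h.hq
  obtain ⟨w, hw, hw1⟩ := h.exw hR
  exact odd_regular_pgroup_cyclic hX (h.odd_pi (cop_pg h.hq h.qa hX)) (ne_bot_of_mem hw hw1) h1
    (semiregular_iff.mpr fun x hx y hy hc => or_iff_not_imp_right.mpr fun hy1 =>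
      h2 x hx (h.cR hR hy hy1 ▸ mem_cen.mpr hc.symm))

theorem caseI [IsSimpleGroup G] (hG : ¬ IsMulCommutative G)
    (hg : ∀ (R : Subgroup G) (y : G), IsSylowIn r R ⊤ → y ≠ 1 → co y = b → R ≤ 𝐂[y] → 𝐂[y] ≤ 𝐍(R)) :
    False := by
  have := Fact.mk h.hq
  obtain ⟨y, v, hy, ey, hv, ev, hc, hne⟩ := h.pair hG
  have y1 := ne_one_of_prime h.hq hy
  have v1 := ne_one_of_prime h.hq hv
  obtain ⟨R, hR, r1⟩ := h.syl h.hr h.ne h.ra (.inl ey)
  obtain ⟨R', hR', r2⟩ := h.syl h.hr h.ne h.ra (.inl ev)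
  have yR := le_centralizer_singleton_iff.mp r1
  have vR := le_centralizer_singleton_iff.mp r2
  have vR' : v ∉ 𝐂(R) := fun e => hne (h.sameR hR y1 ey v1 ev yR e)
  have hT := h.qT y1 ey v1 ev hne
  set T := 𝐂[y] ⊓ 𝐂[v] with eT
  have yT : y ∈ T := ⟨mem_cen.mpr rfl, mem_centralizer_singleton_comm.mp hc⟩
  have vT : v ∈ T := ⟨hc, mem_cen.mpr rfl⟩
  have c1 : IsCyclic ↥(T ⊓ 𝐂(R)) := h.cyc hR' (hT.to_le inf_le_left)
    (inf_le_left.trans (inf_le_right.trans (hg R' v hR' v1 ev r2))) fun f hf hf' => by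
      by_contra f1
      rcases h.ty f1 (cop_pe h.hq h.qa (pe_of_mem hT hf.1)) with e | e
      · exact hne ((h.sameR hR y1 ey f1 e yR hf.2).trans (h.sameR hR' f1 e v1 ev hf' vR))
      · exact vR' (h.cD hR hf.2 e ▸ (h.cD hR' hf' e).symm ▸ vR)
  have pw : ∀ {x : G}, orderOf x = q → x ^ q = 1 := fun e => e ▸ pow_orderOf_eq_one _
  have ly : PElem q 1 ⊤ (zpowers y) := pElem_one_zpowers (mem_top y) hy
  have lv : PElem q 1 ⊤ (zpowers v) := pElem_one_zpowers (mem_top v) hv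
  have cE : 𝐂(zpowers y ⊔ zpowers v) = T := by
    rw [centralizer_sup', centralizer_zpowers, centralizer_zpowers]
  have ET : zpowers y ⊔ zpowers v ≤ T := sup_le (zpowers_le.mpr yT) (zpowers_le.mpr vT)
  have hvy : zpowers v ≤ 𝐂(zpowers y) := centralizer_zpowers y ▸ zpowers_le.mpr hc
  have hE : PElem q 2 ⊤ (zpowers y ⊔ zpowers v) := by
    refine ⟨le_top, elemAb_sup ly.elem lv.elem hvy, ?_⟩
    rw [IsDp.card ⟨rfl, hvy, inf_comm (zpowers v) _ ▸ (lv.eq_or_inf_eq_bot _).resolve_left fun e =>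
      vR' (zpowers_le.mpr yR (e (mem_zpowers v)))⟩, ly.card_one, lv.card_one, sq]
  set E := zpowers y ⊔ zpowers v with eE
  have key : ∀ t ∈ T, t ^ q = 1 → t ∈ E := fun t ht h1 => by
    have h2 : zpowers t ≤ 𝐂(zpowers v) := centralizer_zpowers v ▸ zpowers_le.mpr ht.2
    have h3 := FT.elemAb_sup lv.elem (FT.elemAb_zpowers h1) h2
    have h4 : zpowers v ⊔ zpowers t ≤ T := sup_le (zpowers_le.mpr vT) (zpowers_le.mpr ht)
    by_cases h5 : ∀ x ∈ zpowers v ⊔ zpowers t, x ∈ 𝐂(R) → x = 1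
    · exact (le_sup_right : _ ≤ E) (mem_zpowers_of_cyclic h.hq (h.cyc hR (hT.to_le h4)
        (h4.trans (inf_le_left.trans (hg R y hR y1 ey r1))) h5) (mem_sup_right (mem_zpowers t))
        (mem_sup_left (mem_zpowers v)) h1 hv)
    push Not at h5
    obtain ⟨f, f1, f2, f3⟩ := h5
    have h6 : E ≤ zpowers v ⊔ zpowers t := sup_le (zpowers_le.mpr (zpowers_le.mpr f1
      (mem_zpowers_of_cyclic h.hq c1 ⟨yT, yR⟩ ⟨h4 f1, f2⟩ (pw hy) (orderOf_eq_prime (h3.2 f f1) f3))))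
      le_sup_left
    refine (eq_of_le_of_card_ge h6 ?_).ge (mem_sup_right (mem_zpowers t))
    refine Nat.le_of_dvd Nat.card_pos ((card_sup_dvd (le_normalizer_of_le_centralizer h2)).trans ?_)
    rw [hE.card, lv.card_one, sq, Nat.card_zpowers]
    exact mul_dvd_mul_left q (orderOf_dvd_of_pow_eq_one h1)
  have NE : 𝐍(T) ≤ 𝐍(E) := fun n hn => mem_normalizer_of_cj_le fun x hx => by
    obtain ⟨e, he, rfl⟩ := hx
    exact key _ (conj_mem_of_le_normalizer le_rfl hn (ET he)) (by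
      simp [conj_pow, hE.elem.2 e he])
  have ly' := ly.of_le (le_sup_left : _ ≤ E)
  have lv' := lv.of_le (le_sup_right : _ ≤ E)
  have hcard := card_p1Elem_p2Elem hE
  have trans : ∀ X, PElem q 1 E X → ∃ n ∈ 𝐍(T), cj n (zpowers y) = X := by
    by_cases hS : IsSylowIn q T 𝐂[y]
    · intro X hX
      obtain ⟨e, he, e1⟩ := exists_ne_one_of_ne_bot (hX.ne_bot one_ne_zero)
      have hS' := syl_top hS (by rw [h.idx ey]; exact h.qa)
      have h1 : T ≤ 𝐂[e] := cE ▸ centralizer_le_centralizer_singleton (hX.le he)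
      have ee := (h.ty e1 (cop_pe h.hq h.qa (pe_of_mem hX.pgroup he))).resolve_right fun e' =>
        syl_index hS' h1 (h.idxd e' ▸ (dvd_pow_self q k.succ_ne_zero).mul_left a)
      obtain ⟨g, hg⟩ := h.conjL y1 ey e1 ee
      obtain ⟨c, hc', h2⟩ := (hg ▸ hS.cj g).exists_cj_eq (hS'.of_le h1 le_top)
      rw [← cj_mul, cj_eq_self_iff] at h2
      refine ⟨_, h2, by_contra fun h3 => hne ?_⟩
      have h4 : PElem q 1 E (cj (c * g) (zpowers y)) := cj_eq_self (NE h2) ▸ ly'.cj (c * g)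
      have h5 : 𝐂[e] ≤ T := by
        rw [← cE, ← (p2Elem_dprodP hE h4 hX h3).sup, centralizer_sup', ← cj_centralizer,
          centralizer_zpowers, cj_mul, hg, cj_eq_self (le_normalizer hc'),
          ← zpowers_eq_of_card_prime (hX.card_one ▸ h.hq) he e1, centralizer_zpowers, inf_idem]
      exact (eq_of_le_of_card_ge (h5.trans inf_le_left) (ey.trans ee.symm).le).symm.trans
        (eq_of_le_of_card_ge (h5.trans inf_le_right) (ev.trans ee.symm).le)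
    have tr : ∀ u, orderOf u = q → u ∈ E → T ≤ 𝐂[u] → ¬ IsSylowIn q T 𝐂[u] → ∀ X Y, PElem q 1 E X →
        PElem q 1 E Y → X ≠ zpowers u → Y ≠ zpowers u → ∃ n ∈ 𝐍(T), cj n X = Y := by
      intro u hu h1 h2 h3 X Y hX hY h4 h5
      obtain ⟨Q, hQ, h6⟩ := exists_isSylowIn_ge hT h2
      have h7 := lt_inf_normalizer_of_pgroup hQ.pgroup (h6.lt_of_ne fun e => h3 (e ▸ hQ))
      obtain ⟨h8, h9⟩ := p2Elem_norm_trans hE (hQ.pgroup.to_le inf_le_left) (inf_le_right.trans NE)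
        (cE ▸ h7.not_ge)
      rw [← (pElem_one_zpowers h1 hu).eq_of_le h8 (zpowers_le.mpr ⟨h1,
        le_centralizer_singleton_iff.mp (inf_le_left.trans hQ.le)⟩)] at h9
      obtain ⟨n, hn, e⟩ := h9 X Y hX hY h4 h5
      exact ⟨n, hn.2, e⟩
    have hS' : ¬ IsSylowIn q T 𝐂[v] := fun h1 =>
      hS ((syl_top h1 (by rw [h.idx ev]; exact h.qa)).of_le inf_le_left le_top)
    have yv : zpowers y ≠ zpowers v := fun e => vR' (zpowers_le.mpr yR (e ▸ mem_zpowers v))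
    have t2 := tr v hv (lv'.le (mem_zpowers v)) inf_le_right hS' (zpowers y)
    intro X hX
    by_cases hXv : X = zpowers v
    · obtain ⟨Y, hY, h1⟩ := Set.exists_mem_notMem_of_ncard_lt_ncard
        (s := {zpowers y, zpowers v}) (t := {X | PElem q 1 E X}) (by
          rw [hcard, Set.ncard_pair yv]; exact Nat.succ_lt_succ h.hq.one_lt)
      simp only [Set.mem_insert_iff, Set.mem_singleton_iff, not_or] at h1
      obtain ⟨n, hn, e⟩ := t2 Y ly' hY yv h1.2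
      obtain ⟨m, hm, e'⟩ := tr y hy (ly'.le (mem_zpowers y)) inf_le_left hS Y X hY hX h1.1
        (hXv ▸ yv.symm)
      exact ⟨m * n, mul_mem hm hn, by rw [cj_mul, e, e']⟩
    · exact t2 X ly' hX yv hXv
  have h1 : {X | PElem q 1 E X} = {X | ∃ n ∈ 𝐍(T), cj n (zpowers y) = X} :=
    Set.ext fun X => ⟨trans X, fun ⟨n, hn, e⟩ => e ▸ cj_eq_self (NE hn) ▸ ly'.cj n⟩
  rw [h1, B03.ncard_cj_orbit] at hcard
  have h2 := (h.odd T (ne_bot_of_mem yT y1) (cop_pg h.hq h.qa hT)).of_dvd_nat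
    (hcard ▸ relIndex_dvd_card _ _)
  have h3 := h.odd_pi (cop_pg h.hq h.qa ly.pgroup)
  rw [ly.card_one] at h3
  exact Nat.not_even_iff_odd.mpr h2 h3.add_one

theorem normZJ [IsSimpleGroup G] (hG : ¬ IsMulCommutative G) (hz : z ≠ 1) (ez : co z = b)
    (h1 : Opp q 𝐂[z] = ⊥) {Q : Subgroup G} (hQ : IsSylowIn q Q ⊤) (h2 : Q ≤ 𝐂[z]) :
    𝐍(ZJ Q) = 𝐂[z] := by
  have := Fact.mk h.hq
  have := Fact.mk h.hr
  have hL := h.odd_pi (h.pi_b ez)
  have h3 := (ZJ_normal hL (odd_solvable hL) (hQ.of_le h2 le_top) h1).norm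
  refine le_antisymm ?_ h3
  obtain ⟨R, hR, r1⟩ := h.syl h.hr h.ne h.ra (.inl ez)
  have zR := le_centralizer_singleton_iff.mp r1
  have hX := hQ.pgroup.to_le (ZJ_sub Q)
  have h4 := ZJ_ne_bot hQ.pgroup (hQ.ne_bot (by
    rw [card_top, h.card, h.eq]; exact ((dvd_pow_self q k.succ_ne_zero).mul_right d).mul_left a))
  have h5 := (h.Dle hR zR).trans h3
  have hn := Opi_normalIn {q} 𝐍(ZJ Q)
  rcases h.lemS hR (h.odd _ h4 (cop_pg h.hq h.qa hX)) h5 (fun e => h4 (eq_bot_iff.mpr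
    (e ▸ le_Opq h.hq hX (normalIn_normalizer _)))) with h6 | ⟨-, C, h6, h7, h8⟩
  · obtain ⟨U, -, -, k1, k2⟩ := h.exL hR
    exact h6.trans (k2 z hz ez zR ▸ sup_le_sup (k1 _ (pgroup_Opi _) (h5.trans hn.norm)) inf_le_right)
  obtain ⟨v, -, k1, k2⟩ := h.exv hG hR
  refine (k2 (zpowers_le.mp (commutator_eq_bot_iff_le_centralizer.mp (eq_bot_iff.mpr ?_)))).elim
  rw [← disjoint_of_coprime_card (coprime_of_pgroup hR.pgroup (not_dvd_card_sup h.hr (h6.trans hn.norm)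
    (not_dvd_card_of_pgroup h.ne.symm (pgroup_Opi _))
    fun k3 => h.hr.one_lt.ne' (Nat.eq_one_of_dvd_coprimes h7 h.rb k3)))]
  exact le_inf (le_normalizer_iff_commutator_le_right.mp (zpowers_le.mpr k1))
    ((commutator_mono (zpowers_le.mpr (h3 (h.NleL hR hz ez r1 k1))) (r1.trans h3)).trans h8)

theorem caseII [IsSimpleGroup G] (hG : ¬ IsMulCommutative G)
    (hg : ∀ z : G, z ≠ 1 → co z = b → Opp q 𝐂[z] = ⊥) : False := by
  have := Fact.mk h.hq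
  obtain ⟨⟨u, u'⟩, ⟨u1, eu, u2, eu', hc, hne⟩, hm⟩ := Set.exists_max_image
    {x : G × G | x.1 ≠ 1 ∧ co x.1 = b ∧ x.2 ≠ 1 ∧ co x.2 = b ∧ x.2 ∈ 𝐂[x.1] ∧ 𝐂[x.1] ≠ 𝐂[x.2]}
    (fun x => #|𝐂[x.1] ⊓ 𝐂[x.2]|) (Set.toFinite _) (by
      obtain ⟨y, v, hy, ey, hv, ev, hc, hne⟩ := h.pair hG
      exact ⟨(y, v), ne_one_of_prime h.hq hy, ey, ne_one_of_prime h.hq hv, ev, hc, hne⟩)
  dsimp only at u1 eu u2 eu' hc hne hm
  have hT := h.qT u1 eu u2 eu' hne
  set T := 𝐂[u] ⊓ 𝐂[u'] with eT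
  have key : ∀ P X : Subgroup G, IsSylowIn q P 𝐍(X) → IsPGroup q X → u ∈ X → T < P ⊓ 𝐂[u] →
      𝐍(X) ≤ 𝐂[u] := by
    intro P
    induction P using WellFoundedGT.induction with
    | ind P ih =>
    intro X hP hX uX hlt
    have X1 := ne_bot_of_mem uX u1
    have XP := hP.le_of_le_normalizer hX le_normalizer hP.le
    obtain ⟨Q, hQ, h1⟩ := exists_isSylowIn_ge (K := ⊤) hP.pgroup le_top
    obtain ⟨z, -, hz, h2, h3⟩ := exists_central h.hq hQ fun e => X1 (eq_bot_iff.mpr (e ▸ XP.trans h1))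
    have z1 := ne_one_of_prime h.hq hz
    have ez := (h.ty z1 (cop_pe h.hq h.qa (pe_of_orderOf hz))).resolve_right fun e' =>
      h3 (h.idxd e' ▸ (dvd_pow_self q k.succ_ne_zero).mul_left a)
    have h4 : 𝐂[z] = 𝐂[u] := by_contra fun h4 => (hm (z, u) ⟨z1, ez, u1, eu, h2 (h1 (XP uX)), h4⟩).not_gt
      ((card_lt_of_lt hlt).trans_le (card_le_of_le (inf_le_inf_right _ (h1.trans h2))))
    have h5 : P ≤ 𝐂[u] := h4 ▸ h1.trans h2
    have hK := h.odd X X1 (cop_pg h.hq h.qa hX)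
    have hO := Opi_normalIn {q}ᶜ 𝐍(X)
    refine (ZJ_factorisation hK (odd_solvable hK) hP).le_sup.trans (sup_le ?_ (inf_le_right.trans ?_))
    · rw [Opp_eq_Opi]
      exact (le_centralizer_of_normalize_of_coprime hO.le (le_normalizer.trans hO.norm)
        (coprime_of_pgroup hX fun h6 => isPiGroup_Opi {q}ᶜ _ q h.hq h6 rfl).symm).trans
        (centralizer_le_centralizer_singleton uX)
    rcases h1.eq_or_lt with rfl | h6
    · exact (h.normZJ hG u1 eu (hg u u1 eu) hQ h5).le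
    have h7 := lt_inf_normalizer_of_pgroup hQ.pgroup h6
    obtain ⟨P', h8, h9⟩ := exists_isSylowIn_ge (hQ.pgroup.to_le inf_le_left)
      (inf_le_right.trans (norm_ZJ P))
    exact ih P' (h7.trans_le h9) _ h8 (hP.pgroup.to_le (ZJ_sub P))
      (center_sub_ZJ P ⟨XP uX, le_centralizer_singleton_iff.mp h5⟩)
      (hlt.trans_le (inf_le_inf_right _ (h7.le.trans h9)))
  have ns : ∀ x : G, co x = b → T ≤ 𝐂[x] → ∃ Q : Subgroup G, IsPGroup q Q ∧ Q ≤ 𝐂[x] ∧ T < Q ⊓ 𝐍(T) := by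
    intro x ex h1
    obtain ⟨Q, hQ, h2⟩ := exists_isSylowIn_ge hT h1
    refine ⟨Q, hQ.pgroup, hQ.le, lt_inf_normalizer_of_pgroup hQ.pgroup (h2.lt_of_ne fun e => hne ?_)⟩
    have h3 := e ▸ syl_top hQ (by rw [h.idx ex]; exact h.qa)
    rw [← h.normZJ hG u1 eu (hg u u1 eu) h3 inf_le_left, h.normZJ hG u2 eu' (hg u' u2 eu') h3 inf_le_right]
  obtain ⟨Q, h1, h2, h3⟩ := ns u eu inf_le_left
  obtain ⟨Q', -, h4, h5⟩ := ns u' eu' inf_le_right
  obtain ⟨P, hP, h6⟩ := exists_isSylowIn_ge (h1.to_le inf_le_left) (inf_le_right : Q ⊓ 𝐍(T) ≤ _)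
  exact h5.not_ge (le_inf (inf_le_right.trans (key P T hP hT
    ⟨mem_cen.mpr rfl, mem_centralizer_singleton_comm.mp hc⟩
    (h3.trans_le (le_inf h6 (inf_le_left.trans h2))))) (inf_le_left.trans h4))

theorem false [IsSimpleGroup G] (hG : ¬ IsMulCommutative G) : False := by
  refine h.caseII hG fun z hz ez => by_contra fun h1 => ?_
  exact h.caseI hG fun R y hR hy ey => h.good hz ez h1 hR hy ey

end L2

end Cfsg.Agent.H7.CA
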