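import Cfsg.Agent.H7.It10
import Cfsg.Agent.H7.RegAb

set_option autoImplicit false

/-! Conjugacy classes whose multiplication table is a Latin square. -/

namespace Cfsg.Agent.H7.CA

open Subgroup H8 FT Cfsg.Agent.L0

variable {G : Type*} [Group G]

/-- no quotient of two distinct conjugates of `y` commutes with a conjugate of `y` -/
def Lat (y : G) : Prop := ∀ x g : G, g * (x * y * x⁻¹ * y⁻¹) * g⁻¹ ∈ 𝐂[y] → x ∈ 𝐂[y]

theorem frob_aux [Finite G] {Z H : Subgroup G} (hZ : Z ≤ center G) (hZH : Z ≤ H) (hH : H ≠ ⊤)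
    {x : G} (hx : x ∈ H) (hxZ : x ∉ Z)
    (hti : ∀ g, g ∉ H → ∀ a ∈ H, g * a * g⁻¹ ∈ H → a ∈ Z) :
    ∃ (p : ℕ) (u : G), p.Prime ∧ PE p (u * x * u⁻¹ * x⁻¹) ∧ u ∉ 𝐂[x] := by
  have hn : Z.Normal := ⟨fun z hz g => by
    rw [mem_center_iff.mp (hZ hz) g, mul_inv_cancel_right]; exact hz⟩
  set f := QuotientGroup.mk' Z with hf
  have hs : Function.Surjective f := QuotientGroup.mk'_surjective Z
  have hm : ∀ g, f g ∈ H.map f ↔ g ∈ H := fun g => by
    rw [← mem_comap, comap_map_eq, hf, QuotientGroup.ker_mk', sup_eq_left.mpr hZH]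
  have h1 : ∀ g, f g = 1 ↔ g ∈ Z := fun g => QuotientGroup.eq_one_iff g
  have hti' : ∀ g, g ∉ H.map f → ∀ a ∈ H.map f, g * a * g⁻¹ ∈ H.map f → a = 1 := by
    intro g hg a ha hga
    obtain ⟨g, rfl⟩ := hs g
    obtain ⟨a, rfl⟩ := hs a
    rw [← map_inv, ← map_mul, ← map_mul, hm] at hga
    exact (h1 a).mpr (hti g (mt (hm g).mpr hg) a ((hm a).mp ha) hga)
  obtain ⟨K, hK, -, hc⟩ := exists_frobenius_kernel hti'
  have hK0 : K ≠ ⊥ := by
    rintro rfl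
    have := hc.sup_eq_top
    rw [bot_sup_eq] at this
    exact hH (eq_top_iff.mpr fun g _ => (hm g).mp (this ▸ mem_top _))
  have hfix : K ⊓ 𝐂[f x] = ⊥ := by
    rw [eq_bot_iff, ← hc.disjoint.eq_bot]
    refine fun k hk => ⟨hk.1, by_contra fun h => hxZ ((h1 x).mp (hti' k h _ ((hm x).mpr hx) ?_))⟩
    rw [mem_cent1.mp hk.2, mul_inv_cancel_right]; exact (hm x).mpr hx
  obtain ⟨p, hp, hd⟩ := Nat.exists_prime_and_dvd (mt card_eq_one.mp hK0)
  have := Fact.mk hp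
  obtain ⟨P, hP⟩ := exists_isSylowIn p (K.comap f)
  have hP' := hP.map f
  rw [map_comap_eq_self_of_surjective hs] at hP'
  obtain ⟨_, ⟨u, hu, rfl⟩, hu1⟩ := exists_ne_one_of_ne_bot (hP'.ne_bot hd)
  obtain ⟨k, hk, hkx⟩ := hP.frattini (g := x) (by rw [normalizer_eq_top]; trivial)
  obtain ⟨z, hz, e⟩ := Semiregular.exists_eq_commutator_of_cent (x := f x)
    (by rw [normalizer_eq_top]; trivial) hfix (mem_comap.mp hk)
  obtain ⟨z, rfl⟩ := hs z
  have hw : (k * x)⁻¹ * (z * x * z⁻¹) ∈ Z := by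
    rw [← h1]; simp only [map_mul, map_inv, ← e]; group
  have hx' : z * x * z⁻¹ ∈ 𝐍(P) := by
    have h2 : (k * x)⁻¹ * (z * x * z⁻¹) ∈ 𝐍(P) :=
      centralizer_le_normalizer _ (center_le_centralizer _ (hZ hw))
    simpa only [mul_inv_cancel_left] using mul_mem hkx h2
  refine ⟨p, z⁻¹ * u * z, hp, ?_, fun h => hu1 ?_⟩
  · have h2 : u * ((z * x * z⁻¹) * u⁻¹ * (z * x * z⁻¹)⁻¹) ∈ P :=
      mul_mem hu ((mem_normalizer_iff.mp hx' _).mp (inv_mem hu))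
    convert (pe_of_mem hP.pgroup h2).conj z⁻¹ using 1
    group
  · have h2 : f (z⁻¹ * u * z) ∈ K ⊓ 𝐂[f x] := by
      refine ⟨?_, mem_cent1.mpr (by rw [← map_mul, mem_cent1.mp h, map_mul])⟩
      rw [map_mul, map_mul, map_inv]
      exact K.mul_mem (K.mul_mem (K.inv_mem hz) (hP.le hu)) hz
    rw [hfix, mem_bot, map_mul, map_mul, map_inv] at h2
    simpa [mul_assoc] using congrArg (fun t => f z * t * (f z)⁻¹) h2

variable [Finite G] [IsSimpleGroup G] (hG : ¬ IsMulCommutative G)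
include hG

theorem Lat.false {y : G} (h : Lat y) (hy : y ≠ 1)
    (hc : ∀ z ∈ 𝐂[y], z ≠ 1 → (co z).Coprime (𝐂[y]).index) : False := by
  have hY : 𝐂[y] ≠ ⊤ := H6.centralizer_ne_top_of_simple hG hy
  obtain ⟨g0, hg0⟩ : ∃ g, g ∉ 𝐂[y] := by
    by_contra h; push Not at h; exact hY (eq_top_iff.mpr fun g _ => h g)
  obtain ⟨g, hg, hmax⟩ := Set.exists_max_image {g | g ∉ 𝐂[y]}
    (fun g => #|𝐂[y] ⊓ 𝐂[g * y * g⁻¹]|) (Set.toFinite _) ⟨g0, hg0⟩
  set D := 𝐂[y] ⊓ 𝐂[g * y * g⁻¹] with hD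
  have hcm : ∀ {e a : G}, e * a * e⁻¹ ∈ 𝐂[y] → a ∈ 𝐂[e⁻¹ * y * e⁻¹⁻¹] := fun {e a} h => by
    rw [← cj_centralizer_singleton, mem_cj]; simpa using h
  by_cases h0 : D = ⊥
  · obtain ⟨K, hK, -, hc⟩ := exists_frobenius_kernel (H := 𝐂[y]) fun e he a ha hea => by
      have h1 := hmax e⁻¹ (fun h => he (inv_mem_iff.mp h))
      rw [h0, card_bot, Nat.le_one_iff_eq_zero_or_eq_one, card_eq_one] at h1
      have h2 := h1.resolve_left Nat.card_pos.ne'
      exact mem_bot.mp (h2 ▸ mem_inf.mpr ⟨ha, hcm hea⟩)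
    rcases hK.eq_bot_or_eq_top with rfl | rfl
    · exact hY (by simpa using hc.sup_eq_top)
    · exact hy (mem_bot.mp (hc.disjoint.eq_bot ▸ mem_inf.mpr ⟨mem_top y, mem_cent1.mpr rfl⟩))
  have hyE : y ∈ 𝐂(D) := fun d hd => mem_cent1.mp hd.1
  have hgE : g * y * g⁻¹ ∈ 𝐂(D) := fun d hd => mem_cent1.mp hd.2
  have hne : g * y * g⁻¹ ∉ 𝐂[y] := fun h1 => hg (h g 1 (by
    simpa using mul_mem h1 (inv_mem (mem_cent1.mpr rfl))))
  obtain ⟨p, u, hp, hu, hu1⟩ := frob_aux (G := 𝐂(D)) (Z := D.subgroupOf _)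
    (H := (𝐂[y]).subgroupOf _) (x := ⟨y, hyE⟩)
    (fun z hz => mem_center_iff.mpr fun e => Subtype.ext (e.2 z hz).symm)
    (fun z hz => hz.1) (fun h1 => hne ((subgroupOf_eq_top.mp h1) hgE)) (mem_cent1.mpr rfl)
    (fun h1 => hne (mem_cent1.mpr (mem_cent1.mp h1.2).symm)) fun e he a ha hea => by
      have h1 : D ≤ 𝐂[y] ⊓ 𝐂[(e : G)⁻¹ * y * (e : G)⁻¹⁻¹] := fun d hd => ⟨hd.1, hcm (by
        rw [← e.2 d hd, mul_inv_cancel_right]; exact hd.1)⟩
      have h2 := eq_of_le_of_card_ge h1 (hmax (e : G)⁻¹ (fun h => he (inv_mem_iff.mp h)))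
      exact h2.ge ⟨ha, hcm hea⟩
  have := Fact.mk hp
  have hu1' : (u : G) ∉ 𝐂[y] := fun h1 => hu1 (mem_cent1.mpr (Subtype.ext (mem_cent1.mp h1)))
  obtain ⟨z, hz, hz1⟩ := exists_ne_one_of_ne_bot h0
  have hd : p ∣ co z := by
    refine (hu.dvd hp fun h1 => hu1 (mem_cent1.mpr ?_)).trans ((_root_.orderOf_dvd_natCard _).trans
      (card_dvd_of_le (centralizer_le (Set.singleton_subset_iff.mpr hz))))
    rwa [mul_inv_eq_one, mul_inv_eq_iff_eq_mul] at h1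
  obtain ⟨S, hS, hS'⟩ := exists_isSylowIn_ge (PE.coe.mpr hu).pgroup le_top
  obtain ⟨e, he⟩ := exists_conj_le (t := y) hp hS
    (hp.coprime_iff_not_dvd.mp ((hc z hz.1 hz1).coprime_dvd_left hd))
  have h1 := he (hS' (mem_zpowers _))
  rw [← cj_centralizer_singleton, mem_cj] at h1
  exact hu1' (h u e⁻¹ (by simpa using h1))

theorem lat_of_deg [Fintype G] {y : G} (hy1 : y ≠ 1)
    (h : ∀ χ : IrrCharacter G, χ ≠ irrOne G → classInner (indFun 𝐂[y] 1) χ.1 ≠ 0 →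
      ∃ n : ℕ, χ.1 1 = n ∧ n.Coprime (𝐂[y]).index) : Lat y := by
  classical
  set Y := 𝐂[y] with hY
  have := Fintype.ofFinite Y
  obtain ⟨μ, hμ, hπe⟩ := IsCharacter.exists_eq_sum_nsmul (IsCharacter.indFun (H := Y) isCharacter_one)
  have hμ1 : μ (irrOne G) = 1 := by
    have h1 := hμ (irrOne G)
    rw [classInner_indFun_left _ _ (IsIrrCharacter.isClassFunction (irrOne G).2)] at h1
    have h2 : classInner (1 : Y → ℂ) (fun x : Y => (irrOne G).1 x) = 1 :=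
      IsIrrCharacter.classInner_self isIrrCharacter_one
    rw [h2] at h1
    exact_mod_cast h1.symm
  have hvan : ∀ χ : IrrCharacter G, χ ≠ irrOne G → μ χ ≠ 0 → χ.1 y = 0 := by
    intro χ hχ hμχ
    obtain ⟨n, hd, hcp⟩ := h χ hχ (by rw [hμ]; exact_mod_cast hμχ)
    refine (IsIrrCharacter.eq_zero_or_mem_charCenter χ.2 hd hcp).resolve_right fun h => ?_
    have h2 := IsCharacter.charCenter_le_center (IsIrrCharacter.isClassFunction χ.2)
      (IsIrrCharacter.charKer_eq_bot_of_isSimpleGroup χ.2 fun h => hχ (Subtype.ext h)) h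
    exact H6.centralizer_ne_top_of_simple hG hy1
      (eq_top_iff.mpr fun g _ => mem_cen.mpr (mem_center_iff.mp h2 g))
  have h1 : ∑ x, indFun Y 1 (x * y * x⁻¹ * y⁻¹) = Nat.card G := by
    simp only [hπe, Finset.sum_apply, Pi.smul_apply]
    rw [Finset.sum_comm, Finset.sum_eq_single (irrOne G)]
    · simp [hμ1]
    · intro χ _ hχ
      rw [← Finset.smul_sum, IsIrrCharacter.sum_conj_mul χ.2]
      by_cases h : μ χ = 0
      · simp [h]
      · simp [hvan χ hχ h]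
    · simp
  have h2 : ∑ x ∈ Finset.univ.filter (· ∈ Y), indFun Y 1 (x * y * x⁻¹ * y⁻¹) = Nat.card G := by
    rw [Finset.sum_congr rfl (g := fun _ => (Y.index : ℂ)) fun x hx => by
      rw [mem_cent1.mp (Finset.mem_filter.mp hx).2, mul_inv_cancel_right, mul_inv_cancel,
        indFun_apply_one]; simp]
    rw [Finset.sum_const, nsmul_eq_mul, ← Fintype.card_subtype, ← Nat.card_eq_fintype_card,
      ← Y.card_mul_index]
    push_cast; rfl
  rw [← Finset.sum_filter_add_sum_filter_not Finset.univ (· ∈ Y), h2, add_eq_left] at h1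
  simp only [indFun_one_apply, div_mul_eq_mul_div, ← Finset.sum_div,
    div_eq_zero_iff, natCard_ne_zero Y, or_false] at h1
  norm_cast at h1
  intro x g hx
  by_contra hn
  have h3 := Finset.sum_eq_zero_iff.mp h1 x (by simpa using hn)
  have : Nonempty {z : Y // IsConj (x * y * x⁻¹ * y⁻¹) z} := ⟨⟨⟨_, hx⟩, isConj_iff.mpr ⟨g, rfl⟩⟩⟩
  exact mul_ne_zero Nat.card_pos.ne' Nat.card_pos.ne' h3

end Cfsg.Agent.H7.CA
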