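import Cfsg.Agent.H7.It13

set_option autoImplicit false

/-! A self-centralizing abelian subgroup of a simple group is not regular on a class. -/

namespace Cfsg.Agent.H7.CA

open Subgroup Cfsg.Agent.L0
open scoped ComplexConjugate

variable {G : Type*} [Group G] [Finite G] [IsSimpleGroup G] (hG : ¬ IsMulCommutative G)
  {B : Subgroup G}
include hG

theorem lat_of_reg (hB : SC B) {y : G} (hy1 : y ≠ 1)
    (hy : (centralizer ({y} : Set G)).index = Nat.card B) : Lat y := by
  classical
  have := Fintype.ofFinite G
  have := Fintype.ofFinite B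
  have := Fintype.ofFinite (normalizer (B : Set G))
  set Y := centralizer ({y} : Set G) with hY
  have := Fintype.ofFinite Y
  have hc : IsMulCommutative B := ⟨⟨fun a b => Subtype.ext (hB.comm a a.2 b b.2)⟩⟩
  have hdeg : ∀ l : IrrCharacter B, l.1 1 = 1 := fun l =>
    IsIrrCharacter.apply_one_of_isMulCommutative l.2
  have hYB : Nat.card Y = B.index := by
    have h1 := Y.index_mul_card
    rw [hy, ← B.index_mul_card, mul_comm] at h1
    exact Nat.eq_of_mul_eq_mul_right Nat.card_pos h1
  have hcop : (Nat.card B).Coprime (Nat.card Y) := hYB ▸ hB.coprime_index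
  have hB0 := natCard_ne_zero B
  have hπ : IsCharacter G (indFun Y 1) := IsCharacter.indFun isCharacter_one
  obtain ⟨μ, hμ, hπe⟩ := IsCharacter.exists_eq_sum_nsmul hπ
  have hm : ∀ (χ : IrrCharacter G) (l : IrrCharacter B), ∃ k : ℕ,
      classInner (fun b : B => χ.1 b) l.1 = k := fun χ l =>
    IsCharacter.exists_nat_classInner (IsCharacter.restrict (IsIrrCharacter.isCharacter χ.2) B)
      (IsIrrCharacter.isCharacter l.2)
  choose m hm using hm
  have hsum : ∀ l : IrrCharacter B, ∑ χ, μ χ * m χ l = 1 := by
    intro l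
    have h1 : classInner (fun b : B => indFun Y 1 b) l.1 = 1 := by
      rw [classInner_def, Finset.sum_eq_single 1]
      · rw [coe_one, indFun_apply_one, hy, hdeg]; simp
      · intro b _ hb
        rw [indFun_eq_zero, zero_mul]
        intro z hz
        exfalso
        apply hb
        have h1 := H6.orderOf_eq_of_isConj hz
        rw [orderOf_coe, orderOf_coe] at h1
        exact orderOf_eq_one_iff.mp (Nat.eq_one_of_dvd_coprimes hcop (orderOf_dvd_natCard b)
          (h1 ▸ orderOf_dvd_natCard z))
      · simp
    have h2 : (fun b : B => indFun Y 1 b) = ∑ χ, μ χ • fun b : B => χ.1 b := by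
      ext b; rw [hπe]; simp
    rw [h2, classInner_sum_left] at h1
    simp only [classInner_nsmul_left, hm] at h1
    exact_mod_cast h1
  have hμ1 : μ (irrOne G) = 1 := by
    have h1 := hμ (irrOne G)
    rw [classInner_indFun_left _ _ (IsIrrCharacter.isClassFunction (irrOne G).2)] at h1
    have h2 : classInner (1 : Y → ℂ) (fun x : Y => (irrOne G).1 x) = 1 :=
      IsIrrCharacter.classInner_self isIrrCharacter_one
    rw [h2] at h1
    exact_mod_cast h1.symm
  have hm1 : m (irrOne G) (irrOne B) = 1 := by
    have h1 := hm (irrOne G) (irrOne B)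
    have h2 : classInner (fun b : B => (irrOne G).1 b) (irrOne B).1 = 1 :=
      IsIrrCharacter.classInner_self isIrrCharacter_one
    rw [h2] at h1
    exact_mod_cast h1.symm
  have hle : ∀ (l : IrrCharacter B) (χ χ' : IrrCharacter G), χ ≠ χ' →
      μ χ * m χ l + μ χ' * m χ' l ≤ 1 := fun l χ χ' h => by
    rw [← hsum l, ← Finset.sum_pair (f := fun χ => μ χ * m χ l) h]
    exact Finset.sum_le_sum_of_subset (Finset.subset_univ _)
  have hact : ∀ (χ : IrrCharacter G) n l, m χ (act B n l) = m χ l := fun χ n l => by
    have := classInner_act (IsIrrCharacter.isClassFunction χ.2) n l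
    rw [hm, hm] at this
    exact_mod_cast this
  refine lat_of_deg hG hy1 fun χ hχ hμχ => ?_
  · replace hμχ : μ χ ≠ 0 := fun h => hμχ (by rw [hμ, h]; simp)
    have hm0 : ∀ l χ', χ ≠ χ' → μ χ' * m χ' l ≠ 0 → m χ l = 0 := fun l χ' h h' => by
      have := hle l χ χ' h
      by_contra h2
      have : μ χ * m χ l ≠ 0 := mul_ne_zero hμχ h2
      omega
    have hmle : ∀ l, m χ l ≠ 0 → m χ l = 1 := fun l h => by
      have h1 := hle l χ _ hχ
      have h2 : m χ l ≤ μ χ * m χ l := Nat.le_mul_of_pos_left _ (Nat.pos_of_ne_zero hμχ)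
      omega
    set J := Finset.univ.filter fun l => m χ l ≠ 0 with hJ
    have hd : χ.1 1 = J.card := by
      have h1 := IsClassFunction.apply_eq_sum_irr
        (IsClassFunction.restrict (IsIrrCharacter.isClassFunction χ.2) B) 1
      simp only [coe_one, hm, hdeg, mul_one] at h1
      rw [h1, Finset.card_filter]
      push_cast
      refine Finset.sum_congr rfl fun l _ => ?_
      by_cases h : m χ l = 0
      · simp [h]
      · simp [hmle l h]
    have h1J : m χ (irrOne B) = 0 := hm0 _ _ hχ (by rw [hμ1, hm1]; simp)
    have hcp : J.card.Coprime (Nat.card B) := by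
      by_cases hall : ∀ l, l ≠ irrOne B → m χ l ≠ 0
      · have h1 : J = Finset.univ.erase (irrOne B) := by
          ext l
          simp only [hJ, Finset.mem_filter, Finset.mem_univ, true_and, Finset.mem_erase, and_true]
          exact ⟨fun h h' => h (h' ▸ h1J), hall l⟩
        have h2 := sum_irr_degree_sq (G := B)
        simp only [hdeg, one_pow, Finset.sum_const, nsmul_eq_mul, mul_one, Nat.cast_inj] at h2
        rw [h1, Finset.card_erase_of_mem (Finset.mem_univ _), h2]
        exact (Nat.coprime_self_sub_left Nat.card_pos).mpr (Nat.coprime_one_left _)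
      push Not at hall
      obtain ⟨ν, hν1, hν⟩ := hall
      obtain ⟨χ', -, hχ'⟩ := Finset.exists_ne_zero_of_sum_ne_zero
        ((hsum ν).trans_ne one_ne_zero)
      have hne : χ ≠ χ' := by rintro rfl; exact hχ' (by rw [hν, mul_zero])
      have hν' : m χ' ν = 1 := by
        have h1 := hle ν χ χ' hne
        have h2 : m χ' ν ≤ μ χ' * m χ' ν :=
          Nat.le_mul_of_pos_left _ (Nat.pos_of_ne_zero (left_ne_zero_of_mul hχ'))
        have := right_ne_zero_of_mul hχ'
        omega
      have hl' : ∀ l, m χ l ≠ 0 → m χ' l = 0 := fun l h => by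
        have h1 := hle l χ χ' hne
        have h2 : μ χ * m χ l ≠ 0 := mul_ne_zero hμχ h
        exact (mul_eq_zero.mp (by omega : μ χ' * m χ' l = 0)).resolve_left (left_ne_zero_of_mul hχ')
      have hcross : ∀ l l', m χ l ≠ 0 → m χ l' ≠ 0 →
          classInner (indFun B (l.1 - ν.1)) (indFun B (l'.1 - ν.1)) =
            (Nat.card B : ℂ)⁻¹ * ∑ n, classInner (act B n l).1 l'.1 + 1 := by
        intro l l' hl hl2
        rw [classInner_ind_sub hB]
        have e1 : ∀ n, classInner (act B n l).1 ν.1 = 0 := fun n => by
          rw [classInner_irr, if_neg]; intro h; exact hl (by rw [← hact χ n l, h, hν])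
        have e2 : ∀ n, classInner (act B n ν).1 l'.1 = 0 := fun n => by
          rw [classInner_irr, if_neg]; intro h; exact hl2 (by rw [← h, hact, hν])
        simp only [e1, e2, sub_zero]
        rw [Finset.sum_add_distrib, sum_act_self hB hν1, mul_add, inv_mul_cancel₀ hB0]
      have hθ : ∀ l, m χ l ≠ 0 → indFun B (l.1 - ν.1) = χ.1 - χ'.1 := by
        intro l hl
        have hl1 : l ≠ irrOne B := fun h => hl (h ▸ h1J)
        have e0 := hcross l l hl hl
        rw [sum_act_self hB hl1, inv_mul_cancel₀ hB0] at e0
        have e1 : ∀ ψ : IrrCharacter G, classInner ψ.1 (indFun B (l.1 - ν.1)) =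
            (m ψ l : ℂ) - m ψ ν := fun ψ => by
          rw [classInner_indFun_right _ _ (IsIrrCharacter.isClassFunction ψ.2),
            classInner_sub_right, hm, hm]
        have e2 : ∀ ψ : IrrCharacter G, classInner (indFun B (l.1 - ν.1)) ψ.1 =
            (m ψ l : ℂ) - m ψ ν := fun ψ => by
          rw [← conj_classInner, e1]; simp
        rw [← sub_eq_zero]
        apply eq_zero_of_classInner_self_eq_zero
        simp only [classInner_sub_left, classInner_sub_right, e0, e1, e2, classInner_irr, hmle l hl,
          hν, hν', hl' l hl, if_true, if_neg hne, if_neg hne.symm]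
        push_cast; ring
      obtain ⟨n₀, hn₀, hn₀'⟩ := IsIrrCharacter.exists_nat_pos χ.2
      have hJ0 : J.Nonempty := by
        rw [← Finset.card_pos]
        rw [hd] at hn₀'
        have : J.card = n₀ := by exact_mod_cast hn₀'
        omega
      obtain ⟨l, hl⟩ := hJ0
      have hl : m χ l ≠ 0 := (Finset.mem_filter.mp hl).2
      have e : ∀ l' ∈ J, ∑ n, classInner (act B n l).1 l'.1 = Nat.card B := fun l' hl' => by
        have hl' : m χ l' ≠ 0 := (Finset.mem_filter.mp hl').2
        have e0 := hcross l l' hl hl'
        rw [hθ l hl, hθ l' hl'] at e0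
        simp only [classInner_sub_left, classInner_sub_right, classInner_irr, if_true, if_neg hne,
          if_neg hne.symm] at e0
        have : (Nat.card B : ℂ)⁻¹ * ∑ n, classInner (act B n l).1 l'.1 = 1 := by
          simp only [classInner_irr]
          linear_combination -e0
        rw [inv_mul_eq_one₀ hB0] at this
        exact this.symm
      have e' := Finset.sum_congr rfl e
      rw [Finset.sum_comm] at e'
      have e3 : ∀ n, ∑ l' ∈ J, classInner (act B n l).1 l'.1 = 1 := fun n => by
        simp only [classInner_irr]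
        rw [Finset.sum_ite_eq, if_pos (Finset.mem_filter.mpr ⟨Finset.mem_univ _, by rwa [hact]⟩)]
      simp only [e3, Finset.sum_const, nsmul_eq_mul, mul_one, Finset.card_univ,
        ← Nat.card_eq_fintype_card] at e'
      have e4 : Nat.card (normalizer (B : Set G)) = J.card * Nat.card B := by exact_mod_cast e'
      have e5 := card_subgroup_dvd_card (normalizer (B : Set G))
      rw [e4, ← B.index_mul_card] at e5
      exact Nat.Coprime.coprime_dvd_left (Nat.dvd_of_mul_dvd_mul_right Nat.card_pos e5)
        hB.coprime_index.symm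
    exact ⟨_, hd, hy ▸ hcp⟩

theorem SC.not_reg (hB : SC B) {y : G} (hy1 : y ≠ 1) :
    (centralizer ({y} : Set G)).index ≠ Nat.card B := fun hy => by
  refine (lat_of_reg hG hB hy1 hy).false hG hy1 fun z hz hz1 => ?_
  rw [hy]
  refine (hB.coprime_cen hz1 fun hin => ?_).symm
  have h1 := hB.in_of_comm hin hy1 (mem_cen.mp hz).symm
  have h2 := (centralizer ({y} : Set G)).index_mul_card
  rw [hy, hB.card_cen h1, ← B.index_mul_card] at h2
  have h3 := hB.coprime_index
  rw [← Nat.eq_of_mul_eq_mul_right Nat.card_pos h2, Nat.coprime_self, card_eq_one] at h3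
  obtain ⟨w, hw, hw1, -⟩ := hin
  exact hw1 (mem_bot.mp (h3 ▸ hw))

end Cfsg.Agent.H7.CA
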