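import Cfsg.Agent.H7.It14
import Cfsg.Agent.FT.IP06

set_option autoImplicit false

/-! A nonabelian nilpotent TI subgroup regular on a conjugacy class. -/

namespace Cfsg.Agent.H7.CA

open Subgroup H8 FT Cfsg.Agent.L0
open scoped ComplexConjugate

variable {G : Type*} [Group G] [Finite G] [IsSimpleGroup G] {H W N : Subgroup G}

theorem lin_ker (hab : der H ≠ ⊥) {χ : G → ℂ} (hχ : IsIrr ⊤ χ) (h1 : χ ≠ cf1 ⊤)
    (h : ∀ θ, IsIrr H θ → ⟪χ, θ⟫_H ≠ 0 → θ 1 = 1) : False := by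
  have hr := (hχ.isCF.res (le_top (a := H))).apply_eq_sum_irr
  have h2 : der H ≤ cfker ⊤ χ := fun x hx => by
    rw [hχ.mem_cfker_iff, ← res_of_mem (der_le H hx) χ, hr, ← res_one H χ, hr]
    refine Finset.sum_congr rfl fun θ hθ => ?_
    rw [dot_res_left]
    by_cases h0 : ⟪χ, θ⟫_H = 0
    · simp [h0]
    · rw [mem_irr] at hθ
      rw [cfker_apply (IsLin.der_le_cfker ⟨hθ.isChar, h θ hθ h0⟩ hx)]
  rcases (normalIn_top.mp hχ.isCF.cfker_normalIn).eq_bot_or_eq_top with e | e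
  · exact hab (le_bot_iff.mp (e ▸ h2))
  · exact h1 (hχ.le_cfker_iff.mp e.ge)

theorem two_trans (ho : Odd #|N|) (hn : Group.IsNilpotent H)
    (hti : NormedTI (sharp (H : Set G)) ⊤ N) (hF : IsFrob H W N) (hab : der H ≠ ⊥)
    {π : G → ℂ} (hπ : IsChar ⊤ π) (h1 : π 1 = (#|H| : ℕ)) (h0 : ∀ x ∈ H, x ≠ 1 → π x = 0)
    (h2 : ⟪π, cf1 ⊤⟫_⊤ ≠ 0) {ψ : G → ℂ} (hψ : IsIrr ⊤ ψ) (hψ1 : ψ ≠ cf1 ⊤) (hd : ⟪π, ψ⟫_⊤ ≠ 0) :
    ψ 1 + 1 = (#|H| : ℕ) := by
  classical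
  have := Fintype.ofFinite H
  have hH := hF.ker_normalIn
  have hreg : ∀ θ, IsIrr H θ → ⟪π, θ⟫_H = θ 1 := fun θ hθ => by
    rw [dot_def, Finset.sum_eq_single 1]
    · rw [coe_one, h1, hθ.isChar.conj_apply_one, ← mul_assoc, inv_mul_cancel₀ (cardC_ne_zero H),
        one_mul]
    · intro x _ hx
      rw [h0 x x.2 fun h => hx (Subtype.ext h), zero_mul]
    · simp
  have hπ' := hπ.sub_irr (isIrr_cf1 ⊤) h2
  set π' := π - cf1 ⊤ with hπe
  have hc1 : ∀ θ, ⟪cf1 ⊤, θ⟫_H = ⟪cf1 H, θ⟫_H := fun θ => by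
    rw [← dot_res_left, res_cf1 le_top]
  have hreg' : ∀ θ, IsIrr H θ → θ ≠ cf1 H → ⟪π', θ⟫_H = θ 1 := fun θ hθ h => by
    rw [hπe, dot_sub_left, hreg θ hθ, hc1, (isIrr_cf1 H).dot_of_ne hθ h.symm, sub_zero]
  have hreg1 : ⟪π', cf1 H⟫_H = 0 := by
    rw [hπe, dot_sub_left, hreg _ (isIrr_cf1 H), hc1, dot_cf1_cf1, cf1_one, sub_self]
  obtain ⟨ν, hν⟩ := Sibley_coherence_Frob ho hn hti hF
  obtain ⟨l, hl, hl1⟩ := solvable_has_lin_char (L := H) inferInstance hF.ker_ne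
  have hS : ∀ θ, IsIrr H θ → θ ≠ cf1 H → ind N H θ ∈ seqIndD H N H ⊥ := fun θ hθ h =>
    mem_seqIndD.mpr ⟨θ, hθ, bot_le, mt hθ.le_cfker_iff.mp h, rfl⟩
  have hz : ∀ θ, IsIrr H θ → θ ≠ cf1 H →
      ind N H θ ∈ zspan (seqIndD H N H ⊥ : Set (G → ℂ)) := fun θ hθ h =>
    Submodule.subset_span (hS θ hθ h)
  obtain ⟨deg, hdeg⟩ : ∃ deg : (G → ℂ) → ℕ, ∀ θ, IsIrr H θ → 0 < deg θ ∧ θ 1 = deg θ := by
    have : ∀ θ : G → ℂ, ∃ e : ℕ, IsIrr H θ → 0 < e ∧ θ 1 = e := fun θ => by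
      by_cases h : IsIrr H θ
      · exact h.exists_nat_pos.imp fun _ h _ => h
      · exact ⟨0, fun h' => absurd h' h⟩
    exact ⟨fun θ => (this θ).choose, fun θ => (this θ).choose_spec⟩
  obtain ⟨m, hm⟩ : ∃ m : (G → ℂ) → (G → ℂ) → ℕ,
      ∀ φ θ, IsChar ⊤ φ → IsIrr H θ → ⟪φ, θ⟫_H = m φ θ := by
    have : ∀ φ θ : G → ℂ, ∃ e : ℕ, IsChar ⊤ φ → IsIrr H θ → ⟪φ, θ⟫_H = e := fun φ θ => by
      by_cases h : IsChar ⊤ φ ∧ IsIrr H θ
      · exact ((h.1.res le_top).exists_nat_dot h.2.isChar).imp fun _ h _ _ => by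
          rwa [dot_res_left] at h
      · exact ⟨0, fun h1 h2 => absurd ⟨h1, h2⟩ h⟩
    exact ⟨fun φ θ => (this φ θ).choose, fun φ θ => (this φ θ).choose_spec⟩
  obtain ⟨δ, hδ⟩ : ∃ δ : (G → ℂ) → (G → ℂ) → ℤ, ∀ χ θ, IsIrr ⊤ χ → IsIrr H θ → θ ≠ cf1 H →
      ⟪χ, ν (ind N H θ)⟫_⊤ = δ χ θ ∧ (δ χ θ = 0 ∨ (δ χ θ = 1 ∧ ν (ind N H θ) = χ) ∨
        (δ χ θ = -1 ∧ ν (ind N H θ) = -χ)) := by
    have : ∀ χ θ : G → ℂ, ∃ d : ℤ, IsIrr ⊤ χ → IsIrr H θ → θ ≠ cf1 H →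
        ⟪χ, ν (ind N H θ)⟫_⊤ = d ∧ (d = 0 ∨ (d = 1 ∧ ν (ind N H θ) = χ) ∨
          (d = -1 ∧ ν (ind N H θ) = -χ)) := fun χ θ => by
      by_cases h : IsIrr ⊤ χ ∧ IsIrr H θ ∧ θ ≠ cf1 H
      swap
      · exact ⟨0, fun h1 h2 h3 => absurd ⟨h1, h2, h3⟩ h⟩
      by_cases e : ⟪χ, ν (ind N H θ)⟫_⊤ = 0
      · exact ⟨0, fun _ _ _ => ⟨by simpa using e, .inl rfl⟩⟩
      rcases coherent_with_dirr hν (hS θ h.2.1 h.2.2)
        (irr_induced_Frobenius_ker hF h.2.1 h.2.2) with h3 | h3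
      · have := h.1.eq_of_dot_ne_zero h3 e
        exact ⟨1, fun _ _ _ => ⟨by rw [← this, h.1.dot_self]; simp, .inr (.inl ⟨rfl, this.symm⟩)⟩⟩
      · have := neg_eq_iff_eq_neg.mp
          (h.1.eq_of_dot_ne_zero h3 (by rwa [dot_neg_right, neg_ne_zero])).symm
        exact ⟨-1, fun _ _ _ => ⟨by rw [this, dot_neg_right, h.1.dot_self]; simp,
          .inr (.inr ⟨rfl, this⟩)⟩⟩
    exact ⟨fun φ θ => (this φ θ).choose, fun φ θ => (this φ θ).choose_spec⟩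
  have key : ∀ χ θ, IsIrr ⊤ χ → IsIrr H θ → θ ≠ cf1 H →
      (m χ θ : ℤ) = deg θ * (m χ l - δ χ l) + δ χ θ := fun χ θ hχ hθ h => by
    have h3 : ind N H θ - (deg θ : ℤ) • ind N H l ∈
        zspanOn (seqIndD H N H ⊥ : Set (G → ℂ)) (sharp (N : Set G)) := by
      rw [mem_zspanOn_sharp fun φ hφ => (seqInd_char hH.le (seqIndD_subT _ _ _ _ hφ)).isCF]
      refine ⟨sub_mem (hz θ hθ h) (Submodule.smul_mem _ _ (hz l hl.isIrr hl1)), ?_⟩
      simp [ind_apply_one hH.le, hl.apply_one, (hdeg θ hθ).2, mul_comm]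
    have h4 := congrArg (fun α => ⟪χ, α⟫_⊤) (hν.eq _ h3)
    rw [dot_ind_right le_top hχ.isCF, map_sub, map_zsmul, dot_sub_right, dot_zsmul_right,
      dot_sub_right, dot_zsmul_right, (hδ χ θ hχ hθ h).1, (hδ χ l hχ hl.isIrr hl1).1,
      ← dot_res_left χ, ← dot_res_left χ, dot_ind_right hH.le (hχ.isCF.res le_top),
      dot_ind_right hH.le (hχ.isCF.res le_top), ← dot_res_left, res_res hH.le, dot_res_left,
      ← dot_res_left (res N χ), res_res hH.le, dot_res_left, hm _ _ hχ.isChar hθ,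
      hm _ _ hχ.isChar hl.isIrr] at h4
    have : ((m χ θ : ℤ) : ℂ) = (deg θ * (m χ l - δ χ l) + δ χ θ : ℤ) := by
      push_cast at h4 ⊢; linear_combination -h4
    exact_mod_cast this
  have hdl : deg l = 1 := by exact_mod_cast (hdeg l hl.isIrr).2.symm.trans hl.apply_one
  obtain ⟨χ, hχ, hχ1, hχ2⟩ := hπ'.exists_between le_top le_top (θ := l) (by
    rw [hreg' l hl.isIrr hl1, hl.apply_one]; simp)
  have hπ'' := hπ'.sub_irr hχ hχ1
  have hadd : ∀ θ, IsIrr H θ → ⟪π', θ⟫_H = m χ θ + m (π' - χ) θ := fun θ hθ => by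
    rw [← hm _ _ hχ.isChar hθ, ← hm _ _ hπ'' hθ, dot_sub_left π' χ]; ring
  have hle : ∀ θ, IsIrr H θ → θ ≠ cf1 H → m χ θ + m (π' - χ) θ = deg θ := fun θ hθ h => by
    exact_mod_cast (hadd θ hθ).symm.trans ((hreg' θ hθ h).trans (hdeg θ hθ).2)
  have hle1 : m χ (cf1 H) + m (π' - χ) (cf1 H) = 0 := by
    exact_mod_cast (hadd _ (isIrr_cf1 H)).symm.trans hreg1
  have hne : χ ≠ cf1 ⊤ := by
    rintro rfl
    exact hχ2 (by rw [hc1, (isIrr_cf1 H).dot_of_ne hl.isIrr hl1.symm])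
  have hml : m χ l ≠ 0 := fun h => hχ2 (by rw [hm _ _ hχ.isChar hl.isIrr, h]; simp)
  obtain ⟨θ, hθ, hθ0, hθ1⟩ : ∃ θ, IsIrr H θ ∧ ⟪χ, θ⟫_H ≠ 0 ∧ θ 1 ≠ 1 := by
    by_contra h; push Not at h; exact lin_ker hab hχ hne h
  have hθ2 : θ ≠ cf1 H := by rintro rfl; simp at hθ1
  have hdθ : 2 ≤ deg θ := by
    have h3 := hdeg θ hθ
    have : deg θ ≠ 1 := fun h => hθ1 (by rw [h3.2, h]; simp)
    omega
  have hmθ : m χ θ ≠ 0 := fun h => hθ0 (by rw [hm _ _ hχ.isChar hθ, h]; simp)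
  have hb : ∀ χ θ, IsIrr ⊤ χ → IsIrr H θ → θ ≠ cf1 H → -1 ≤ δ χ θ ∧ δ χ θ ≤ 1 :=
    fun χ θ h1 h2 h3 => by rcases (hδ χ θ h1 h2 h3).2 with h | h | h <;> omega
  have hc : (m χ l : ℤ) - δ χ l = 1 := by
    have e1 := key χ θ hχ hθ hθ2
    have e2 := hle θ hθ hθ2
    have e3 := hb χ θ hχ hθ hθ2
    have e4 : (m χ l : ℤ) - δ χ l ≠ 0 := fun e => by
      rw [e, mul_zero, zero_add] at e1
      have e5 : ν (ind N H θ) = χ := by
        rcases (hδ χ θ hχ hθ hθ2).2 with h | h | h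
        exacts [by omega, h.2, by omega]
      have e6 : ν (ind N H l) = χ := by
        rcases (hδ χ l hχ hl.isIrr hl1).2 with h | h | h
        exacts [by omega, h.2, by omega]
      have e7 := hν.iso.iso _ (hz θ hθ hθ2) _ (hz l hl.isIrr hl1)
      rw [e5, e6, hχ.dot_self, Ind_ortho_of_ne hH hθ hl.isIrr fun e => hθ1 ?_] at e7
      · exact one_ne_zero e7
      have := congrFun e 1
      rw [ind_apply_one hH.le, ind_apply_one hH.le, hl.apply_one] at this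
      exact mul_left_cancel₀ (relIndexC_ne_zero H N) this
    have : (0 : ℤ) ≤ m χ θ := by positivity
    have : (m χ θ : ℤ) ≤ deg θ := by omega
    generalize (m χ l : ℤ) - δ χ l = c at *
    have : (2 : ℤ) ≤ deg θ := by omega
    rcases lt_trichotomy c 1 with h | h | h
    · nlinarith [show c ≤ -1 by omega]
    · exact h
    · nlinarith
  have h00 : π' - χ = 0 := by
    by_contra h00
    obtain ⟨χ', hχ', h3⟩ := hπ''.isCF.exists_constt h00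
    have h4 := hπ''.sub_irr hχ' h3
    have hle' : ∀ θ, IsIrr H θ → m χ' θ ≤ m (π' - χ) θ := fun θ hθ => by
      have : (m (π' - χ) θ : ℂ) = m χ' θ + m (π' - χ - χ') θ := by
        rw [← hm _ _ hχ'.isChar hθ, ← hm _ _ hπ'' hθ, ← hm _ _ h4 hθ, dot_sub_left _ χ']; ring
      have : m (π' - χ) θ = m χ' θ + m (π' - χ - χ') θ := by exact_mod_cast this
      omega
    have hne' : χ' ≠ χ := by
      rintro rfl
      have := hle' l hl.isIrr
      have := hle l hl.isIrr hl1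
      omega
    have hone : ∀ θ, IsIrr H θ → θ ≠ cf1 H → δ χ θ = 0 ∨ δ χ' θ = 0 := fun θ h1 h2 => by
      rcases (hδ χ θ hχ h1 h2).2 with h | h | h
      · exact .inl h
      all_goals rcases (hδ χ' θ hχ' h1 h2).2 with h' | h' | h'
      · exact .inr h'
      · exact absurd (h'.2.symm.trans h.2) hne'
      · exact absurd (h.2.symm.trans h'.2) (hχ.ne_neg hχ')
      · exact .inr h'
      · exact absurd (h'.2.symm.trans h.2) (hχ'.ne_neg hχ)
      · exact absurd (neg_injective (h'.2.symm.trans h.2)) hne'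
    have hc' : (m χ' l : ℤ) - δ χ' l = 0 := by
      have e1 := key χ θ hχ hθ hθ2
      have e1' := key χ' θ hχ' hθ hθ2
      have e2 := hle θ hθ hθ2
      have e2' := hle' θ hθ
      have e3 := hb χ θ hχ hθ hθ2
      have e3' := hb χ' θ hχ' hθ hθ2
      have e4 := hone θ hθ hθ2
      rw [hc] at e1
      have : (0 : ℤ) ≤ m χ' θ := by positivity
      have : (m χ' θ : ℤ) - δ χ' θ ≤ 1 := by omega
      generalize (m χ' l : ℤ) - δ χ' l = c at *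
      have : (2 : ℤ) ≤ deg θ := by omega
      rcases lt_trichotomy c 0 with h | h | h
      · nlinarith
      · exact h
      · nlinarith
    obtain ⟨θ', hθ', h5⟩ := hχ'.exists_under (le_top (a := H))
    have h6 : m χ' θ' ≠ 0 := fun h => h5 (by rw [hm _ _ hχ'.isChar hθ', h]; simp)
    have h7 := hle' θ' hθ'
    have h8 : θ' ≠ cf1 H := by rintro rfl; omega
    have e1 := key χ θ' hχ hθ' h8
    have e1' := key χ' θ' hχ' hθ' h8
    have e2 := hle θ' hθ' h8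
    have e4 := hone θ' hθ' h8
    rw [hc] at e1
    rw [hc'] at e1'
    omega
  rw [sub_eq_zero] at h00
  have h3 : χ = ψ := hχ.eq_of_dot_ne_zero hψ (by
    rwa [← h00, hπe, dot_sub_left, (isIrr_cf1 ⊤).dot_of_ne hψ hψ1.symm, sub_zero])
  rw [← h3, ← h00, hπe, Pi.sub_apply, cf1_one, h1, sub_add_cancel]

theorem lat_of_frob (hG : ¬ IsMulCommutative G) (ho : Odd #|N|) (hn : Group.IsNilpotent H)
    (hti : NormedTI (sharp (H : Set G)) ⊤ N) (hF : IsFrob H W N) (hab : der H ≠ ⊥) {y : G}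
    (hy : y ≠ 1) (hi : (𝐂[y]).index = #|H|) (hc : (#|H|).Coprime (co y)) : Lat y := by
  have := Fintype.ofFinite G
  have hdot : ∀ φ ψ : G → ℂ, ⟪φ, ψ⟫_⊤ = classInner φ ψ := fun φ ψ => by
    rw [dot_eq_sum_left fun x hx => absurd (mem_top x) hx, classInner_def, card_top]
  have hirr : ∀ χ : IrrCharacter G, IsIrr ⊤ χ.1 := fun χ => ⟨fun x hx => absurd (mem_top x) hx,
    IsIrrCharacter.comp_of_surjective χ.2 (⊤ : Subgroup G).subtype fun x => ⟨⟨x, mem_top x⟩, rfl⟩⟩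
  have h1 : cf1 (⊤ : Subgroup G) = (irrOne G).1 := funext fun x => cf1_of_mem (mem_top x)
  refine lat_of_deg hG hy fun χ hχ hd => ?_
  have := Fintype.ofFinite 𝐂[y]
  have h2 := two_trans ho hn hti hF hab (π := indFun 𝐂[y] 1)
    ⟨fun x hx => absurd (mem_top x) hx,
      IsCharacter.restrict (IsCharacter.indFun isCharacter_one) ⊤⟩
    (by rw [indFun_apply_one, hi]; simp) (fun x hx hx1 => indFun_eq_zero fun z hz => by
      exfalso
      refine hx1 (orderOf_eq_one_iff.mp (Nat.eq_one_of_dvd_coprimes hc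
        (H.orderOf_dvd_natCard hx) ?_))
      rw [H6.orderOf_eq_of_isConj hz, orderOf_coe]
      exact _root_.orderOf_dvd_natCard z)
    (by
      rw [hdot, h1, classInner_indFun_left _ _ (IsIrrCharacter.isClassFunction (irrOne G).2)]
      exact (IsIrrCharacter.classInner_self isIrrCharacter_one).trans_ne one_ne_zero)
    (hirr χ) (fun e => hχ (Subtype.ext (e.trans h1))) (by rwa [hdot])
  obtain ⟨n, -, hn'⟩ := IsIrrCharacter.exists_nat_pos χ.2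
  refine ⟨n, hn', ?_⟩
  rw [hn'] at h2
  have h3 : n + 1 = #|H| := by exact_mod_cast h2
  rw [hi, ← h3]
  simp

end Cfsg.Agent.H7.CA
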