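import Cfsg.Agent.H7.It12
import Cfsg.Agent.H7.It15

set_option autoImplicit false

/-! The factorized case with `b` odd does not occur. -/

namespace Cfsg.Agent.H7.CA

open Subgroup H8 FT

variable {G : Type*} [Group G] [Finite G]

theorem U1.cm' {t w : G} {d p q : ℕ} (h : U1 t d) (hp : p.Prime) (ht : orderOf t = p) (hq : q.Prime)
    (hne : p ≠ q) (hw : orderOf w = q) (e : 𝐂[w] = 𝐂[t]) : Cm 𝐂[t] := by
  refine cm_of_two (d := d) hp hq hne fun x hx hco => ?_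
  have hn : ¬ 𝐂[t] ≤ 𝐂[(x : G)] := fun h1 =>
    hx (mem_center_iff.mpr fun g => Subtype.ext (mem_cen.mp (h1 g.2)))
  rw [co, centralizer_singleton_subgroupOf, ← inf_subgroupOf_right,
    L0.card_subgroupOf_of_le inf_le_right]
  rw [← orderOf_coe] at hco
  exact hco.elim (fun h1 => h.card (ne_one_of_prime hp ht) rfl x.2 (ht ▸ h1.symm) hn)
    fun h1 => h.card (ne_one_of_prime hq hw) e x.2 (hw ▸ h1.symm) hn

theorem U1.pk {t : G} {d p r : ℕ} (h : U1 t d) (hp : p.Prime) (ht : orderOf t = p)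
    (hn : ∀ q : ℕ, q.Prime → q ≠ p → ∀ w : G, orderOf w = q → ¬ 𝐂[t] ≤ 𝐂[w])
    (hr : r.Prime) (hrp : r ≠ p) (hd : r ∣ co t) : ∃ k, co t = p ^ (k + 1) * d := by
  have h1 : ∀ (q : ℕ) (y : G), q.Prime → q ≠ p → orderOf y = q → y ∈ 𝐂[t] →
      (𝐂[y]).relIndex 𝐂[t] * d = co t := by
    intro q y hq hq2 hy hc
    rw [← h.card (ne_one_of_prime hp ht) rfl hc (by
      rw [ht, hy]; exact (Nat.coprime_primes hp hq).mpr hq2.symm) (hn q hq hq2 y hy),
      ← inf_relIndex_right, L0.relIndex_mul_card_of_le inf_le_right]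
  obtain ⟨y, hc, hy, -⟩ := exists_mem_orderOf hr hd
  have h2 := h1 r y hr hrp hy hc
  have h3 := Nat.eq_prime_pow_of_unique_prime_dvd (p := p) (n := (𝐂[y]).relIndex 𝐂[t])
    index_ne_zero_of_finite fun {s} hs hd => by
      by_contra hs2
      obtain ⟨w, hw, h4⟩ := H6.exists_central_in_sylow (G := 𝐂[t]) hs
        (hd.trans (relIndex_dvd_card _ _))
      rw [centralizer_singleton_subgroupOf] at h4
      rw [← orderOf_coe] at hw
      have h5 := (h1 s w hs hs2 hw w.2).trans h2.symm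
      have h6 : 0 < d := Nat.pos_of_mul_pos_left (Nat.card_pos.trans_eq h2.symm)
      exact h4 (hd.trans (Nat.eq_of_mul_eq_mul_right h6 h5).symm.dvd)
  generalize List.length _ = k at h3
  rcases k with _ | k
  · exact (hn r hr hrp y hy (relIndex_eq_one.mp h3)).elim
  · exact ⟨k, by rw [← h2, h3]⟩

theorem le_of_sylow {p : ℕ} [Fact p.Prime] {S H L : Subgroup G} (hS : IsSylowIn p S L) (h1 : S ≤ H)
    (h : ∀ q, q.Prime → q ≠ p → ∀ y ∈ L, PE q y → y ∈ H) : L ≤ H := by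
  obtain ⟨k, hk⟩ := index_pow_of_pe h
  rcases k with _ | k
  · exact relIndex_eq_one.mp hk
  · exact (hS.not_dvd_relIndex (((dvd_pow_self p k.succ_ne_zero).trans hk.symm.dvd).trans
      (relIndex_dvd_of_le_left L h1))).elim

theorem Cm.nil (h : Cm G) : Group.IsNilpotent G := by
  refine (Group.isNilpotent_of_finite_tfae.out 3 0 rfl rfl).mp
    fun (p : ℕ) (hp : Fact p.Prime) (P : Sylow p G) => ?_
  rw [← normalizer_eq_top_iff, eq_top_iff]
  exact le_of_sylow (p := p) (isSylowIn_top P) le_normalizer fun q hq e y _ hy =>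
    centralizer_le_normalizer _ fun x hx => h q p hq hp.1 e y x hy (pe_of_mem P.isPGroup' hx)

omit [Finite G] in
theorem Cm.comm {L : Subgroup G} (h : Cm L) {p q : ℕ} (hp : p.Prime) (hq : q.Prime) (hne : p ≠ q)
    {x y : G} (hx : x ∈ L) (hy : y ∈ L) (h1 : PE p x) (h2 : PE q y) : y ∈ 𝐂[x] :=
  mem_cent1.mpr (congrArg Subtype.val
    (h p q hp hq hne ⟨x, hx⟩ ⟨y, hy⟩ (PE.coe.mp h1) (PE.coe.mp h2)))

theorem inv_of_fpf {K : Subgroup G} {t : G} (ht : t * t = 1) (hn : t ∈ 𝐍(K)) (h : K ⊓ 𝐂[t] = ⊥)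
    {k : G} (hk : k ∈ K) : t * k * t⁻¹ = k⁻¹ := by
  obtain ⟨z, -, rfl⟩ := Semiregular.exists_eq_commutator_of_cent hn h hk
  rw [inv_eq_of_mul_eq_one_right ht]
  calc _ = t * z * t * z⁻¹ * (t * t) := by group
    _ = _ := by rw [ht, mul_one]; simp [mul_assoc, inv_eq_of_mul_eq_one_right ht]

theorem comm_of_fpf {K : Subgroup G} {t : G} (ht : t * t = 1) (hn : t ∈ 𝐍(K)) (h : K ⊓ 𝐂[t] = ⊥) :
    K ≤ 𝐂(K) := fun x hx y hy => by
  have h1 := inv_of_fpf ht hn h (mul_mem hx hy)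
  rw [mul_inv_rev, ← inv_of_fpf ht hn h hx, ← inv_of_fpf ht hn h hy] at h1
  exact (MulAut.conj t).injective (by simpa [mul_assoc] using h1.symm)

namespace Sd

variable {a b d : ℕ} (h : Sd G a b d) {x y : G}
include h

omit [Finite G] in
theorem u1 (e : co y = b) : U1 y d := fun g hg hd =>
  e ▸ h.ty hg (h.cop.coprime_dvd_right ((orderOf_dvd_co g).trans (e ▸ hd)))

theorem cen_eq (e : co y = b) {w : G} (hw : w ≠ 1) (h1 : w ∈ 𝐂[y]) (hle : 𝐂[y] ≤ 𝐂[w]) :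
    𝐂[w] = 𝐂[y] :=
  (eq_of_le_of_card_ge hle (Nat.le_of_dvd Nat.card_pos ((h.co_dvd hw
    (h.cop.coprime_dvd_right (e ▸ orderOf_dvd_natCard _ h1))).trans e.symm.dvd))).symm

theorem idx' (e : co x = a) : (𝐂[x]).index = b := by
  have h1 := (𝐂[x]).card_mul_index
  rw [h.card, ← e] at h1
  exact Nat.eq_of_mul_eq_mul_left Nat.card_pos h1

theorem cen_le {p q : ℕ} (hp : p.Prime) (hq : q.Prime) (hne : p ≠ q) {z : G} (hy : orderOf y = p)
    (hz : orderOf z = q) (e : co y = b) (e' : 𝐂[z] = 𝐂[y]) {w : G} (hw : w ∈ 𝐂[y]) (h1 : w ≠ 1) :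
    𝐂[w] ≤ 𝐂[y] := by
  have hcm := (h.u1 e).cm' hp hy hq hne hz e'
  obtain ⟨s, hs, hd⟩ := Nat.exists_prime_and_dvd (mt orderOf_eq_one_iff.mp h1)
  obtain ⟨v, hv, hvs, hv1⟩ := exists_mem_orderOf (K := zpowers w) hs (Nat.card_zpowers w ▸ hd)
  refine (cen_le_of_mem_zpowers hv).trans ?_
  replace hv := zpowers_le.mpr hw hv
  clear hw h1 hd
  have := Fact.mk hs
  have hsa : ¬ s ∣ a := h.not_dvd hs (e ▸ hvs ▸ orderOf_dvd_natCard _ hv)
  have two : ∀ r : ℕ, ∃ (p : ℕ) (u : G), p.Prime ∧ p ≠ r ∧ orderOf u = p ∧ 𝐂[u] = 𝐂[y] := fun r => by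
    by_cases hr : p = r
    exacts [⟨q, z, hq, hr ▸ hne.symm, hz, e'⟩, ⟨p, y, hp, hr, hy, rfl⟩]
  rcases h.ty hv1 (cop_pe hs hsa (pe_of_orderOf hvs)) with e1 | e1
  · obtain ⟨S, hS⟩ := exists_isSylowIn s 𝐂[y]
    have hS' := syl_top hS (h.idx e ▸ hsa)
    obtain ⟨g, hg⟩ := exists_conj_le (t := v) hs hS' (h.idx e1 ▸ hsa)
    have hv' := (pe_of_orderOf hvs).conj g
    have h2 : g * v * g⁻¹ ∈ 𝐂[y] := hS.le (hS'.le_of_le_normalizer' hv'.pgroup le_top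
      (zpowers_le.mpr (centralizer_le_normalizer _ fun x hx => mem_cent1.mp (hg hx)))
      (mem_zpowers _))
    have h3 := h.cen_eq e (by simpa using hv1) h2 (le_of_sylow hS hg fun r hr hne u hu hu' =>
      hcm.comm hs hr hne.symm h2 hu hv' hu')
    refine le_of_pe fun r hr u hu hu' => ?_
    obtain ⟨p', y', hp', hne', hy', e2⟩ := two r
    have h4 : ∀ u ∈ 𝐂[v], g * u * g⁻¹ ∈ 𝐂[y] := fun u hu => by
      rw [← h3, ← cj_centralizer_singleton]; exact conj_mem_cj g hu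
    have h5 := mem_cent1.mp (hcm.comm hp' hr hne' (h4 y' (mem_cent1.mpr (mem_cent1.mp (e2 ▸ hv)).symm))
      (h4 u hu) ((pe_of_orderOf hy').conj g) (hu'.conj g))
    rw [← e2, mem_cent1]
    exact (MulAut.conj g).injective (by simpa [mul_assoc] using h5)
  · obtain ⟨p', y', hp', hne', hy', e2⟩ := two s
    have hc : v * y' = y' * v := mem_cent1.mp (e2 ▸ hv)
    have hco : (orderOf v).Coprime (orderOf y') := by
      rw [hvs, hy']; exact (Nat.coprime_primes hs hp').mpr hne'.symm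
    refine e2 ▸ le_of_co_mul hc hco ?_
    have h2 := (co_mul_dvd hc hco).1
    rcases h.u1 e _ (mul_ne_one_of_coprime hc hco hv1) (h2.trans (e1 ▸ e ▸ h.dvd)) with e3 | e3
    · exact Nat.dvd_antisymm h2 (e1 ▸ e3 ▸ e ▸ h.dvd)
    · exact e3.trans e1.symm

variable [IsSimpleGroup G] (hG : ¬ IsMulCommutative G) (hx : x ≠ 1) (ex : co x = a)
include hG hx ex

theorem not_comm (e : co y = b) : ¬ 𝐂[y] ≤ 𝐂(𝐂[y]) := fun hc =>
  SC.not_reg hG (B := 𝐂[y]) (fun _ hw hw1 => h.cen_eq e hw1 hw fun g hg =>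
    mem_cent1.mpr (hc hw g hg)) hx ((h.idx' ex).trans e.symm)

theorem odd_norm (hb : Odd b) (e : co y = b) {K : Subgroup G} (hK : K ≠ ⊥)
    (hc : a.Coprime #|K|) : Odd #|𝐍(K)| := by
  by_contra ho
  obtain ⟨t, htK, ht, ht1⟩ := exists_mem_orderOf Nat.prime_two
    (even_iff_two_dvd.mp (Nat.not_odd_iff_even.mp ho))
  have ht2 : t * t = 1 := by rw [← sq, ← ht, pow_orderOf_eq_one]
  have fpf : ∀ L : Subgroup G, a.Coprime #|L| → L ⊓ 𝐂[t] = ⊥ := fun L hL =>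
    h.semi (A := zpowers t) hL (by rw [Nat.card_zpowers, ht]; exact hb.coprime_two_right)
      t (mem_zpowers t) ht1
  have nrm : ∀ k, t * k * t⁻¹ = k⁻¹ → t ∈ 𝐍(𝐂[k]) := fun k hk => by
    rw [← cj_eq_self_iff, cj_centralizer_singleton, hk]
    exact le_antisymm (cen_le_of_mem_zpowers (by simp)) (cen_le_of_mem_zpowers (by simp))
  obtain ⟨r, hr, hd⟩ := Nat.exists_prime_and_dvd (mt card_eq_one.mp hK)
  have := Fact.mk hr
  obtain ⟨k, hk, hkr, hk1⟩ := exists_mem_orderOf hr hd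
  have hra : ¬ r ∣ a := hr.coprime_iff_not_dvd.mp (hc.coprime_dvd_right hd).symm
  obtain ⟨S, hS, hS'⟩ := exists_isSylowIn_ge (pe_of_orderOf hkr).pgroup le_top
  obtain ⟨g, hg⟩ := exists_conj_le (t := y) hr hS (h.idx e ▸ hra)
  have h1 := inv_of_fpf ht2 (nrm k (inv_of_fpf ht2 htK (fpf K hc) hk))
    (fpf _ (h.cop_co hk1 (cop_pe hr hra (pe_of_orderOf hkr))))
    (mem_cent1.mpr (mem_cent1.mp (hg (hS' (mem_zpowers k)))).symm)
  have e1 := (co_conj g y).trans e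
  exact h.not_comm hG hx ex e1 (comm_of_fpf ht2 (nrm _ h1) (fpf _ (e1.symm ▸ h.cop :)))

theorem not_two (hb : Odd b) {p q : ℕ} (hp : p.Prime) (hq : q.Prime) (hne : p ≠ q) {z : G}
    (hy : orderOf y = p) (hz : orderOf z = q) (e : co y = b) : 𝐂[z] ≠ 𝐂[y] := fun e' => by
  have hle := fun w => h.cen_le hp hq hne hy hz e e' (w := w)
  have hy1 := ne_one_of_prime hp hy
  have hyL : y ∈ 𝐂[y] := mem_cent1.mpr rfl
  have hL : 𝐂[y] ≠ ⊥ := ne_bot_of_mem hyL hy1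
  have hti : ∀ g, ∀ w ∈ 𝐂[y], w ≠ 1 → g * w * g⁻¹ ∈ 𝐂[y] → g ∈ 𝐍(𝐂[y]) := fun g w hw hw1 hg => by
    refine mem_normalizer_of_cj_le (cj_centralizer_singleton g y ▸ hle _ (hle _ hg (by simpa) ?_)
      (by simpa))
    rw [← cj_centralizer_singleton]
    exact conj_mem_cj g (mem_cent1.mpr (mem_cent1.mp hw).symm)
  obtain ⟨W, hW⟩ := exists_isSdp_of_hall (K := 𝐂[y]) (M := 𝐍(𝐂[y])) ⟨le_normalizer,
    Nat.Coprime.coprime_dvd_right (relIndex_dvd_index_of_le le_normalizer)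
      (by rw [h.idx e]; exact (e ▸ h.cop.symm :))⟩ le_rfl
  have hW0 : W ≠ ⊥ := by
    rintro rfl
    obtain ⟨K, hK, -, hc⟩ := L0.exists_frobenius_kernel (H := 𝐂[y]) fun g hg w hw hgw =>
      by_contra fun hw1 => hg (by simpa [← hW.sup] using hti g w hw hw1 hgw)
    rcases hK.eq_bot_or_eq_top with rfl | rfl
    · exact H6.centralizer_ne_top_of_simple hG hy1 (by simpa using hc.sup_eq_top)
    · exact hL (by simpa using hc.disjoint.eq_bot)
  refine (lat_of_frob hG (h.odd_norm hG hx ex hb e hL (e.symm ▸ h.cop :))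
    ((h.u1 e).cm' hp hy hq hne hz e').nil ⟨⟨y, hyL, hy1⟩, le_top, fun g hg w hw =>
      ⟨(mem_normalizer_iff.mp hg w).mp hw.1, by simpa using hw.2⟩,
      fun g _ w hw hg => hti g w hw.1 hw.2 hg.1⟩
    ⟨hW, hL, hW0, semiregular_iff.mpr fun u hu w hw hc => or_iff_not_imp_right.mpr fun hw1 =>
      mem_bot.mp (hW.inf ▸ ⟨hle w hw hw1 (mem_cent1.mpr hc.symm), hu⟩)⟩
    (fun h1 => h.not_comm hG hx ex e (commutator_eq_bot_iff_le_centralizer.mp h1)) hx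
    ((h.idx' ex).trans e.symm) (ex.symm ▸ e.symm ▸ h.cop.symm :)).false hG hx fun u hu hu1 => ?_
  rw [h.idx' ex]
  exact h.cop.coprime_dvd_left (h.co_dvd' hu1
    (h.cop.symm.coprime_dvd_right (ex ▸ orderOf_dvd_natCard _ hu)))

theorem false_of_odd (hb : Odd b) (hy : y ≠ 1) (e : co y = b) : False := by
  have pk : ∀ z : G, z ≠ 1 → co z = b → ∀ s : ℕ, s.Prime → s ∣ orderOf z →
      ∃ k, b = s ^ (k + 1) * d := fun z hz e s hs hd => by
    obtain ⟨v, hv, hvs, hv1⟩ := exists_mem_orderOf (K := zpowers z) hs (Nat.card_zpowers z ▸ hd)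
    have e1 : co v = b := by
      rw [co, h.cen_eq e hv1 (zpowers_le.mpr (mem_cent1.mpr rfl) hv) (cen_le_of_mem_zpowers hv), ← e]
    obtain ⟨r, hr, hrs, hd⟩ := exists_prime_ne hG hx hs
    rw [h.idx' ex, ← e1] at hd
    exact e1 ▸ (h.u1 e1).pk hs hvs (fun q hq hne w hw hle => h.not_two hG hx ex hb hs hq hne.symm
      hvs hw e1 (h.cen_eq e1 (ne_one_of_prime hq hw)
        (mem_cent1.mpr (mem_cent1.mp (hle (mem_cent1.mpr rfl))).symm) hle)) hr hrs hd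
  obtain ⟨q, hq, hd⟩ := Nat.exists_prime_and_dvd (mt orderOf_eq_one_iff.mp hy)
  obtain ⟨k, hk⟩ := pk y hy e q hq hd
  obtain ⟨r, hr, hrs, hd⟩ := exists_prime_ne hG hx hq
  refine L2.false (q := q) (r := r) (k := k) ⟨h, hq, hr, hrs, h.idx' ex ▸ hd, hk, fun z hz e1 => ?_,
    fun K => h.odd_norm hG hx ex hb e, y, hy, e⟩ hG
  refine ⟨_, orderOf_dvd_iff_pow_eq_one.mp (Nat.eq_prime_pow_of_unique_prime_dvd (p := q)
    (orderOf_pos z).ne' fun {s} hs hd => ?_).dvd⟩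
  obtain ⟨j, hj⟩ := pk z hz e1 s hs hd
  have h0 : 0 < d := Nat.pos_of_mul_pos_left (Nat.card_pos.trans_eq (e.trans hk))
  exact (Nat.prime_dvd_prime_iff_eq hs hq).mp (hs.dvd_of_dvd_pow
    (Nat.eq_of_mul_eq_mul_right h0 (hj.symm.trans hk) ▸ dvd_pow_self s j.succ_ne_zero))

end Sd

end Cfsg.Agent.H7.CA
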