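import Cfsg.Agent.H7.It6
import Cfsg.Agent.H7.It16

set_option autoImplicit false

/-! Simple groups with five centralizer orders and two heads. -/

namespace Cfsg.Agent.H7.CA

open Subgroup H8 FT

variable {G : Type*} [Group G] [Finite G]

theorem relIndex_of_coprime {K L : Subgroup G} (h : K.index.Coprime L.index) :
    L.relIndex K = L.index := by
  refine le_antisymm (relIndex_top_right L ▸ relIndex_le_of_le_right le_top index_ne_zero_of_finite)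
    (Nat.le_of_dvd (Nat.pos_of_ne_zero index_ne_zero_of_finite) (h.symm.dvd_of_dvd_mul_right ?_))
  rw [← inf_relIndex_right, relIndex_mul_index inf_le_right]
  exact index_dvd_of_le inf_le_left

/-- two heads dominating all centralizer orders -/
structure TH (x y : G) : Prop where
  hx : x ≠ 1
  hy : y ≠ 1
  hdx : Hd x
  hdy : Hd y
  ne : co x ≠ co y
  dvd : ∀ g : G, g ≠ 1 → co g ∣ co x ∨ co g ∣ co y

namespace TH

variable {x y z : G} (h : TH x y) {p q c d e : ℕ}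
include h

omit [Finite G] in
theorem symm : TH y x := ⟨h.hy, h.hx, h.hdy, h.hdx, h.ne.symm, fun g hg => (h.dvd g hg).symm⟩

omit [Finite G] in
theorem of_eq (hz : z ≠ 1) (e : co z = co x) : TH z y :=
  ⟨hz, h.hy, h.hdx.of_eq e, h.hdy, e ▸ h.ne, e ▸ h.dvd⟩

omit [Finite G] in
theorem not_dvd : ¬ co x ∣ co y := fun h1 => h.ne (h.hdx y h.hy h1).symm

theorem cop : (𝐂[x]).index.Coprime (𝐂[y]).index := cop_of_two h.dvd

theorem card_inf : (𝐂[y]).index * #|𝐂[x] ⊓ 𝐂[y]| = co x := by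
  rw [← relIndex_of_coprime h.cop, ← inf_relIndex_left, L0.relIndex_mul_card_of_le inf_le_left]

theorem gcd : (co x).gcd (co y) = #|𝐂[x] ⊓ 𝐂[y]| := by
  rw [← h.card_inf, ← h.symm.card_inf, inf_comm 𝐂[y], Nat.gcd_mul_right, h.cop.symm, one_mul]

variable [IsSimpleGroup G] (hG : ¬ IsMulCommutative G)
include hG

theorem not_mem : x ∉ 𝐂[y] := fun h1 =>
  not_comm_of_coprime hG h.hx h.hy h.cop (mem_cent1.mp h1).symm

theorem co_ne (hz : z ≠ 1) (h1 : z ∈ 𝐂[y]) : co z ≠ co x := fun e => (h.of_eq hz e).not_mem hG h1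

theorem dvd_index (hp : p.Prime) (hx : orderOf x = p) : p ∣ (𝐂[y]).index := by
  by_contra h1
  have := Fact.mk hp
  obtain ⟨S, hS, hS'⟩ := exists_isSylowIn_ge (pe_of_orderOf hx).pgroup le_top
  obtain ⟨g, hg⟩ := exists_conj_le hp hS h1
  exact (h.symm.of_eq (by simpa using h.hy) (co_conj g y)).symm.not_mem hG (hg (hS' (mem_zpowers x)))

theorem prime_ne (hp : p.Prime) (hx : orderOf x = p) (hq : q.Prime) (hy : orderOf y = q) : p ≠ q :=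
  fun e => hp.one_lt.ne' (Nat.eq_one_of_dvd_coprimes h.cop (e ▸ h.symm.dvd_index hG hq hy)
    (h.dvd_index hG hp hx))

theorem mul (hz : z ∈ 𝐂[x] ⊓ 𝐂[y]) (hz1 : z ≠ 1) (hc : (orderOf y).Coprime (orderOf z)) :
    ∃ g : G, g ≠ 1 ∧ co g ∣ co y ∧ co g ∣ co z ∧ co g ≠ co y ∧ co g ≠ co z ∧ orderOf y ∣ co g := by
  have h1 := (mem_cent1.mp hz.2).symm
  have h2 := co_mul_dvd h1 hc
  refine ⟨_, mul_ne_one_of_coprime h1 hc h.hy, h2.1, h2.2, fun e => h.symm.co_ne hG hz1 hz.1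
    (h.hdy z hz1 (e ▸ h2.2)), fun e => h.not_mem hG (le_of_co_mul h1.symm hc.symm (h1 ▸ e)
      (mem_cent1.mpr (mem_cent1.mp hz.1).symm)), orderOf_dvd_natCard _ ?_⟩
  rw [cen_mul h1 hc]
  exact ⟨mem_cent1.mpr rfl, mem_cent1.mpr h1⟩

theorem big (hp : p.Prime) (hx : orderOf x = p) (hd : p ∣ #|𝐂[x] ⊓ 𝐂[y]|) :
    ∃ z ∈ 𝐂[x] ⊓ 𝐂[y], orderOf z = p ∧ ¬ co z ∣ co y := by
  have := Fact.mk hp
  obtain ⟨S, hS⟩ := exists_isSylowIn p (𝐂[x] ⊓ 𝐂[y])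
  have hS' : IsSylowIn p S 𝐂[y] := IsSylowIn.of_not_dvd_relIndex (hS.le.trans inf_le_right)
    hS.pgroup (by
      rw [← relIndex_mul_relIndex S _ _ hS.le inf_le_right, hp.dvd_mul, not_or, inf_relIndex_right,
        relIndex_of_coprime h.cop.symm]
      exact ⟨hS.not_dvd_relIndex, fun h1 => hp.one_lt.ne' (Nat.eq_one_of_dvd_coprimes h.cop h1
        (h.dvd_index hG hp hx))⟩)
  obtain ⟨z, h1, h2, h3, -⟩ :=
    H5.exists_mem_centralizer_of_isPGroup hS.pgroup hS.pgroup le_normalizer (hS.ne_bot hd)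
  refine ⟨z, hS.le h1, h2, fun h4 => h.not_mem hG ?_⟩
  have h5 : IsPGroup p ↥(zpowers x ⊔ S) := (pe_of_orderOf hx).pgroup.to_sup_of_normal_right'
    hS.pgroup (zpowers_le.mpr (centralizer_le_normalizer _ fun u hu => mem_cent1.mp (hS.le hu).1))
  have h6 : zpowers x ⊔ S ≤ 𝐂[z] := sup_le
    (zpowers_le.mpr (mem_cent1.mpr (mem_cent1.mp (hS.le h1).1).symm))
    fun r hr => mem_cent1.mpr (h3 r hr)
  obtain ⟨k, hk⟩ := IsPGroup.iff_card.mp h5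
  have h7 := (card_dvd_of_le h6).trans h4
  rw [hk, hp.pow_dvd_iff_le_factorization Nat.card_pos.ne'] at h7
  refine hS'.le ((eq_of_le_of_card_ge (le_sup_right (a := zpowers x)) ?_).ge
    (mem_sup_left (mem_zpowers x)))
  rw [hk, hS'.card_eq]
  exact Nat.pow_le_pow_right hp.pos h7

section B2

variable (v : ∀ g : G, g ≠ 1 → co g = co x ∨ co g = co y ∨ co g = c ∨ co g = d ∨ co g = e)
  (c1 : c ∣ co x) (c2 : ¬ c ∣ co y) (d1 : d ∣ co y) (d2 : ¬ d ∣ co x) (e1 : e ∣ co x)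
  (e2 : e ∣ co y) (e0 : e ≠ 1)
include v

include c1 c2 d2 e1 in
theorem ord_dvd (hz : z ∈ 𝐂[x] ⊓ 𝐂[y]) (hz1 : z ≠ 1) (hc : (orderOf y).Coprime (orderOf z)) :
    orderOf y ∣ e := by
  obtain ⟨g, hg, h1, h2, h3, h4, h5⟩ := h.mul hG hz hz1 hc
  rcases v g hg with e' | e' | e' | e' | e'
  · exact (h.not_dvd (e' ▸ h1)).elim
  · exact (h3 e').elim
  · exact (c2 (e' ▸ h1)).elim
  · rcases v z hz1 with e3 | e3 | e3 | e3 | e3
    · exact (d2 (e' ▸ e3 ▸ h2)).elim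
    · exact (h.symm.co_ne hG hz1 hz.1 e3).elim
    · exact (d2 ((e' ▸ e3 ▸ h2 :).trans c1)).elim
    · exact (h4 (e'.trans e3.symm)).elim
    · exact (d2 ((e' ▸ e3 ▸ h2 :).trans e1)).elim
  · exact e' ▸ h5

include c1 c2 d1 d2 e1 e2 e0

theorem ratio (hp : p.Prime) (hx : orderOf x = p) (hq : q.Prime) (hy : orderOf y = q) :
    ∃ k, c = p ^ (k + 1) * e := by
  have hne := h.prime_ne hG hp hx hq hy
  have he : e ∣ #|𝐂[x] ⊓ 𝐂[y]| := h.gcd ▸ Nat.dvd_gcd e1 e2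
  have h1 : ∀ s : ℕ, s.Prime → s ≠ p → s ∣ e → p ∣ e := fun s hs hsp hd => by
    obtain ⟨z, hz, h1, h2⟩ := exists_mem_orderOf hs (hd.trans he)
    exact hx ▸ h.symm.ord_dvd hG (c := d) (d := c) (fun g hg => by have := v g hg; tauto) d1 d2 c2 e2
      (inf_comm 𝐂[x] _ ▸ hz) h2 (by rw [hx, h1]; exact (Nat.coprime_primes hp hs).mpr hsp.symm)
  have hpe : p ∣ e := by
    obtain ⟨s, hs, hd⟩ := Nat.exists_prime_and_dvd e0
    by_cases e' : s = p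
    exacts [e' ▸ hd, h1 s hs e' hd]
  obtain ⟨z, hz, hzp, h2⟩ := h.big hG hp hx (hpe.trans he)
  have hz1 := ne_one_of_prime hp hzp
  have h3 : ∀ w : G, w ≠ 1 → w ∈ 𝐂[y] → ¬ co w ∣ co y → co w = c := fun w hw h1 h2 => by
    rcases v w hw with e' | e' | e' | e' | e'
    exacts [(h.co_ne hG hw h1 e').elim, (h2 e'.dvd).elim, e', (h2 (e' ▸ d1)).elim,
      (h2 (e' ▸ e2)).elim]
  have hc := h3 z hz1 hz.2 h2
  have hu : U1 z e := fun g hg h1 => by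
    rcases v g hg with e' | e' | e' | e' | e'
    · exact (h.co_ne hG hz1 hz.2 (h.hdx z hz1 (e' ▸ h1))).elim
    · exact (h.symm.co_ne hG hz1 hz.1 (h.hdy z hz1 (e' ▸ h1))).elim
    · exact .inl (e'.trans hc.symm)
    · exact (d2 ((e' ▸ hc ▸ h1 :).trans c1)).elim
    · exact .inr e'
  have hxz : x ∈ 𝐂[z] := mem_cent1.mpr (mem_cent1.mp hz.1).symm
  have hyz : y ∈ 𝐂[z] := mem_cent1.mpr (mem_cent1.mp hz.2).symm
  refine hc ▸ hu.pk hp hzp (fun r hr hrp w hw hle => ?_) hq hne.symm (hy ▸ orderOf_dvd_natCard _ hyz)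
  have h4 := h3 w (ne_one_of_prime hr hw) (mem_cent1.mpr (mem_cent1.mp (hle hyz)).symm)
    fun h1 => h2 ((card_dvd_of_le hle).trans h1)
  exact h.not_mem hG ((hu.cm' hp hzp hr hrp.symm hw
    (eq_of_le_of_card_ge hle (h4.trans hc.symm).le).symm).comm hq hp hne.symm hyz hxz
    (pe_of_orderOf hy) (pe_of_orderOf hx))

theorem caseB2 : False := by
  obtain ⟨y', q, hq, hy, ey⟩ := h.hdy.exists_prime h.hy
  have key : ∀ (u : G) (p : ℕ), p.Prime → orderOf u = p → co u = co x → ∃ k, c = p ^ (k + 1) * e :=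
    fun u p hp hu eu => ((h.of_eq (ne_one_of_prime hp hu) eu).symm.of_eq (ne_one_of_prime hq hy)
      ey).symm.ratio hG (eu ▸ ey ▸ v) (eu ▸ c1) (ey ▸ c2) (ey ▸ d1) (eu ▸ d2) (eu ▸ e1) (ey ▸ e2) e0
      hp hu hq hy
  obtain ⟨x', p, hp, hx, ex⟩ := h.hdx.exists_prime h.hx
  obtain ⟨k, hk⟩ := key x' p hp hx ex
  obtain ⟨r, hr, hrp, hd⟩ := exists_prime_ne hG h.hy hp
  obtain ⟨u, hu, h1⟩ := H6.exists_central_in_sylow hr (hd.trans (index_dvd_card _))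
  have h0 : 0 < e := Nat.pos_of_dvd_of_pos e1 Nat.card_pos
  have h2 : ¬ co u ∣ co y := fun h2 => h1 (hd.trans (index_dvd_of_co h2))
  rcases v u (ne_one_of_prime hr hu) with e' | e' | e' | e' | e'
  · obtain ⟨j, hj⟩ := key u r hr hu e'
    exact hrp ((Nat.prime_dvd_prime_iff_eq hr hp).mp (hr.dvd_of_dvd_pow
      (Nat.eq_of_mul_eq_mul_right h0 (hj.symm.trans hk) ▸ dvd_pow_self r j.succ_ne_zero)))
  · exact h2 e'.dvd
  · obtain ⟨m, hm⟩ := e2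
    have h3 := (𝐂[u]).index_mul_card.trans (𝐂[y]).index_mul_card.symm
    change _ * co u = _ * co y at h3
    rw [e', hk, hm, ← mul_assoc, mul_comm e, ← mul_assoc] at h3
    have h4 := (hd.mul_right m).trans (Nat.eq_of_mul_eq_mul_right h0 h3).symm.dvd
    exact ((Nat.Prime.dvd_mul hr).mp h4).elim h1 fun h5 =>
      hrp ((Nat.prime_dvd_prime_iff_eq hr hp).mp (hr.dvd_of_dvd_pow h5))
  · exact h2 (e' ▸ d1)
  · exact h2 (e' ▸ e2)

end B2

section B1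

variable (v : ∀ g : G, g ≠ 1 → (co g ∣ co x ∧ ¬ co g ∣ co y) ∨ co g = co y ∨ co g = d)
  (d1 : d ∣ co y) (d2 : ¬ d ∣ co x)
include v d1 d2

theorem inf_eq_bot (hp : p.Prime) (hx : orderOf x = p) (hq : q.Prime) (hy : orderOf y = q) :
    𝐂[x] ⊓ 𝐂[y] = ⊥ := by
  by_contra h0
  obtain ⟨s, hs, hd⟩ := Nat.exists_prime_and_dvd (mt card_eq_one.mp h0)
  by_cases e : s = q
  · obtain ⟨z, hz, hzq, h1⟩ := h.symm.big hG hq hy (inf_comm 𝐂[x] _ ▸ e ▸ hd)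
    have hz1 := ne_one_of_prime hq hzq
    obtain ⟨g, hg, h2, h3, -⟩ := h.symm.mul hG hz hz1 (by
      rw [hx, hzq]; exact (Nat.coprime_primes hp hq).mpr (h.prime_ne hG hp hx hq hy))
    rcases v z hz1 with e1 | e1 | e1
    · exact h1 e1.1
    · exact h.symm.co_ne hG hz1 hz.2 e1
    rcases v g hg with e2 | e2 | e2
    exacts [e2.2 ((e1 ▸ h3 :).trans d1), h.symm.not_dvd (e2 ▸ h2), d2 (e2 ▸ h2)]
  · obtain ⟨z, hz, hzs, hz1⟩ := exists_mem_orderOf hs hd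
    obtain ⟨g, hg, h1, h2, h3, h4, -⟩ := h.mul hG hz hz1 (by
      rw [hy, hzs]; exact (Nat.coprime_primes hq hs).mpr (Ne.symm e))
    rcases v g hg with e2 | e2 | e2
    · exact e2.2 h1
    · exact h3 e2
    rcases v z hz1 with e1 | e1 | e1
    exacts [d2 ((e2 ▸ h2 :).trans e1.1), h.symm.co_ne hG hz1 hz.1 e1, h4 (e2.trans e1.symm)]

theorem sd : Sd G (co x) (co y) d := by
  obtain ⟨x', p, hp, hx, ex⟩ := h.hdx.exists_prime h.hx
  obtain ⟨y', q, hq, hy, ey⟩ := h.hdy.exists_prime h.hy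
  have h' := ((h.of_eq (ne_one_of_prime hp hx) ex).symm.of_eq (ne_one_of_prime hq hy) ey).symm
  have h1 := h'.inf_eq_bot hG (ex ▸ ey ▸ v) (ey ▸ d1) (ex ▸ d2) hp hx hq hy
  have h2 := h'.card_inf
  have h3 := h'.gcd
  rw [h1, card_bot, ex] at h2 h3
  refine ⟨?_, ey ▸ h3, fun g hg => (v g hg).imp_left And.left, d1⟩
  rw [← h2, ← ey, mul_one, index_mul_card]

theorem caseB1 : Lst G := by
  have hs := h.sd hG v d1 d2
  rcases Nat.even_or_odd (co y) with hb | hb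
  swap
  · exact (hs.false_of_odd hG h.hx rfl hb h.hy rfl).elim
  have h2 : ¬ 2 ∣ co x := hs.not_dvd Nat.prime_two hb.two_dvd
  have mn : ∀ u : G, co u = d → Mn u := fun u hu g hg h1 => by
    rcases v g hg with e | e | e
    · exact (e.2 ((hu ▸ h1 :).trans d1)).elim
    · exact Nat.dvd_antisymm h1 (e ▸ hu ▸ d1)
    · exact e.trans hu.symm
  by_cases hb : ∀ t : G, ¬ Bad t
  · exact lst_of_not_bad hG hb
  push Not at hb
  obtain ⟨t, ht⟩ := hb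
  have ty : ∀ t : G, Bad t → co t = co y ∧ Noc t := fun t ht => by
    have h1 := (hs.ty (H4.ne_one_of_orderOf_two ht.1)
      (cop_pe Nat.prime_two h2 (pe_of_orderOf ht.1))).resolve_right fun e => ht.not_mn (mn t e)
    exact ⟨h1, ht.noc (hs.u1 h1) fun w hw hle => hs.cen_eq h1 hw
      (mem_cent1.mpr (mem_cent1.mp (hle (mem_cent1.mpr rfl))).symm) hle⟩
  refine ht.lst hG (hs.u1 (ty t ht).1) (ty t ht).2 fun u hu hu1 => ?_
  refine (hs.ty hu1 (cop_pe Nat.prime_two h2 hu)).elim h.hdy.of_eq fun e => ?_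
  obtain ⟨S, hS, -, h3⟩ := (mn u e).exists_sylow hu hu1
  obtain ⟨g, hg⟩ := exists_conj_le (t := t) Nat.prime_two hS (hs.idx (ty t ht).1 ▸ h2)
  have ht' := ht.conj g
  obtain ⟨k, hk⟩ := ht'.ratio (hs.u1 (ty _ ht').1) (ty _ ht').2
  exact (ht'.not_le hu hu1 (mn u e) (h3 _ hg (pe_of_orderOf ht'.1)) (e ▸ hk)).elim

end B1

theorem not_iso : ∃ g : G, g ≠ 1 ∧ ¬ co g ∣ co x ∧ co g ≠ co y := by
  by_contra h1
  push Not at h1
  obtain ⟨B, hB, -, h2, -, h3⟩ := iso_sc hG h.hx fun g hg => or_iff_not_imp_left.mpr (h1 g hg)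
  exact hB.not_reg hG h.hx (h3.trans h2.symm)

theorem lst (h5 : {c | ∃ x : G, x ≠ 1 ∧ c = co x}.ncard = 5) : Lst G := by
  obtain ⟨u, hu, d2, d3⟩ := h.not_iso hG
  obtain ⟨w, hw, c2, c3⟩ := h.symm.not_iso hG
  have d1 := (h.dvd u hu).resolve_left d2
  have c1 := (h.dvd w hw).resolve_right c2
  have h1 : ({co x, co y, co w, co u} : Set ℕ) ⊆ {c | ∃ x : G, x ≠ 1 ∧ c = co x} := by
    rintro _ (rfl | rfl | rfl | rfl)
    exacts [⟨x, h.hx, rfl⟩, ⟨y, h.hy, rfl⟩, ⟨w, hw, rfl⟩, ⟨u, hu, rfl⟩]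
  have h2 := Set.ncard_sdiff h1
  rw [h5, Set.ncard_eq_four.mpr ⟨_, _, _, _, h.ne, c3.symm, fun e => d2 e.symm.dvd,
    fun e => c2 e.symm.dvd, d3.symm, fun e => c2 (e ▸ d1), rfl⟩] at h2
  obtain ⟨e, he⟩ := Set.ncard_eq_one.mp h2
  obtain ⟨⟨z, hz, rfl⟩, -⟩ := he.ge rfl
  have v : ∀ g : G, g ≠ 1 → co g = co x ∨ co g = co y ∨ co g = co w ∨ co g = co u ∨ co g = co z :=
    fun g hg => by
      by_contra h3
      exact h3 (.inr (.inr (.inr (.inr (he.le ⟨⟨g, hg, rfl⟩, fun h4 => h3 (by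
        rcases h4 with e | e | e | e <;> tauto)⟩)))))
  by_cases e1 : co z ∣ co x <;> by_cases e2 : co z ∣ co y
  · exact (h.caseB2 hG v c1 c2 d1 d2 e1 e2 fun e =>
      hz (orderOf_eq_one_iff.mp (Nat.dvd_one.mp (e ▸ orderOf_dvd_co z)))).elim
  · refine h.caseB1 hG (fun g hg => ?_) d1 d2
    rcases v g hg with e | e | e | e | e
    exacts [.inl ⟨e.dvd, e ▸ h.not_dvd⟩, .inr (.inl e), .inl (e ▸ ⟨c1, c2⟩), .inr (.inr e),
      .inl (e ▸ ⟨e1, e2⟩)]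
  · refine h.symm.caseB1 hG (fun g hg => ?_) c1 c2
    rcases v g hg with e | e | e | e | e
    exacts [.inr (.inl e), .inl ⟨e.dvd, e ▸ h.symm.not_dvd⟩, .inr (.inr e), .inl (e ▸ ⟨d1, d2⟩),
      .inl (e ▸ ⟨e2, e1⟩)]
  · exact ((h.dvd z hz).elim e1 e2).elim

end TH

theorem lst_of_five [IsSimpleGroup G] (hG : ¬ IsMulCommutative G)
    (h5 : {c | ∃ x : G, x ≠ 1 ∧ c = co x}.ncard = 5)
    (h3 : {c | ∃ x : G, (x ≠ 1 ∧ Hd x) ∧ c = co x}.ncard ≠ 3) : Lst G := by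
  obtain ⟨x, y, hx, hh, hy, hh', hne⟩ := exists_two_hd hG
  have hf := Set.finite_of_ncard_ne_zero (h5.trans_ne (by norm_num))
  have h1 : {c | ∃ x : G, (x ≠ 1 ∧ Hd x) ∧ c = co x} ⊆ {c | ∃ x : G, x ≠ 1 ∧ c = co x} :=
    fun _ ⟨x, h, e⟩ => ⟨x, h.1, e⟩
  have h2 : {co x, co y} ⊆ {c | ∃ x : G, (x ≠ 1 ∧ Hd x) ∧ c = co x} := by
    rintro _ (rfl | rfl)
    exacts [⟨x, ⟨hx, hh⟩, rfl⟩, ⟨y, ⟨hy, hh'⟩, rfl⟩]
  by_cases h4 : {c | ∃ x : G, (x ≠ 1 ∧ Hd x) ∧ c = co x}.ncard ≤ 2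
  · have h6 := Set.eq_of_subset_of_ncard_le h2 (Set.ncard_pair hne ▸ h4) (hf.subset h1)
    refine TH.lst ⟨hx, hy, hh, hh', hne, fun g hg => ?_⟩ hG h5
    obtain ⟨w, hw, h7, h8⟩ := exists_hd hg
    rcases h6.ge ⟨w, ⟨hw, h7⟩, rfl⟩ with e | e
    exacts [.inl (h8.trans e.dvd), .inr (h8.trans (Eq.dvd e))]
  · have h6 := Set.ncard_sdiff h1 (hf.subset h1)
    obtain ⟨d, hd⟩ := (Set.ncard_le_one_iff_subset_singleton (hf.subset Set.sdiff_subset)).mp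
      (h6.trans_le (by omega))
    refine lst_of_one hG (d := d) fun g hg => or_iff_not_imp_left.mpr fun h7 => hd ⟨⟨g, hg, rfl⟩, ?_⟩
    rintro ⟨w, h8, e⟩
    exact h7 (h8.2.of_eq e)

end Cfsg.Agent.H7.CA
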