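import Cfsg.Agent.H7.It3
import Cfsg.Agent.S3214
import Cfsg.Agent.WA.WF1
import Cfsg.Agent.WA.W14

set_option autoImplicit false

/-! Simple groups with few centralizer orders: the centralizers of involutions. -/

namespace Cfsg.Agent.H7.CA

open Subgroup H8

variable {G : Type*} [Group G] [Finite G]

/-- the centralizer order of `x` is maximal for divisibility -/
def Hd (x : G) : Prop := ∀ y : G, y ≠ 1 → co x ∣ co y → co y = co x

/-- the centralizer order of `x` is minimal for divisibility -/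
def Mn (x : G) : Prop := ∀ y : G, y ≠ 1 → co y ∣ co x → co y = co x

/-- `d` is the only centralizer order properly dividing that of `x` -/
def U1 (x : G) (d : ℕ) : Prop := ∀ y : G, y ≠ 1 → co y ∣ co x → co y = co x ∨ co y = d

def Bad (t : G) : Prop := orderOf t = 2 ∧ ¬ HasNormalPComplement 2 (centralizer ({t} : Set G))

/-- no element of odd prime order is central in `C(t)` -/
def Noc (t : G) : Prop := ∀ q : ℕ, q.Prime → q ≠ 2 → ∀ w : G, orderOf w = q →
  ¬ centralizer ({t} : Set G) ≤ centralizer {w}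

def Lst (G : Type*) [Group G] : Prop :=
  (∃ (F : Type) (_ : Field F) (_ : Fintype F), 3 < Fintype.card F ∧
      Nonempty (G ≃* Matrix.ProjectiveSpecialLinearGroup (Fin 2) F)) ∨
    Nonempty (G ≃* ↥(alternatingGroup (Fin 7))) ∨
    (Cfsg.Lie.IsoSuzuki G ∧ ∃ X : BS.Suz G, Nat.card X.Q = X.q ^ 2) ∨
    (Nonempty (G ≃* Matrix.ProjectiveSpecialLinearGroup (Fin 3) H1.F4) ∧ H2.CI.CIT G ∧ ¬ WA.W.AB G)

omit [Finite G] in
theorem co_conj (g x : G) : co (g * x * g⁻¹) = co x :=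
  (H6.card_centralizer_eq_of_isConj (isConj_iff.mpr ⟨g, rfl⟩)).symm

omit [Finite G] in
theorem PE.coe {p : ℕ} {H : Subgroup G} {x : H} : PE p (x : G) ↔ PE p x :=
  exists_congr fun k => by rw [← coe_pow, OneMemClass.coe_eq_one]

omit [Finite G] in
theorem ne_one_of_prime {q : ℕ} (hq : q.Prime) {w : G} (hw : orderOf w = q) : w ≠ 1 :=
  fun h => hq.one_lt.ne' (by rw [← hw, h, orderOf_one])

theorem Hd.eq {x y : G} (h : Hd x) (hy : y ≠ 1) (hle : centralizer ({x} : Set G) ≤ centralizer {y}) :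
    centralizer ({y} : Set G) = centralizer {x} :=
  (eq_of_le_of_card_ge hle (h y hy (card_dvd_of_le hle)).le).symm

theorem le_of_co_mul {x y : G} (hc : x * y = y * x) (hco : (orderOf x).Coprime (orderOf y))
    (h : co (x * y) = co x) : centralizer ({x} : Set G) ≤ centralizer {y} := by
  have h1 := cen_mul hc hco
  rw [← eq_of_le_of_card_ge (h1 ▸ inf_le_left : centralizer ({x * y} : Set G) ≤ centralizer {x})
    h.ge, h1]
  exact inf_le_right

omit [Finite G] in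
theorem co_mul_dvd {x y : G} (hc : x * y = y * x) (hco : (orderOf x).Coprime (orderOf y)) :
    co (x * y) ∣ co x ∧ co (x * y) ∣ co y :=
  ⟨card_dvd_of_le (cen_mul hc hco ▸ inf_le_left), card_dvd_of_le (cen_mul hc hco ▸ inf_le_right)⟩

theorem Mn.le {x y : G} (h : Mn x) (hx : x ≠ 1) (hc : y ∈ centralizer ({x} : Set G))
    (hco : (orderOf x).Coprime (orderOf y)) : centralizer ({x} : Set G) ≤ centralizer {y} :=
  have hc' := (mem_cen.mp hc).symm
  le_of_co_mul hc' hco (h _ (mul_ne_one_of_coprime hc' hco hx) (co_mul_dvd hc' hco).1)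

theorem U1.card {t w x : G} {d : ℕ} (h : U1 t d) (hw : w ≠ 1)
    (e : centralizer ({w} : Set G) = centralizer {t}) (hx : x ∈ centralizer ({t} : Set G))
    (hco : (orderOf w).Coprime (orderOf x)) (hn : ¬ centralizer ({t} : Set G) ≤ centralizer {x}) :
    Nat.card ↥(centralizer ({x} : Set G) ⊓ centralizer {t}) = d := by
  have hc := (mem_cen.mp (e ▸ hx)).symm
  have e' : co w = co t := by rw [co, e]
  rcases h _ (mul_ne_one_of_coprime hc hco hw) (e' ▸ (co_mul_dvd hc hco).1) with h1 | h1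
  · exact (hn (e ▸ le_of_co_mul hc hco (h1.trans e'.symm))).elim
  · rw [← h1, co, cen_mul hc hco, e, inf_comm]

theorem U1.cm {t w : G} {d q : ℕ} (h : U1 t d) (ht : orderOf t = 2) (hq : q.Prime) (hq2 : q ≠ 2)
    (hw : orderOf w = q) (e : centralizer ({w} : Set G) = centralizer {t}) :
    Cm (centralizer ({t} : Set G)) := by
  refine cm_of_two (d := d) Nat.prime_two hq hq2.symm fun x hx hco => ?_
  have hn : ¬ centralizer ({t} : Set G) ≤ centralizer {(x : G)} := fun h1 =>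
    hx (mem_center_iff.mpr fun g => Subtype.ext (mem_cen.mp (h1 g.2)))
  rw [co, centralizer_singleton_subgroupOf, ← inf_subgroupOf_right,
    L0.card_subgroupOf_of_le inf_le_right]
  rw [← orderOf_coe] at hco
  exact hco.elim (fun h1 => h.card (H4.ne_one_of_orderOf_two ht) rfl x.2 (ht ▸ h1.symm) hn)
    fun h1 => h.card (ne_one_of_prime hq hw) e x.2 (hw ▸ h1.symm) hn

theorem Noc.not_le {t y : G} (hn : Noc t) {q : ℕ} (hq : q.Prime) (hq2 : q ≠ 2) (hy : PE q y)
    (hy1 : y ≠ 1) : ¬ centralizer ({t} : Set G) ≤ centralizer {y} := fun h => by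
  obtain ⟨w, hw, h1, -⟩ := exists_mem_orderOf (K := zpowers y) hq
    (Nat.card_zpowers y ▸ hy.dvd hq hy1)
  exact hn q hq hq2 w h1 (h.trans (cen_le_of_mem_zpowers hw))

theorem U1.noc {t y : G} {d : ℕ} (h : U1 t d) (ht : orderOf t = 2) (hn : Noc t) {q : ℕ}
    (hq : q.Prime) (hq2 : q ≠ 2) (hy : PE q y) (hy1 : y ≠ 1) (hc : y ∈ centralizer ({t} : Set G)) :
    ∃ k, (centralizer ({y} : Set G)).relIndex (centralizer {t}) = 2 ^ (k + 1) ∧
      co t = 2 ^ (k + 1) * d := by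
  have h1 : ∀ (q : ℕ) (y : G), q.Prime → q ≠ 2 → PE q y → y ≠ 1 → y ∈ centralizer ({t} : Set G) →
      (centralizer ({y} : Set G)).relIndex (centralizer {t}) * d = co t := by
    intro q y hq hq2 hy hy1 hc
    rw [← h.card (H4.ne_one_of_orderOf_two ht) rfl hc (ht ▸ (hy.coprime_nat
      ((Nat.coprime_primes hq Nat.prime_two).mpr hq2)).symm) (hn.not_le hq hq2 hy hy1),
      ← inf_relIndex_right, L0.relIndex_mul_card_of_le inf_le_right]
  have h2 := h1 q y hq hq2 hy hy1 hc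
  have h3 := Nat.eq_prime_pow_of_unique_prime_dvd (p := 2)
    (n := (centralizer ({y} : Set G)).relIndex (centralizer {t})) index_ne_zero_of_finite
    fun {s} hs hd => by
      by_contra hs2
      obtain ⟨w, hw, h4⟩ := H6.exists_central_in_sylow (G := centralizer ({t} : Set G)) hs
        (hd.trans (relIndex_dvd_card _ _))
      rw [centralizer_singleton_subgroupOf] at h4
      rw [← orderOf_coe] at hw
      have h5 := (h1 s w hs hs2 (pe_of_orderOf hw) (ne_one_of_prime hs hw) w.2).trans h2.symm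
      have h6 : 0 < d := Nat.pos_of_mul_pos_left (Nat.card_pos.trans_eq h2.symm)
      exact h4 (hd.trans (Nat.eq_of_mul_eq_mul_right h6 h5).symm.dvd)
  generalize List.length _ = k at h3
  rcases k with _ | k
  · exact (hn.not_le hq hq2 hy hy1 (relIndex_eq_one.mp h3)).elim
  · exact ⟨k, h3, by rw [← h2, h3]⟩

theorem Bad.noc {t : G} {d : ℕ} (hb : Bad t) (h : U1 t d)
    (hh : ∀ w : G, w ≠ 1 → centralizer ({t} : Set G) ≤ centralizer {w} →
      centralizer ({w} : Set G) = centralizer {t}) : Noc t := fun _ hq hq2 w hw hle =>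
  hb.2 (nil_of_comm Nat.prime_two fun r hr hr2 =>
    h.cm hb.1 hq hq2 hw (hh w (ne_one_of_prime hq hw) hle) 2 r Nat.prime_two hr hr2.symm)

theorem Bad.ratio {t : G} {d : ℕ} (hb : Bad t) (h : U1 t d) (hn : Noc t) :
    ∃ k, co t = 2 ^ (k + 1) * d := by
  by_contra h1
  refine hb.2 (nil_of_comm Nat.prime_two fun q hq hq2 x y _ hy => ?_)
  by_cases hy1 : (y : G) = 1
  · rw [OneMemClass.coe_eq_one.mp hy1, one_mul, mul_one]
  · exact (h1 ((h.noc hb.1 hn hq hq2 (PE.coe.mpr hy) hy1 y.2).imp fun _ h => h.2)).elim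

theorem pow_ratio {z u : G} (hz : orderOf z = 2) (hh : Hd z) (h : U1 z (co u)) (hu : PE 2 u)
    (hle : centralizer ({u} : Set G) ≤ centralizer {z}) : ∃ k, co z = 2 ^ k * co u := by
  by_contra h1
  obtain ⟨k, hk⟩ := index_pow_of_pe (p := 2) (H := centralizer ({u} : Set G))
    (L := centralizer ({z} : Set G)) fun q hq hq2 y hy hye => by
      by_cases hn : Noc z
      · by_contra h2
        obtain ⟨k, -, hk⟩ := h.noc hz hn hq hq2 hye (fun e => h2 (e ▸ one_mem _)) hy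
        exact h1 ⟨_, hk⟩
      · simp only [Noc, not_forall, not_not] at hn
        obtain ⟨r, hr, hr2, w, hw, h2⟩ := hn
        exact mem_cen.mpr (congrArg Subtype.val (h.cm hz hr hr2 hw
          (hh.eq (ne_one_of_prime hr hw) h2) 2 q Nat.prime_two hq hq2.symm
          ⟨u, hle (mem_cen.mpr rfl)⟩ ⟨y, hy⟩ (PE.coe.mp hu) (PE.coe.mp hye)))
  exact h1 ⟨k, by rw [← hk, L0.relIndex_mul_card_of_le hle]⟩

theorem Bad.conj {t : G} (hb : Bad t) (g : G) : Bad (g * t * g⁻¹) := by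
  have := Fact.mk Nat.prime_two
  refine ⟨by rw [orderOf_conj', hb.1], fun h => hb.2 ?_⟩
  rw [← cj_centralizer_singleton] at h
  exact H6.HasNormalPComplement.of_equiv h
    (equivMapOfInjective _ _ (MulAut.conj g).injective).symm

theorem Bad.not_le {t u : G} (hb : Bad t) (hu : PE 2 u) (hu1 : u ≠ 1) (hm : Mn u)
    (hle : centralizer ({u} : Set G) ≤ centralizer {t}) {k : ℕ} (hk : co t = 2 ^ k * co u) :
    False := by
  refine hb.2 (nil_of_min (k := k) (u := ⟨u, hle (mem_cen.mpr rfl)⟩) Nat.prime_two (PE.coe.mp hu) ?_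
    fun q hq hq2 y hy hye => ?_)
  · rw [centralizer_singleton_subgroupOf]
    exact Nat.eq_of_mul_eq_mul_right Nat.card_pos ((L0.relIndex_mul_card_of_le hle).trans hk)
  · rw [centralizer_singleton_subgroupOf] at hy ⊢
    rw [centralizer_singleton_subgroupOf]
    exact comap_mono (hm.le hu1 hy (hu.coprime Nat.prime_two hq hq2.symm (PE.coe.mpr hye)))

theorem Bad.not_mn {t : G} (hb : Bad t) : ¬ Mn t := fun h =>
  hb.not_le (k := 0) (pe_of_orderOf hb.1) (H4.ne_one_of_orderOf_two hb.1) h le_rfl (by simp)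

theorem Mn.exists_sylow {u : G} (hm : Mn u) (hu : PE 2 u) (hu1 : u ≠ 1) :
    ∃ S, IsSylowIn 2 S ⊤ ∧ u ∈ S ∧ ∀ z, S ≤ centralizer ({z} : Set G) → PE 2 z →
      centralizer ({u} : Set G) ≤ centralizer {z} := by
  obtain ⟨U, hU, h1⟩ := exists_isSylowIn_ge hu.pgroup (zpowers_le.mpr (mem_cen.mpr rfl))
  obtain ⟨S, hS, h2⟩ := exists_isSylowIn_ge (K := ⊤) hU.pgroup le_top
  have h3 := h2 (h1 (mem_zpowers u))
  refine ⟨S, hS, h3, fun z hz _ => le_of_forall_isSylowIn_le fun p hp _ => ?_⟩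
  by_cases hp2 : p = 2
  · exact ⟨U, hp2 ▸ hU, h2.trans hz⟩
  obtain ⟨R, hR⟩ := exists_isSylowIn p (centralizer ({u} : Set G))
  exact ⟨R, hR, fun y hy => mem_cen.mpr (mem_cen.mp (hm.le hu1 (hR.le hy) (hu.coprime Nat.prime_two
    hp (Ne.symm hp2) (pe_of_mem hR.pgroup hy)) (mem_cen.mpr (mem_cen.mp (hz h3)).symm))).symm⟩

theorem exists_conj_le {p : ℕ} (hp : p.Prime) {t : G} {S : Subgroup G} (hS : IsSylowIn p S ⊤)
    (h : ¬ p ∣ (centralizer ({t} : Set G)).index) :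
    ∃ g, S ≤ centralizer ({g * t * g⁻¹} : Set G) := by
  have := Fact.mk hp
  obtain ⟨T, hT⟩ := exists_isSylowIn p (centralizer ({t} : Set G))
  obtain ⟨g, -, e⟩ := (IsSylowIn.of_not_dvd_relIndex le_top hT.pgroup (by
    rw [relIndex_top_right, ← relIndex_mul_index hT.le, hp.dvd_mul, not_or]
    exact ⟨hT.not_dvd_relIndex, h⟩)).exists_cj_eq hS
  exact ⟨g, e ▸ cj_centralizer_singleton g t ▸ cj_mono g hT.le⟩

theorem exists_central {p : ℕ} (hp : p.Prime) {S : Subgroup G} (hS : IsSylowIn p S ⊤) (h : S ≠ ⊥) :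
    ∃ z ∈ S, orderOf z = p ∧ S ≤ centralizer ({z} : Set G) ∧
      ¬ p ∣ (centralizer ({z} : Set G)).index := by
  have := Fact.mk hp
  obtain ⟨z, h1, h2, h3, -⟩ :=
    H5.exists_mem_centralizer_of_isPGroup hS.pgroup hS.pgroup le_normalizer h
  have h4 : S ≤ centralizer ({z} : Set G) := fun r hr => mem_cen.mpr (h3 r hr)
  exact ⟨z, h1, h2, h4, fun h5 => hS.not_dvd_relIndex
    (relIndex_top_right S ▸ h5.trans (index_dvd_of_le h4))⟩

theorem dvd_index_of_co {x y : G} {k : ℕ} (h : co x = k * co y) :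
    k ∣ (centralizer ({y} : Set G)).index := by
  have h1 := card_subgroup_dvd_card (centralizer ({x} : Set G))
  rw [← (centralizer ({y} : Set G)).index_mul_card] at h1
  exact Nat.dvd_of_mul_dvd_mul_right Nat.card_pos (h.symm.dvd.trans h1)

theorem ab_of_heads (h : ∀ x : G, PE 2 x → x ≠ 1 → Hd x) : WA.W.AB G := by
  intro P hP
  obtain ⟨S, hS, hPS⟩ := exists_isSylowIn_ge (K := ⊤) hP le_top
  suffices h2 : ∀ s ∈ S, S ≤ centralizer {s} from fun x hx y hy => mem_cen.mp (h2 y (hPS hy) (hPS hx))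
  by_contra h2
  push Not at h2
  obtain ⟨s, hs, hn⟩ := h2
  obtain ⟨z, hzS, hz, hSz, -⟩ := exists_central Nat.prime_two hS fun e =>
    hn (e ▸ bot_le)
  have hz2 := H4.mul_self_of_orderOf_two hz
  have h1 : ∀ s ∈ S, ¬ S ≤ centralizer {s} → s * s = 1 := by
    intro s hs hn
    by_contra h2
    have hs1 : s ≠ 1 := by rintro rfl; exact h2 (mul_one 1)
    have hsz := mem_cen.mp (hSz hs)
    have e : s * z * (s * z) = s * s := by
      rw [mul_assoc, ← mul_assoc z, ← hsz, mul_assoc, hz2, mul_one]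
    have hsz1 : s * z ≠ 1 := fun h => h2 (by rw [← e, h, mul_one])
    have hh := h s (pe_of_mem hS.pgroup hs) hs1
    have h3 := hh.eq h2 (cen_le_of_mem_zpowers (mul_mem (mem_zpowers s) (mem_zpowers s)))
    have h4 := (h _ (pe_of_mem hS.pgroup (mul_mem hs hzS)) hsz1).eq h2
      (cen_le_of_mem_zpowers (e ▸ mul_mem (mem_zpowers _) (mem_zpowers _)))
    refine hn (hSz.trans (hh.eq (H4.ne_one_of_orderOf_two hz) fun g hg => mem_cen.mpr ?_).le)
    have h5 := mem_cen.mp hg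
    have h6 := mem_cen.mp (h4.le (h3.ge hg))
    apply mul_left_cancel (a := s)
    rw [← mul_assoc, ← h5, mul_assoc, h6, mul_assoc]
  refine hn fun g hg => mem_cen.mpr (H6.comm_of_mul_self (fun w hw => ?_) g hg s hs)
  by_cases hw' : S ≤ centralizer {w}
  · have h3 := h1 (s * w) (mul_mem hs hw) fun h => hn fun a ha => mem_cen.mpr (by
      apply mul_right_cancel (b := w)
      rw [mul_assoc, mem_cen.mp (h ha), mul_assoc, mul_assoc, mem_cen.mp (hw' ha)])
    rwa [mul_assoc, ← mul_assoc w, ← mem_cen.mp (hw' hs), mul_assoc, ← mul_assoc, h1 s hs hn,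
      one_mul] at h3
  · exact h1 w hw hw'

variable [IsSimpleGroup G] (hG : ¬ IsMulCommutative G)
include hG

open BS in
theorem lst_of_ab (hab : WA.W.AB G) {t : G} (ht : orderOf t = 2)
    (h : ∀ q : ℕ, q.Prime → q ≠ 2 → ∀ y ∈ centralizer ({t} : Set G), orderOf y = q →
      ∃ k, (centralizer ({y} : Set G)).relIndex (centralizer {t}) = 2 ^ k) : Lst G := by
  have := Fact.mk Nat.prime_two
  have hi : Invo t := ⟨H4.mul_self_of_orderOf_two ht, H4.ne_one_of_orderOf_two ht⟩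
  rcases WA.W.walter hG hab with ⟨M, hM⟩ | h1 | h1
  · obtain ⟨X, -, -⟩ := bender_suz hM (four_of_simple hG hi).not_pRankLE
      (BS.pPrimeCore_eq_bot_of_simple hi)
    have h := X.rk1 X.core_eq_bot
    have e : Rec.gen X.Q X.t ≃* G := (MulEquiv.subgroupCongr
      (((Rec.gen_normal h).eq_bot_or_eq_top).resolve_left fun e =>
        X.tH ((mem_bot.1 (e ▸ Rec.Rk1.t_mem (Q := X.Q)) : X.t = 1) ▸ one_mem _))).trans topEquiv
    obtain ⟨-, -, F, _, _, h1, h2, ⟨f⟩⟩ := Rec.rec_L2 h (X.struct.ab (hab _ X.struct.two))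
    exact Or.inl ⟨F, _, _, X.four_le_q.trans h2.ge, ⟨e.symm.trans f⟩⟩
  · rcases GW.gw_psl hG (WA.W.ds_of_card_le fun P hP => by
      obtain ⟨T, hT, h3⟩ := exists_isSylowIn_ge hP (le_top : P ≤ ⊤)
      exact h1 T hT ▸ card_le_of_le h3) with ⟨F, _, _, -, ⟨e⟩⟩ | h3
    · exact Or.inl ⟨F, _, _, H2.SC.three_lt_card_of_psl hG e, ⟨e⟩⟩
    · exact Or.inr (Or.inl (H3.A7.nonempty_equiv h3))
  · exfalso
    obtain ⟨-, -, K, hK, hs, -, hn, -⟩ := h1.cent t ht
    have hKc : ¬ IsMulCommutative K := fun hc => by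
      obtain ⟨h2, h3, -⟩ := quasisimple_iff.mp hK.2
      rw [(commutator_eq_bot_iff K).mpr hc] at h2
      exact bot_ne_top h2
    obtain ⟨q, hq, hq2, hd⟩ : ∃ q : ℕ, q.Prime ∧ q ≠ 2 ∧ q ∣ Nat.card K := by
      by_contra h2
      push Not at h2
      exact H6.not_isPGroup_of_simple hKc (IsPGroup.of_card (Nat.eq_prime_pow_of_unique_prime_dvd
        (p := 2) Nat.card_pos.ne' fun {q} hq hd => by_contra fun h3 => h2 q hq h3 hd))
    obtain ⟨y, hyK, hy, hy1⟩ := exists_mem_orderOf hq hd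
    obtain ⟨k, hk⟩ := h q hq hq2 y (hK.1.1 hyK) hy
    obtain ⟨r, hr, hr2, h2⟩ := exists_prime_ne hKc (g := ⟨y, hyK⟩)
      (fun e => hy1 (congrArg Subtype.val e)) Nat.prime_two
    rw [centralizer_singleton_subgroupOf] at h2
    have h3 : (centralizer ({y} : Set G)).relIndex K ∣ 2 ^ k := by
      rw [← hk, ← inf_relIndex_right _ (centralizer {t}), ← inf_relIndex_right _ K,
        ← inf_of_le_right hK.1.1, ← inf_assoc, inf_of_le_right hK.1.1, inf_relIndex_right,
        ← relIndex_sup_eq_relIndex (inf_le_right.trans hn)]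
      exact relIndex_dvd_relIndex_of_le_right le_sup_right (sup_le hK.1.1 inf_le_right)
    exact hr2 ((Nat.prime_dvd_prime_iff_eq hr Nat.prime_two).mp (hr.dvd_of_dvd_pow (h2.trans h3)))

open BS H2.CI H2.SC in
theorem lst_of_not_bad (hb : ∀ t : G, ¬ Bad t) : Lst G := by
  have := Fact.mk Nat.prime_two
  have hI : ∀ t : G, orderOf t = 2 → HasNormalPComplement 2 (Ce t) :=
    fun t ht => by_contra fun h1 => hb t ⟨ht, h1⟩
  obtain ⟨S, hS⟩ := exists_isSylowIn 2 (⊤ : Subgroup G)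
  obtain ⟨v, -, vv, v1⟩ := exists_inv hS.pgroup (sylow_ne_bot hG hS)
  by_cases hse : ∃ M : Subgroup G, IsStronglyEmbedded M
  · obtain ⟨M, hM⟩ := hse
    obtain ⟨X, -, -⟩ := bender_suz hM (four_of_simple hG (s := v) ⟨vv, v1⟩).not_pRankLE
      (BS.pPrimeCore_eq_bot_of_simple (s := v) ⟨vv, v1⟩)
    have h := X.rk1 X.core_eq_bot
    have h4 := X.four_le_q
    have hS := X.struct
    have e : Rec.gen X.Q X.t ≃* G := (MulEquiv.subgroupCongr
      (((Rec.gen_normal h).eq_bot_or_eq_top).resolve_left fun e =>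
        X.tH ((mem_bot.1 (e ▸ Rec.Rk1.t_mem (Q := X.Q)) : X.t = 1) ▸ one_mem _))).trans topEquiv
    rcases hS.cases with ⟨hr, hQ | ⟨hc, w, hw, x, hx, hne⟩⟩ | ⟨hr, hc, -⟩
    · obtain ⟨-, -, F, _, _, h1, h2, ⟨f⟩⟩ := Rec.rec_L2 h hQ
      exact Or.inl ⟨F, _, _, h4.trans h2.ge, ⟨e.symm.trans f⟩⟩
    · exfalso
      obtain ⟨h1, h2⟩ := X.mem_W.1 hw
      have hw' : w ∈ Ce X.s := mem_cen.2 (h2 _ X.s_mem_Z)
      have hQ : X.Q ≤ Ce X.s := fun y hy => mem_cen.2 (X.Z_comm X.s_mem_Z hy).symm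
      have := H6.HasNormalPComplement.mem_centralizer (hI X.s (H4.orderOf_eq_two_of X.ss X.s1))
        (pgroup_subgroupOf hS.two _) (g := ⟨w, hw'⟩)
        (H9.mem_normalizer_of_conj_mem fun y hy => X.conj_mem_Q (X.D_le h1) hy)
        (by rw [← orderOf_coe]; exact (Nat.coprime_two_right).2 (X.odd_orderOf h1))
      exact hne (congrArg Subtype.val (this ⟨x, hQ hx⟩ hx)).symm
    · obtain ⟨-, -, F, _, _, m, h1, h2, -, ⟨f⟩⟩ := Rec.rec_Sz h hS.two hc fun a => by
        have h5 := hS.ab fun x hx y hy =>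
          congrArg Subtype.val (a.is_comm.comm (⟨x, hx⟩ : X.Q) ⟨y, hy⟩)
        rw [h5] at hc
        change X.q = _ at hc
        nlinarith
      exact .inr (.inr (.inl ⟨⟨F, _, _, m, h1, h2, ⟨e.symm.trans f⟩⟩, X, hc⟩))
  by_cases h2 : PRankLE 2 2 G
  · have hcd : GW.CD S := by
      by_cases hn : ∀ t ∈ S, t * t = 1 → ∀ s ∈ S, s * t = t * s
      · exact cd_of_card_four ((WA.rank2 hG hS.toSylowTop hn h2).resolve_right hse)
      · exact cd_of_rank_two hG h2 hI hS hn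
    rcases GW.gw_psl hG (ds_of_cd hS hcd) with ⟨F, _, _, -, ⟨e⟩⟩ | h1
    · exact Or.inl ⟨F, inferInstance, inferInstance, three_lt_card_of_psl hG e, ⟨e⟩⟩
    · exact Or.inr (Or.inl (H3.A7.nonempty_equiv h1))
  have hC := cit_of_rank hG h2 hI
  by_cases hab : WA.W.AB G
  · refine lst_of_ab hG hab (H4.orderOf_eq_two_of vv v1) fun q hq hq2 y hy h => (hq2 ?_).elim
    obtain ⟨k, hk⟩ := pe_of_mem (hC v vv v1) hy
    exact (Nat.prime_dvd_prime_iff_eq hq Nat.prime_two).mp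
      (hq.dvd_of_dvd_pow (h ▸ orderOf_dvd_of_pow_eq_one hk))
  · exact .inr (.inr (.inr
      ⟨psl_of_cit hG hC (e8p hG h2) (not_exists.1 hse) hS (sylow_ne_bot hG hS), hC, hab⟩))

theorem Bad.lst {t : G} {d : ℕ} (hb : Bad t) (h : U1 t d) (hn : Noc t)
    (h2 : ∀ x : G, PE 2 x → x ≠ 1 → Hd x) : Lst G :=
  lst_of_ab hG (ab_of_heads h2) hb.1 fun _ hq hq2 _ hy hyq =>
    have ⟨_, hk, _⟩ := h.noc hb.1 hn hq hq2 (pe_of_orderOf hyq) (ne_one_of_prime hq hyq) hy
    ⟨_, hk⟩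

/-- at most one centralizer order is not maximal -/
theorem lst_of_one {d : ℕ} (h : ∀ y : G, y ≠ 1 → Hd y ∨ co y = d) : Lst G := by
  by_contra hL
  obtain ⟨t, hb⟩ : ∃ t : G, Bad t := by_contra fun h1 => hL (lst_of_not_bad hG (not_exists.mp h1))
  have hU : ∀ x : G, x ≠ 1 → U1 x d := fun x hx y hy hd =>
    (h y hy).imp_left fun h1 => (h1 x hx hd).symm
  have hM : ∀ x : G, x ≠ 1 → co x = d → Mn x := fun x hx e y hy hd =>
    (hU x hx y hy hd).elim id fun h1 => h1.trans e.symm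
  have ht1 := H4.ne_one_of_orderOf_two hb.1
  have hh : Hd t := (h t ht1).resolve_right fun e => hb.not_mn (hM t ht1 e)
  have hn := hb.noc (hU t ht1) fun _ => hh.eq
  obtain ⟨k, hk⟩ := hb.ratio (hU t ht1) hn
  obtain ⟨u, hu, hu1, hud⟩ : ∃ u : G, PE 2 u ∧ u ≠ 1 ∧ co u = d := by
    by_contra h1
    push Not at h1
    exact hL (hb.lst hG (hU t ht1) hn fun x hx hx1 => (h x hx1).resolve_right (h1 x hx hx1))
  subst hud
  obtain ⟨S, hS, huS, hc⟩ := (hM u hu1 rfl).exists_sylow hu hu1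
  obtain ⟨z, -, hz, hSz, hi⟩ := exists_central Nat.prime_two hS fun e => hu1 (mem_bot.mp (e ▸ huS))
  have hz1 := H4.ne_one_of_orderOf_two hz
  have hzh : Hd z := (h z hz1).resolve_right fun e =>
    hi ((dvd_pow_self 2 k.succ_ne_zero).trans (dvd_index_of_co (e ▸ hk)))
  obtain ⟨j, hj⟩ := pow_ratio hz hzh (hU z hz1) hu (hc z hSz (pe_of_orderOf hz))
  have e : co z = co t := (le_total j (k + 1)).elim
    (fun h1 => (hzh t ht1 (hj ▸ hk ▸ Nat.mul_dvd_mul_right (pow_dvd_pow 2 h1) _)).symm)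
    fun h1 => hh z hz1 (hj ▸ hk ▸ Nat.mul_dvd_mul_right (pow_dvd_pow 2 h1) _)
  obtain ⟨g, hg⟩ := exists_conj_le Nat.prime_two hS (index_eq_of_co e ▸ hi)
  exact (hb.conj g).not_le hu hu1 (hM u hu1 rfl) (hc _ hg (pe_of_orderOf (hb.conj g).1))
    ((co_conj g t).trans hk)

end Cfsg.Agent.H7.CA
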