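import Cfsg.Agent.H7.It4

set_option autoImplicit false

/-! Two maximal centralizer orders. -/

namespace Cfsg.Agent.H7.CA

open Subgroup H8

variable {G : Type*} [Group G] [Finite G]

omit [Finite G] in
theorem Hd.of_eq {x y : G} (h : Hd x) (e : co y = co x) : Hd y := fun z hz hd =>
  (h z hz (e ▸ hd)).trans e.symm

omit [Finite G] in
theorem orderOf_dvd_co (x : G) : orderOf x ∣ co x := Subgroup.orderOf_dvd_natCard _ (mem_cen.mpr rfl)

theorem exists_hd {x : G} (hx : x ≠ 1) : ∃ y : G, y ≠ 1 ∧ Hd y ∧ co x ∣ co y := by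
  obtain ⟨y, hy, h⟩ := Set.exists_max_image {y : G | y ≠ 1 ∧ co x ∣ co y} co (Set.toFinite _)
    ⟨x, hx, dvd_rfl⟩
  exact ⟨y, hy.1, fun z hz hd => le_antisymm (h z ⟨hz, hy.2.trans hd⟩)
    (Nat.le_of_dvd Nat.card_pos hd), hy.2⟩

theorem Hd.exists_prime {x : G} (h : Hd x) (hx : x ≠ 1) :
    ∃ (y : G) (r : ℕ), r.Prime ∧ orderOf y = r ∧ co y = co x := by
  obtain ⟨r, hr, hd⟩ := Nat.exists_prime_and_dvd (mt orderOf_eq_one_iff.mp hx)
  obtain ⟨y, hy, hyr, hy1⟩ := exists_mem_orderOf (K := zpowers x) hr (by rwa [Nat.card_zpowers])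
  exact ⟨y, r, hr, hyr, h y hy1 (card_dvd_of_le (cen_le_of_mem_zpowers hy))⟩

theorem cop_of_two {x y : G} (h : ∀ g : G, g ≠ 1 → co g ∣ co x ∨ co g ∣ co y) :
    (centralizer ({x} : Set G)).index.Coprime (centralizer ({y} : Set G)).index :=
  Nat.coprime_of_dvd fun p hp hd hd' => by
    obtain ⟨w, hw, hwi⟩ := H6.exists_central_in_sylow hp (hd.trans (index_dvd_card _))
    exact (h w (ne_one_of_prime hp hw)).elim (fun h1 => hwi (hd.trans (index_dvd_of_co h1)))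
      fun h1 => hwi (hd'.trans (index_dvd_of_co h1))

theorem two_dvd_index_of_inv {v k : G} (hv : v * v = 1) (h : v * k * v⁻¹ = k⁻¹) (hk : k * k ≠ 1) :
    2 ∣ (centralizer ({k} : Set G)).index := by
  by_contra hki
  have hvk : v ∉ centralizer ({k} : Set G) := fun h1 => by
    rw [mem_cen.mp h1, mul_inv_cancel_right] at h
    exact hk (mul_eq_one_iff_eq_inv.mpr h)
  have hvn : zpowers v ≤ normalizer ((centralizer ({k} : Set G) : Subgroup G) : Set G) := by
    rw [zpowers_le, ← cj_eq_self_iff, cj_centralizer_singleton, h]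
    ext y
    rw [mem_cen, mem_cen]
    exact ⟨fun h => (Commute.inv_right_iff.mp h), fun h => Commute.inv_right_iff.mpr h⟩
  refine hvk (L0.le_of_card_coprime_relIndex hvn normal_in_normalizer ?_ (mem_zpowers v))
  rw [Nat.card_zpowers, H4.orderOf_eq_two_of hv fun h => hvk (h ▸ one_mem _)]
  exact (Nat.Prime.coprime_iff_not_dvd Nat.prime_two).mpr
    fun h => hki (h.trans (relIndex_dvd_index_of_le le_normalizer))

theorem exists_odd_fix {s x : G} (hs : PE 2 s) (hx : ¬ 2 ∣ (centralizer ({x} : Set G)).index) :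
    ∃ g, g * x * g⁻¹ ∈ centralizer ({s} : Set G) ∧
      ¬ 2 ∣ (centralizer ({g * x * g⁻¹} : Set G)).relIndex (centralizer {s}) := by
  have := Fact.mk Nat.prime_two
  obtain ⟨T, hT, h1⟩ := exists_isSylowIn_ge hs.pgroup (zpowers_le.mpr (mem_cen.mpr rfl))
  obtain ⟨S, hS, h2⟩ := exists_isSylowIn_ge (K := ⊤) hT.pgroup le_top
  obtain ⟨g, hg⟩ := exists_conj_le Nat.prime_two hS hx
  exact ⟨g, mem_cen.mpr (mem_cen.mp (hg (h2 (h1 (mem_zpowers s))))).symm, fun h =>
    hT.not_dvd_relIndex (h.trans (relIndex_dvd_of_le_left _ (h2.trans hg)))⟩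

omit [Finite G] in
theorem relIndex_mul_co {x y : G} (hc : x * y = y * x) (hco : (orderOf x).Coprime (orderOf y)) :
    (centralizer ({y} : Set G)).relIndex (centralizer {x}) * co (x * y) = co x := by
  rw [co, cen_mul hc hco, inf_comm, ← inf_relIndex_right, L0.relIndex_mul_card_of_le inf_le_right]

variable [IsSimpleGroup G] (hG : ¬ IsMulCommutative G)
include hG

theorem isConj_of_odd (h : ∀ x : G, x ≠ 1 → 2 ∣ co x → ¬ 2 ∣ (centralizer ({x} : Set G)).index)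
    {s t : G} (hs : orderOf s = 2) (ht : orderOf t = 2) : IsConj t s := by
  have h1 : ∀ a b : G, orderOf a = 2 → orderOf b = 2 → a * b ≠ b * a → ¬ 2 ∣ co (a * b) := by
    intro a b ha hb hc h2
    have ha2 := H4.mul_self_of_orderOf_two ha
    have hb2 := H4.mul_self_of_orderOf_two hb
    have h3 : a * b * (a * b) ≠ 1 := fun e => hc (by
      rw [← inv_eq_of_mul_eq_one_left e, mul_inv_rev, H4.inv_eq_of_mul_self ha2,
        H4.inv_eq_of_mul_self hb2])
    exact h _ (fun e => h3 (by rw [e, mul_one])) h2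
      (two_dvd_index_of_inv ha2 (H4.left_conj_mul_eq_inv ha2 hb2) h3)
  have h2 : ∀ a b : G, orderOf a = 2 → orderOf b = 2 → a * b ≠ b * a → IsConj a b := by
    intro a b ha hb hc
    obtain ⟨d, -, hd⟩ := H4.exists_conj_of_odd_orderOf_mul (H4.mul_self_of_orderOf_two ha)
      (H4.mul_self_of_orderOf_two hb) (Nat.odd_iff.mpr (by
        have := mt (Dvd.dvd.trans · (orderOf_dvd_co _)) (h1 a b ha hb hc)
        omega))
    exact isConj_iff.mpr ⟨d, hd⟩
  by_cases hc : t * s = s * t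
  swap
  · exact h2 t s ht hs hc
  have ht1 := H4.ne_one_of_orderOf_two ht
  obtain ⟨g, hg⟩ : ∃ g, g * t * g⁻¹ ∉ centralizer ({t} : Set G) := by
    by_contra h
    push Not at h
    rcases (normalCore_normal (centralizer ({t} : Set G))).eq_bot_or_eq_top with h2 | h2
    · exact ht1 (mem_bot.mp (h2 ▸ (h : t ∈ normalCore _)))
    · exact H6.centralizer_ne_top_of_simple hG ht1 (eq_top_iff.mpr (h2 ▸ normalCore_le _))
  have hv : orderOf (g * t * g⁻¹) = 2 := by rw [orderOf_conj', ht]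
  refine (isConj_iff.mpr ⟨g, rfl⟩).trans (h2 _ s hv hs fun h3 => ?_)
  refine h1 _ t hv ht (mt mem_cen.mpr hg) (hs ▸ Subgroup.orderOf_dvd_natCard _ (mem_cen.mpr ?_))
  exact Commute.mul_right h3.symm hc.symm

theorem false_of_reg {B : Subgroup G} (hB : SC B) {w : G} (hw : w ≠ 1) (ho : Odd (orderOf w))
    (hi : (centralizer ({w} : Set G)).index = Nat.card B)
    (h : ∀ s : G, orderOf s = 2 → ∃ g, centralizer ({s} : Set G) ≤ centralizer {g * w * g⁻¹}) :
    False := by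
  have := Fact.mk Nat.prime_two
  obtain ⟨t, ht⟩ := exists_prime_orderOf_dvd_card' (G := G) 2 (two_dvd_card hG)
  have hti : BS.Invo t := ⟨H4.mul_self_of_orderOf_two ht, H4.ne_one_of_orderOf_two ht⟩
  have hM : IsStronglyEmbedded (centralizer ({w} : Set G)) := by
    refine ⟨H6.centralizer_ne_top_of_simple hG hw, ?_, fun g hg => ?_⟩
    · obtain ⟨g, hg⟩ := h t ht
      exact even_iff_two_dvd.mpr (co_conj g w ▸ ht ▸ Subgroup.orderOf_dvd_natCard _ (hg (mem_cen.mpr rfl)) :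
        2 ∣ co w)
    · by_contra h1
      obtain ⟨s, hs, hs2, -⟩ := exists_mem_orderOf Nat.prime_two
        (even_iff_two_dvd.mp (Nat.not_odd_iff_even.mp h1))
      obtain ⟨k, hk⟩ := h s hs2
      have h2 := eq_of_isConj_of_regular hG hB hw hi (isConj_iff.mpr ⟨k, rfl⟩)
        (mem_cen.mp (hk (mem_cen.mpr (mem_cen.mp hs.1).symm))).symm
      have h3 : s ∈ centralizer ({g * w * g⁻¹} : Set G) := cj_centralizer_singleton g w ▸ hs.2
      rw [h2] at hk
      exact hg (mem_cen.mpr (mul_inv_eq_iff_eq_mul.mp (eq_of_isConj_of_regular hG hB hw hi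
        (isConj_iff.mpr ⟨g, rfl⟩) (mem_cen.mp (hk (mem_cen.mpr (mem_cen.mp h3).symm))))))
  exact hw (zpowers_eq_bot.mp (BS.bs0 G _ (zpowers w) hM (BS.four_of_simple hG hti).not_pRankLE
    (BS.pPrimeCore_eq_bot_of_simple hti) (zpowers_le.mpr (mem_cen.mpr rfl))
    (centralizer_zpowers w ▸ centralizer_le_normalizer _) (Nat.card_zpowers w ▸ ho)))

theorem iso_sc {y₀ : G} (hy₀ : y₀ ≠ 1) {b : ℕ}
    (h : ∀ g : G, g ≠ 1 → co g ∣ co y₀ ∨ co g = b) :
    ∃ B : Subgroup G, SC B ∧ B ≠ ⊥ ∧ Nat.card B = b ∧ b.Coprime (co y₀) ∧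
      (centralizer ({y₀} : Set G)).index = b := by
  obtain ⟨p₀, hp₀, -, hp₀d⟩ := exists_prime_ne hG hy₀ Nat.prime_two
  obtain ⟨w₀, hw₀, hw₀i⟩ := H6.exists_central_in_sylow hp₀ (hp₀d.trans (index_dvd_card _))
  have hw₀1 := ne_one_of_prime hp₀ hw₀
  have hc3 : ∀ {p : ℕ} {w : G}, w ≠ 1 → p ∣ (centralizer ({y₀} : Set G)).index →
      ¬ p ∣ (centralizer ({w} : Set G)).index → co w = b := fun hw hd hi =>
    (h _ hw).resolve_left fun h1 => hi (hd.trans (index_dvd_of_co h1))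
  obtain rfl := hc3 hw₀1 hp₀d hw₀i
  have hcop := cop_of_two fun g hg => (h g hg).imp_right Eq.dvd
  have n32 : ¬ co w₀ ∣ co y₀ := fun h => hw₀i (hp₀d.trans (index_dvd_of_co h))
  have nc : ∀ y w : G, y ≠ 1 → w ≠ 1 → co y = co y₀ → co w = co w₀ → w * y ≠ y * w :=
    fun y w hy hw h1 h2 => not_comm_of_coprime hG hy hw
      (index_eq_of_co h1 ▸ index_eq_of_co h2 ▸ hcop)
  have hp2 : ∀ p, p.Prime → p ∣ (centralizer ({y₀} : Set G)).index → ¬ p ∣ co y₀ := by
    intro p hp hd h1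
    have := Fact.mk hp
    obtain ⟨P, hP⟩ := exists_isSylowIn p (centralizer ({y₀} : Set G))
    obtain ⟨u, huP, hu, hPu, -⟩ :=
      H5.exists_mem_centralizer_of_isPGroup hP.pgroup hP.pgroup le_normalizer (hP.ne_bot h1)
    obtain ⟨R, hR, hPR⟩ := exists_isSylowIn_ge (K := ⊤) hP.pgroup le_top
    obtain ⟨w, hwR, hw, hRw, hwi⟩ := exists_central hp hR fun e => hP.ne_bot h1 (eq_bot_mono hPR e)
    have hw1 := ne_one_of_prime hp hw
    have hu1 := ne_one_of_prime hp hu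
    refine (h u hu1).elim (fun h2 => ?_) fun h2 => nc y₀ u hy₀ hu1 rfl h2 (mem_cen.mp (hP.le huP))
    have h3 : P ≤ centralizer ({u} : Set G) := fun a ha => mem_cen.mpr (hPu a ha)
    obtain ⟨Q, hQ, h4⟩ := exists_isSylowIn_ge (K := centralizer ({u} : Set G))
      (hR.pgroup.to_le (sup_le hPR (zpowers_le.mpr hwR)))
      (sup_le h3 (zpowers_le.mpr (mem_cen.mpr (mem_cen.mp (hRw (hPR huP))).symm)))
    have h5 : P = Q := eq_of_le_of_card_ge (le_sup_left.trans h4) (by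
      rw [hQ.card_eq, hP.card_eq]
      exact Nat.pow_le_pow_right hp.pos
        ((Nat.factorization_le_iff_dvd Nat.card_pos.ne' Nat.card_pos.ne').mpr h2 p))
    exact nc y₀ w hy₀ hw1 rfl (hc3 hw1 hd hwi)
      (mem_cen.mp (hP.le (h5 ▸ h4 (mem_sup_right (mem_zpowers w)))))
  have t3 : ∀ p, p.Prime → p ∣ (centralizer ({y₀} : Set G)).index → ∀ g : G, g ≠ 1 → p ∣ co g →
      co g = co w₀ := fun p hp hd g hg h1 =>
    (h g hg).resolve_left fun h2 => hp2 p hp hd (h1.trans h2)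
  set B := centralizer ({w₀} : Set G) with hB
  have key : ∀ (p : ℕ) (w : G), p.Prime → p ∣ (centralizer ({y₀} : Set G)).index → orderOf w = p →
      centralizer ({w} : Set G) = B → ∀ v ∈ B, (orderOf v).Coprime p → B ≤ centralizer {v} := by
    intro p w hp hd hw hwB v hv hco
    have hw1 := ne_one_of_prime hp hw
    have hc : w * v = v * w := (mem_cen.mp (hwB ▸ hv)).symm
    have hco' : (orderOf w).Coprime (orderOf v) := hw ▸ hco.symm
    have h2 := cen_mul hc hco'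
    have h4 := t3 p hp hd _ (mul_ne_one_of_coprime hc hco' hw1)
      (hw ▸ orderOf_dvd_natCard _ (h2 ▸ (⟨mem_cen.mpr rfl, mem_cen.mpr hc⟩ :
        w ∈ centralizer ({w} : Set G) ⊓ centralizer ({v} : Set G))))
    have : centralizer ({w * v} : Set G) = B :=
      eq_of_le_of_card_ge (h2 ▸ hwB ▸ inf_le_left) h4.ge
    rw [← this, h2]; exact inf_le_right
  have keq : ∀ v, v ≠ 1 → B ≤ centralizer {v} → centralizer ({v} : Set G) = B := by
    intro v hv h
    exact (eq_of_le_of_card_ge h (t3 p₀ hp₀ hp₀d v hv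
      ((hw₀ ▸ orderOf_dvd_natCard B (mem_cen.mpr rfl)).trans (card_dvd_of_le h))).le).symm
  have hn2 : (centralizer ({y₀} : Set G)).index ∣ Nat.card B :=
    hcop.dvd_of_dvd_mul_left (B.index_mul_card ▸ index_dvd_card _)
  obtain ⟨p₁, hp₁, hp₁₀, hp₁d⟩ := exists_prime_ne hG hy₀ hp₀
  obtain ⟨w₁, hw₁B, hw₁, hw₁1⟩ := exists_mem_orderOf hp₁ (hp₁d.trans hn2)
  have hw₁' := keq w₁ hw₁1 (key p₀ w₀ hp₀ hp₀d hw₀ rfl w₁ hw₁B
    (hw₁ ▸ (Nat.coprime_primes hp₁ hp₀).mpr hp₁₀))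
  have hBc : B ≤ centralizer (B : Set G) := le_of_pe fun q hq v hv hve b hb => mem_cen.mp (by
    by_cases hqp : q = p₀
    · exact key p₁ w₁ hp₁ hp₁d hw₁ hw₁' v hv
        (hve.coprime_nat ((Nat.coprime_primes hq hp₁).mpr (hqp ▸ hp₁₀.symm))) hb
    · exact key p₀ w₀ hp₀ hp₀d hw₀ rfl v hv (hve.coprime_nat ((Nat.coprime_primes hq hp₀).mpr hqp)) hb)
  have hSC : SC B := fun v hv hv1 => keq v hv1 fun b hb => mem_cen.mpr (hBc hv b hb)
  have h1 : (Nat.card B).Coprime (co y₀) := hSC.coprime_cen hy₀ fun h => n32 (hSC.card_cen h).symm.dvd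
  refine ⟨B, hSC, fun e => hw₀1 (mem_bot.mp (e ▸ (mem_cen.mpr rfl : w₀ ∈ B))), rfl, h1,
    Nat.dvd_antisymm hn2 (h1.dvd_of_dvd_mul_right ?_)⟩
  rw [index_mul_card]; exact card_subgroup_dvd_card B

theorem not_inv_of_reg {B : Subgroup G} (hB : SC B) {z : G} (hz : orderOf z = 2) :
    (centralizer ({z} : Set G)).index ≠ Nat.card B := fun h4 =>
  have hz1 := H4.ne_one_of_orderOf_two hz
  (Isolated.of_commute (H4.mul_self_of_orderOf_two hz) fun g hc =>
    eq_of_isConj_of_regular hG hB hz1 h4 (isConj_iff.mpr ⟨g, rfl⟩) hc.symm).eq_one_or_comm.elim hz1 hG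

omit [IsSimpleGroup G] hG in
theorem Bad.odd {t : G} (hb : Bad t) {B : Subgroup G} (hB : SC B) : ¬ 2 ∣ Nat.card B := fun h => by
  obtain ⟨g, hg⟩ := (hB.in_of_dvd Nat.prime_two h (H4.ne_one_of_orderOf_two hb.1)
    (hb.1 ▸ orderOf_dvd_co t)).exists_cj
  have h1 := hB.cj g t hg (H4.ne_one_of_orderOf_two hb.1)
  exact hb.2 (nil_of_comm Nat.prime_two fun _ _ _ x y _ _ =>
    Subtype.ext ((hB.cj g).comm _ (h1 ▸ y.2) _ (h1 ▸ x.2)))

end Cfsg.Agent.H7.CA
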