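import Cfsg.Agent.H7.It5

set_option autoImplicit false

/-! Simple groups with four centralizer orders. -/

namespace Cfsg.Agent.H7.CA

open Subgroup H8

variable {G : Type*} [Group G] [Finite G] [IsSimpleGroup G] (hG : ¬ IsMulCommutative G)
include hG

theorem Bad.iso4 {t y₀ : G} (hb : Bad t) (hy₀ : y₀ ≠ 1) (hh : Hd y₀) {b d : ℕ}
    (h : ∀ g : G, g ≠ 1 → co g = co y₀ ∨ co g = b ∨ co g = co t ∨ co g = d)
    (h1 : co t ∣ co y₀) (h2 : d ∣ co y₀) : False := by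
  obtain ⟨B, hB, hB1, rfl, hco, hi⟩ := iso_sc hG hy₀ (b := b) fun g hg => by
    rcases h g hg with e | e | e | e
    exacts [.inl e.dvd, .inr e, .inl (e ▸ h1), .inl (e ▸ h2)]
  have hodd := hb.odd hB
  have na : ∀ s : G, orderOf s = 2 → co s ≠ co y₀ := fun s hs e =>
    not_inv_of_reg hG hB hs ((index_eq_of_co e).trans hi)
  have nb : ∀ g : G, co g ∣ co y₀ → co g ≠ Nat.card B := fun g hg e =>
    hB1 (card_eq_one.mp (Nat.eq_one_of_dvd_coprimes hco dvd_rfl (e ▸ hg)))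
  have inv : ∀ s : G, orderOf s = 2 → co s = co t ∨ co s = d := fun s hs =>
    ((h s (H4.ne_one_of_orderOf_two hs)).resolve_left (na s hs)).resolve_left fun e =>
      hodd (e ▸ hs ▸ orderOf_dvd_co s)
  have low : ∀ s g : G, orderOf s = 2 → g ≠ 1 → co g ∣ co s → co g = co t ∨ co g = d := by
    intro s g hs hg hd
    have h3 : co s ∣ co y₀ := (inv s hs).elim (· ▸ h1) (· ▸ h2)
    exact ((h g hg).resolve_left fun e => na s hs (Nat.dvd_antisymm h3 (e ▸ hd))).resolve_left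
      (nb g (hd.trans h3))
  have hU : U1 t d := fun g hg hd => low t g hb.1 hg hd
  obtain ⟨⟨m, hm⟩, hne⟩ : d ∣ co t ∧ d ≠ co t := by
    have h3 := hb.not_mn
    simp only [Mn, not_forall] at h3
    obtain ⟨g, hg, hd, h3⟩ := h3
    have h4 := (hU g hg hd).resolve_left h3
    exact ⟨h4 ▸ hd, h4 ▸ h3⟩
  have hd0 : 0 < d := Nat.pos_of_mul_pos_right (Nat.card_pos.trans_eq hm)
  by_cases h2m : 2 ∣ m
  · obtain ⟨y, r, hr, hy, e⟩ := hh.exists_prime hy₀
    have hr2 : r ≠ 2 := fun h3 => na y (hy.trans h3) e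
    have hi' := (index_eq_of_co e).trans hi
    refine false_of_reg hG hB (ne_one_of_prime hr hy) (hy ▸ hr.odd_of_ne_two hr2) hi' fun s hs => ?_
    obtain ⟨g, h3, h4⟩ := exists_odd_fix (pe_of_orderOf hs) (hi' ▸ hodd)
    have hc := (mem_cen.mp h3).symm
    have hco : (orderOf s).Coprime (orderOf (g * y * g⁻¹)) := by
      rw [orderOf_conj', hs, hy]; exact (Nat.coprime_primes Nat.prime_two hr).mpr hr2.symm
    refine ⟨g, le_of_co_mul hc hco ?_⟩
    have h5 := relIndex_mul_co hc hco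
    have h6 := (co_mul_dvd hc hco).1
    rcases low s _ hs (mul_ne_one_of_coprime hc hco (H4.ne_one_of_orderOf_two hs)) h6 with e1 | e1 <;>
      rcases inv s hs with e2 | e2
    · rw [e1, e2]
    · exact (hne (Nat.dvd_antisymm ⟨m, hm⟩ (e1 ▸ e2 ▸ h6))).elim
    · rw [e1, e2, hm, mul_comm] at h5
      exact (h4 (Nat.eq_of_mul_eq_mul_left hd0 h5 ▸ h2m)).elim
    · rw [e1, e2]
  have hn : ¬ Noc t := fun hn => by
    obtain ⟨k, hk⟩ := hb.ratio hU hn
    rw [hm, mul_comm] at hk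
    exact h2m (Nat.eq_of_mul_eq_mul_right hd0 hk ▸ dvd_pow_self 2 k.succ_ne_zero)
  simp only [Noc, not_forall, not_not] at hn
  obtain ⟨q, hq, hq2, w, hw, hle⟩ := hn
  have hw1 := ne_one_of_prime hq hw
  have hwa : co w = co y₀ := by
    have h3 := card_dvd_of_le hle
    rcases h w hw1 with e | e | e | e
    · exact e
    · exact (hodd ((hb.1 ▸ orderOf_dvd_co t).trans (e ▸ h3))).elim
    · exact (hb.2 (nil_of_comm Nat.prime_two fun r hr hr2 => hU.cm hb.1 hq hq2 hw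
        (eq_of_le_of_card_ge hle e.le).symm 2 r Nat.prime_two hr hr2.symm)).elim
    · exact (hne (Nat.dvd_antisymm ⟨m, hm⟩ (e ▸ h3))).elim
  have hit : ¬ 2 ∣ (centralizer ({t} : Set G)).index * m := by
    obtain ⟨z, hz, hzi⟩ := H6.exists_central_in_sylow Nat.prime_two (two_dvd_card hG)
    rcases inv z hz with e | e
    · exact fun h3 => (Nat.prime_two.dvd_mul.mp h3).elim (index_eq_of_co e ▸ hzi) h2m
    · have h3 := (centralizer ({z} : Set G)).index_mul_card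
      rw [← (centralizer ({t} : Set G)).index_mul_card] at h3
      change _ * co z = _ * co t at h3
      rw [e, hm, mul_comm d, ← mul_assoc] at h3
      exact Nat.eq_of_mul_eq_mul_right hd0 h3 ▸ hzi
  refine false_of_reg hG hB hw1 (hw ▸ hq.odd_of_ne_two hq2) ((index_eq_of_co hwa).trans hi)
    fun s hs => ?_
  suffices h3 : IsConj t s by
    obtain ⟨g, rfl⟩ := isConj_iff.mp h3
    exact ⟨g, cj_centralizer_singleton g t ▸ cj_centralizer_singleton g w ▸ cj_mono g hle⟩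
  refine isConj_of_odd hG (fun x hx h3 h4 => ?_) hs hb.1
  rcases h x hx with e | e | e | e
  · exact hodd (hi ▸ index_eq_of_co e ▸ h4)
  · exact hodd (e ▸ h3)
  · exact hit ((index_eq_of_co e ▸ h4).mul_right m)
  · have h3 := (centralizer ({x} : Set G)).index_mul_card
    rw [← (centralizer ({t} : Set G)).index_mul_card] at h3
    change _ * co x = _ * co t at h3
    rw [e, hm, mul_comm d, ← mul_assoc] at h3
    exact hit (Nat.eq_of_mul_eq_mul_right hd0 h3 ▸ h4)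

theorem lst_of_iso4 {y₀ : G} (hy₀ : y₀ ≠ 1) (hh : Hd y₀) {b c d : ℕ}
    (h : ∀ g : G, g ≠ 1 → co g = co y₀ ∨ co g = b ∨ co g = c ∨ co g = d)
    (h1 : c ∣ co y₀) (h2 : d ∣ co y₀) : Lst G := by
  refine lst_of_not_bad hG fun t hb => ?_
  obtain ⟨B, hB, -, rfl, -, hi⟩ := iso_sc hG hy₀ (b := b) fun g hg => by
    rcases h g hg with e | e | e | e
    exacts [.inl e.dvd, .inr e, .inl (e ▸ h1), .inl (e ▸ h2)]
  rcases h t (H4.ne_one_of_orderOf_two hb.1) with e | e | e | e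
  · exact not_inv_of_reg hG hB hb.1 ((index_eq_of_co e).trans hi)
  · exact hb.odd hB (e ▸ hb.1 ▸ orderOf_dvd_co t)
  · exact hb.iso4 hG hy₀ hh (e ▸ h) (e ▸ h1) h2
  · exact hb.iso4 hG hy₀ hh (b := Nat.card B) (fun g hg => by have := h g hg; omega) (e ▸ h2) h1

theorem Bad.s5 {t y : G} (hb : Bad t) (hh : Hd t) (hy : y ≠ 1) (hh' : Hd y) {c d : ℕ}
    (h : ∀ g : G, g ≠ 1 → co g = co t ∨ co g = co y ∨ co g = c ∨ co g = d) (hne : co t ≠ co y)
    (h1 : c ∣ co t) (h2 : ¬ c ∣ co y) (h3 : d ∣ co y) (h4 : ¬ d ∣ co t) : Lst G := by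
  have ht1 := H4.ne_one_of_orderOf_two hb.1
  have n1 : ¬ co t ∣ co y := fun e => hne (hh y hy e).symm
  have n2 : ¬ co y ∣ co t := fun e => hne (hh' t ht1 e)
  have hU : U1 t c := fun g hg hd => by
    rcases h g hg with e | e | e | e
    exacts [.inl e, (n2 (e ▸ hd)).elim, .inr e, (h4 (e ▸ hd)).elim]
  have hn := hb.noc hU fun _ => hh.eq
  obtain ⟨k, hk⟩ := hb.ratio hU hn
  have hic : ∀ g : G, co g = c → 2 ∣ (centralizer ({g} : Set G)).index := fun g e =>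
    (dvd_pow_self 2 k.succ_ne_zero).trans (dvd_index_of_co (e ▸ hk))
  by_contra hL
  obtain ⟨u, hu, hu1, hu2⟩ : ∃ u : G, PE 2 u ∧ u ≠ 1 ∧ ¬ Hd u := by
    by_contra h5
    push Not at h5
    exact hL (hb.lst hG hU hn h5)
  have hcop := cop_of_two (x := t) (y := y) fun g hg => by
    rcases h g hg with e | e | e | e
    exacts [.inl e.dvd, .inr e.dvd, .inl (e ▸ h1), .inr (e ▸ h3)]
  have md : ∀ g : G, co g = d → ¬ Hd g → Mn g := fun g e hg x hx hd => by
    rcases h x hx with e' | e' | e' | e'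
    · exact (n1 (e' ▸ hd.trans (e ▸ h3))).elim
    · exact (hg (hh'.of_eq (Nat.dvd_antisymm (e ▸ h3) (e' ▸ hd)))).elim
    · exact (h2 (e' ▸ hd.trans (e ▸ h3))).elim
    · exact e'.trans e.symm
  have ud : ∀ g : G, g ≠ 1 → d ∣ co g → co g = co y ∨ co g = d := fun g hg hd => by
    rcases h g hg with e | e | e | e
    exacts [(h4 (e ▸ hd)).elim, .inl e, (h4 ((e ▸ hd).trans h1)).elim, .inr e]
  rcases h u hu1 with e | e | e | e
  · exact hu2 (hh.of_eq e)
  · exact hu2 (hh'.of_eq e)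
  · have hm : Mn u := fun x hx hd => (hU x hx (hd.trans (e ▸ h1))).elim
      (fun e' => (hu2 (hh.of_eq (Nat.dvd_antisymm (e ▸ h1) (e' ▸ hd)))).elim) (·.trans e.symm)
    obtain ⟨S, hS, huS, hc⟩ := hm.exists_sylow hu hu1
    obtain ⟨z, -, hz, hSz, hi⟩ := exists_central Nat.prime_two hS fun e => hu1 (mem_bot.mp (e ▸ huS))
    have h5 : c ∣ co z := e ▸ card_dvd_of_le (hc z hSz (pe_of_orderOf hz))
    rcases h z (H4.ne_one_of_orderOf_two hz) with e' | e' | e' | e'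
    · obtain ⟨g, hg⟩ := exists_conj_le Nat.prime_two hS (index_eq_of_co e' ▸ hi)
      exact (hb.conj g).not_le hu hu1 hm (hc _ hg (pe_of_orderOf (hb.conj g).1))
        ((co_conj g t).trans (e ▸ hk))
    · exact h2 (e' ▸ h5)
    · exact hi (hic z e')
    · exact h2 ((e' ▸ h5).trans h3)
  obtain ⟨S, hS, huS, hc⟩ := (md u e hu2).exists_sylow hu hu1
  obtain ⟨z, hz, hz1, hi, hzt⟩ := exists_central_comm Nat.prime_two hb.1
  obtain ⟨g, hg⟩ := exists_conj_le Nat.prime_two hS hi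
  have hzd : co z = d := (ud z hz1 (co_conj g z ▸ e ▸ card_dvd_of_le
    (hc _ hg ((pe_of_orderOf hz).conj g)))).resolve_left fun e' =>
      not_comm_of_coprime hG ht1 hz1 (index_eq_of_co e' ▸ hcop) hzt
  have hm := md z hzd fun h5 => hu2 (h5.of_eq (e.trans hzd.symm))
  have key : ∀ (q : ℕ) (w : G), q.Prime → q ≠ 2 → orderOf w = q → w ∉ centralizer ({z} : Set G) := by
    intro q w hq hq2 hw hwz
    have hco : ∀ s : G, orderOf s = 2 → (orderOf s).Coprime (orderOf w) := fun s hs => by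
      rw [hs, hw]; exact (Nat.coprime_primes Nat.prime_two hq).mpr hq2.symm
    have h5 := hm.le hz1 hwz (hco z hz)
    have h6 : co w ∣ co y := (ud w (ne_one_of_prime hq hw) (hzd ▸ card_dvd_of_le h5)).elim
      Eq.dvd (· ▸ h3)
    have hc := mem_cen.mp (h5 (mem_cen.mpr hzt.symm))
    obtain ⟨h7, h8⟩ := co_mul_dvd hc (hco t hb.1)
    rcases h _ (mul_ne_one_of_coprime hc (hco t hb.1) ht1) with e' | e' | e' | e'
    exacts [n1 (e' ▸ h8.trans h6), n2 (e' ▸ h7), h2 (e' ▸ h8.trans h6), h4 (e' ▸ h7)]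
  obtain ⟨p, hp, hp2, hpd⟩ := exists_prime_ne hG ht1 Nat.prime_two
  obtain ⟨w, hw, hwi⟩ := H6.exists_central_in_sylow hp (hpd.trans (index_dvd_card _))
  rcases h w (ne_one_of_prime hp hw) with e' | e' | e' | e'
  · exact hwi (index_eq_of_co e' ▸ hpd)
  · obtain ⟨g, hg, -⟩ := exists_odd_fix (x := w) (pe_of_orderOf hz) fun h5 =>
      hi (h5.trans (index_dvd_of_co (hzd ▸ e' ▸ h3)))
    exact key p _ hp hp2 (by rw [orderOf_conj', hw]) hg
  · exact hwi (hpd.trans (index_dvd_of_co (e' ▸ h1)))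
  · obtain ⟨v, hv, h5, -⟩ := exists_mem_orderOf (K := centralizer ({z} : Set G)) hp
      ((hw ▸ orderOf_dvd_co w).trans (e'.trans hzd.symm).dvd)
    exact key p v hp hp2 h5 hv

theorem lst_of_s5 {x y : G} (hx : x ≠ 1) (hh : Hd x) (hy : y ≠ 1) (hh' : Hd y) {c d : ℕ}
    (h : ∀ g : G, g ≠ 1 → co g = co x ∨ co g = co y ∨ co g = c ∨ co g = d) (hne : co x ≠ co y)
    (h1 : c ∣ co x) (h2 : ¬ c ∣ co y) (h3 : d ∣ co y) (h4 : ¬ d ∣ co x) : Lst G := by
  by_contra hL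
  refine hL (lst_of_not_bad hG fun t hb => hL ?_)
  have n1 : ¬ co x ∣ co y := fun e => hne (hh y hy e).symm
  have n2 : ¬ co y ∣ co x := fun e => hne (hh' x hx e)
  have k1 : co t = co x → Lst G := fun e =>
    hb.s5 hG (hh.of_eq e) hy hh' (e ▸ h) (e ▸ hne) (e ▸ h1) h2 h3 (e ▸ h4)
  have k2 : co t = co y → Lst G := fun e =>
    hb.s5 hG (hh'.of_eq e) hx hh (c := d) (d := c) (fun g hg => by have := h g hg; omega)
      (e ▸ hne.symm) (e ▸ h3) h4 h1 (e ▸ h2)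
  rcases h t (H4.ne_one_of_orderOf_two hb.1) with e | e | e | e
  · exact k1 e
  · exact k2 e
  · refine by_contra fun h5 => hb.not_mn fun g hg hd => ?_
    rcases h g hg with e' | e' | e' | e'
    · exact (h5 (k1 (Nat.dvd_antisymm (e ▸ h1) (e' ▸ hd)))).elim
    · exact (n2 (e' ▸ hd.trans (e ▸ h1))).elim
    · exact e'.trans e.symm
    · exact (h4 (e' ▸ hd.trans (e ▸ h1))).elim
  · refine by_contra fun h5 => hb.not_mn fun g hg hd => ?_
    rcases h g hg with e' | e' | e' | e'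
    · exact (n1 (e' ▸ hd.trans (e ▸ h3))).elim
    · exact (h5 (k2 (Nat.dvd_antisymm (e ▸ h3) (e' ▸ hd)))).elim
    · exact (h2 (e' ▸ hd.trans (e ▸ h3))).elim
    · exact e'.trans e.symm

theorem exists_two_hd : ∃ x y : G, x ≠ 1 ∧ Hd x ∧ y ≠ 1 ∧ Hd y ∧ co x ≠ co y := by
  obtain ⟨g, hg⟩ := exists_ne (1 : G)
  obtain ⟨x, hx, hh, -⟩ := exists_hd hg
  obtain ⟨p, hp, -, hd⟩ := exists_prime_ne hG hx Nat.prime_two
  obtain ⟨w, hw, hi⟩ := H6.exists_central_in_sylow hp (hd.trans (index_dvd_card _))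
  obtain ⟨y, hy, hh', h1⟩ := exists_hd (ne_one_of_prime hp hw)
  exact ⟨x, y, hx, hh, hy, hh', fun e => hi ((index_eq_of_co e ▸ hd).trans (index_dvd_of_co h1))⟩

theorem lst_of_four (h : {c | ∃ x : G, x ≠ 1 ∧ c = co x}.ncard = 4) : Lst G := by
  by_contra hL
  obtain ⟨u, hu, hu2⟩ : ∃ u : G, u ≠ 1 ∧ ¬ Hd u := by
    by_contra h1
    push Not at h1
    exact hL (lst_of_one hG (d := 0) fun y hy => .inl (h1 y hy))
  obtain ⟨v, hv, hv2, huv⟩ : ∃ v : G, v ≠ 1 ∧ ¬ Hd v ∧ co v ≠ co u := by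
    by_contra h1
    push Not at h1
    exact hL (lst_of_one hG fun y hy => or_iff_not_imp_left.mpr (h1 y hy))
  obtain ⟨x, y, hx, hh, hy, hh', hne⟩ := exists_two_hd hG
  have n : ∀ {a b : G}, Hd a → ¬ Hd b → co a ≠ co b := fun h1 h2 e => h2 (h1.of_eq e.symm)
  have h1 : ({co x, co y, co u, co v} : Set ℕ) = {c | ∃ x : G, x ≠ 1 ∧ c = co x} := by
    refine Set.eq_of_subset_of_ncard_le ?_ ?_ (Set.finite_of_ncard_ne_zero (by omega))
    · rintro _ (rfl | rfl | rfl | rfl)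
      exacts [⟨x, hx, rfl⟩, ⟨y, hy, rfl⟩, ⟨u, hu, rfl⟩, ⟨v, hv, rfl⟩]
    · rw [h, Set.ncard_eq_four.mpr ⟨_, _, _, _, hne, n hh hu2, n hh hv2, n hh' hu2, n hh' hv2,
        huv.symm, rfl⟩]
  have h2 : ∀ g : G, g ≠ 1 → co g = co x ∨ co g = co y ∨ co g = co u ∨ co g = co v :=
    fun g hg => h1.ge ⟨g, hg, rfl⟩
  have h2' : ∀ g : G, g ≠ 1 → co g = co y ∨ co g = co x ∨ co g = co u ∨ co g = co v :=
    fun g hg => or_left_comm.mp (h2 g hg)
  have h3 : ∀ g : G, g ≠ 1 → co g ∣ co x ∨ co g ∣ co y := fun g hg => by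
    obtain ⟨w, hw, h4, h5⟩ := exists_hd hg
    rcases h2 w hw with e | e | e | e
    exacts [.inl (e ▸ h5), .inr (e ▸ h5), (n h4 hu2 e).elim, (n h4 hv2 e).elim]
  apply hL
  by_cases a1 : co u ∣ co x <;> by_cases a2 : co v ∣ co x
  · exact lst_of_iso4 hG hx hh h2 a1 a2
  · by_cases a3 : co u ∣ co y
    · exact lst_of_iso4 hG hy hh' h2' a3 ((h3 v hv).resolve_left a2)
    · exact lst_of_s5 hG hx hh hy hh' h2 hne a1 a3 ((h3 v hv).resolve_left a2) a2
  · by_cases a3 : co v ∣ co y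
    · exact lst_of_iso4 hG hy hh' h2' ((h3 u hu).resolve_left a1) a3
    · exact lst_of_s5 hG hy hh' hx hh h2' hne.symm ((h3 u hu).resolve_left a1) a1 a2 a3
  · exact lst_of_iso4 hG hy hh' h2' ((h3 u hu).resolve_left a1) ((h3 v hv).resolve_left a2)

end Cfsg.Agent.H7.CA
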