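import Cfsg.Agent.H7.CA6

set_option autoImplicit false

/-! Centralizer orders in `PSL(2, q)`, `q` odd. -/

namespace Cfsg.Agent.H7.CA

open Subgroup
open scoped MatrixGroups

variable {F : Type*} [Field F]

/-- number of points on a conic -/
noncomputable def cN (τ : F) : ℕ := {x : F × F | x.1 ^ 2 + τ * x.1 * x.2 + x.2 ^ 2 = 1}.ncard

theorem co_eq_cN [Finite F] {A : SL(2, F)} (hA : A ∉ center SL(2, F)) :
    co A = cN (A.1 0 0 + A.1 1 1) := by
  have hdet : A.1 0 0 * A.1 1 1 - A.1 0 1 * A.1 1 0 = 1 := by rw [← Matrix.det_fin_two, A.2]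
  have hns : A.1 0 1 ≠ 0 ∨ A.1 1 0 ≠ 0 ∨ A.1 0 0 - A.1 1 1 ≠ 0 := by
    by_contra h
    push Not at h
    obtain ⟨h1, h3, h4⟩ := h
    refine hA (mem_center_iff.mpr fun B => Subtype.ext ?_)
    change B.1 * A.1 = A.1 * B.1
    ext i j
    fin_cases i <;> fin_cases j <;>
      simp [Matrix.mul_apply, Fin.sum_univ_two, h1, h3, sub_eq_zero.mp h4, mul_comm]
  let f : F × F → Matrix (Fin 2) (Fin 2) F := fun x => x.1 • 1 + x.2 • A.1
  have hf : Function.Injective f := by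
    rintro ⟨a, b⟩ ⟨a', b'⟩ h
    have h00 := congrFun (congrFun h 0) 0
    have h01 := congrFun (congrFun h 0) 1
    have h10 := congrFun (congrFun h 1) 0
    have h11 := congrFun (congrFun h 1) 1
    simp [f] at h00 h01 h10 h11
    have : b = b' := by
      rcases hns with h | h | h
      · exact h01.resolve_right h
      · exact h10.resolve_right h
      · exact mul_right_cancel₀ h (by linear_combination h00 - h11)
    subst this
    rw [add_right_cancel h00]
  have hdf : ∀ x : F × F, (f x).det =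
      x.1 ^ 2 + (A.1 0 0 + A.1 1 1) * x.1 * x.2 + x.2 ^ 2 := fun x => by
    rw [Matrix.det_fin_two]
    simp [f]
    linear_combination x.2 ^ 2 * hdet
  rw [co, cN, ← H6.ncard_subgroup, ← Set.ncard_image_of_injective _ hf,
    ← Set.ncard_image_of_injective (f := fun M : SL(2, F) => M.1) _
      (fun a b h => Subtype.ext h)]
  congr 1
  ext M
  constructor
  · rintro ⟨M, hM, rfl⟩
    have h : M.1 * A.1 = A.1 * M.1 := congrArg (fun M : SL(2, F) => M.1) (mem_cen.mp hM)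
    have h00 := congrFun (congrFun h 0) 0
    have h01 := congrFun (congrFun h 0) 1
    have h10 := congrFun (congrFun h 1) 0
    simp [Matrix.mul_apply, Fin.sum_univ_two] at h00 h01 h10
    obtain ⟨b, h1, h3, h4⟩ : ∃ b, M.1 0 1 = b * A.1 0 1 ∧ M.1 1 0 = b * A.1 1 0 ∧
        M.1 0 0 - M.1 1 1 = b * (A.1 0 0 - A.1 1 1) := by
      rcases hns with h | h | h
      · refine ⟨M.1 0 1 / A.1 0 1, by field_simp, ?_, ?_⟩ <;> field_simp
        · linear_combination -h00
        · linear_combination h01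
      · refine ⟨M.1 1 0 / A.1 1 0, ?_, by field_simp, ?_⟩ <;> field_simp
        · linear_combination h00
        · linear_combination -h10
      · refine ⟨(M.1 0 0 - M.1 1 1) / (A.1 0 0 - A.1 1 1), ?_, ?_, by field_simp⟩ <;> field_simp
        · linear_combination -h01
        · linear_combination h10
    have he : f (M.1 0 0 - b * A.1 0 0, b) = M.1 := by
      ext i j
      fin_cases i <;> fin_cases j <;> simp [f, h1, h3]
      linear_combination h4
    exact ⟨_, by rw [Set.mem_ofPred_eq, ← hdf, he, M.2], he⟩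
  · rintro ⟨x, hx, rfl⟩
    refine ⟨⟨f x, (hdf x).trans hx⟩, mem_cen.mpr (Subtype.ext ?_), rfl⟩
    change f x * A.1 = A.1 * f x
    simp [f, add_mul, mul_add]

theorem nc3 {α : Type*} (a b c : α) : ({a, b, c} : Set α).ncard ≤ 3 :=
  (Set.ncard_insert_le ..).trans (Nat.succ_le_succ ((Set.ncard_insert_le ..).trans (by simp)))

theorem nc4 {α : Type*} (a b c d : α) : ({a, b, c, d} : Set α).ncard ≤ 4 :=
  (Set.ncard_insert_le ..).trans (Nat.succ_le_succ (nc3 ..))

variable (h2 : (2 : F) ≠ 0)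
include h2

theorem cN_two [Finite F] {τ : F} (hτ : τ ^ 2 = 4) : cN τ = 2 * Nat.card F := by
  have : {x : F × F | x.1 ^ 2 + τ * x.1 * x.2 + x.2 ^ 2 = 1} =
      (fun p => (p.1 - τ / 2 * p.2, p.2)) '' (({1, -1} : Set F) ×ˢ Set.univ) := by
    ext ⟨a, b⟩
    simp only [Set.mem_ofPred_eq, Set.mem_image, Set.mem_prod, Set.mem_insert_iff,
      Set.mem_singleton_iff, Set.mem_univ, and_true, Prod.mk.injEq, Prod.exists]
    constructor
    · intro h
      exact ⟨a + τ / 2 * b, b, sq_eq_one_iff.mp (by grind), by ring, rfl⟩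
    · rintro ⟨c, d, h | h, rfl, rfl⟩ <;> grind
  rw [cN, this, Set.ncard_image_of_injective _ (fun a b h => by
    obtain ⟨h1, h3⟩ := Prod.ext_iff.mp h
    exact Prod.ext (by grind) h3), Set.ncard_prod, Set.ncard_univ, Set.ncard_pair (by grind)]

theorem cN_add [Finite F] {τ : F} (hτ : τ ^ 2 ≠ 4) :
    cN τ + {t : F | t ^ 2 + τ * t + 1 = 0}.ncard = Nat.card F + 1 := by
  let b : F → F := fun t => -(2 * t + τ) / (t ^ 2 + τ * t + 1)
  let g : F → F × F := fun t => (1 + t * b t, b t)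
  have hb : ∀ t, t ^ 2 + τ * t + 1 ≠ 0 → b t * (t ^ 2 + τ * t + 1) = -(2 * t + τ) :=
    fun t ht => div_mul_cancel₀ _ ht
  have hg : Set.InjOn g {t : F | t ^ 2 + τ * t + 1 = 0}ᶜ := by
    intro t ht t' ht' h
    have h1 : 1 + t * b t = 1 + t' * b t' := congrArg Prod.fst h
    have h3 : b t = b t' := congrArg Prod.snd h
    have h4 := hb t ht
    have h5 := hb t' ht'
    by_cases h6 : b t = 0 <;> grind
  have : {x : F × F | x.1 ^ 2 + τ * x.1 * x.2 + x.2 ^ 2 = 1} =
      insert (-1, 0) (g '' {t : F | t ^ 2 + τ * t + 1 = 0}ᶜ) := by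
    ext ⟨a, c⟩
    constructor
    · intro h
      simp only [Set.mem_ofPred_eq] at h
      by_cases ha : a = -1 ∧ c = 0
      · exact .inl (Prod.ext ha.1 ha.2)
      obtain ⟨t, rfl, h1⟩ : ∃ t, a = 1 + t * c ∧ c * (t ^ 2 + τ * t + 1) = -(2 * t + τ) := by
        by_cases hc : c = 0
        · exact ⟨-τ / 2, by grind, by grind⟩
        · exact ⟨(a - 1) / c, by grind, by grind⟩
      have h3 : t ^ 2 + τ * t + 1 ≠ 0 := fun h => hτ (by grind)
      have h4 : b t = c := by rw [div_eq_iff h3, h1]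
      exact .inr ⟨t, h3, by simp only [g, h4]⟩
    · rintro (h | ⟨t, ht, h⟩)
      · obtain ⟨rfl, rfl⟩ := Prod.ext_iff.mp h
        simp
      · obtain ⟨rfl, rfl⟩ := Prod.ext_iff.mp h
        have := hb t ht
        simp only [Set.mem_ofPred_eq, g]
        grind
  rw [cN, this, Set.ncard_insert_of_notMem, hg.ncard_image,
    ← Set.ncard_add_ncard_compl {t : F | t ^ 2 + τ * t + 1 = 0}]
  · ring
  · rintro ⟨t, -, h⟩
    have h1 : 1 + t * b t = -1 := congrArg Prod.fst h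
    have h3 : b t = 0 := congrArg Prod.snd h
    grind

theorem cN_root [Finite F] {τ r : F} (hτ : τ ^ 2 ≠ 4) (hr : r ^ 2 + τ * r + 1 = 0) :
    cN τ + 1 = Nat.card F := by
  have h1 := cN_add h2 hτ
  have : {t : F | t ^ 2 + τ * t + 1 = 0} = {r, -τ - r} := by
    ext t
    simp only [Set.mem_ofPred_eq, Set.mem_insert_iff, Set.mem_singleton_iff]
    grind
  rw [this, Set.ncard_pair (by grind)] at h1
  omega

theorem cN_no [Finite F] {τ : F} (hr : ∀ r, r ^ 2 + τ * r + 1 ≠ 0) : cN τ = Nat.card F + 1 := by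
  have h1 := cN_add h2 (τ := τ) fun h => hr (-τ / 2) (by grind)
  have : {t : F | t ^ 2 + τ * t + 1 = 0} = ∅ := Set.eq_empty_iff_forall_notMem.mpr hr
  rwa [this, Set.ncard_empty] at h1

theorem exists_anti [Finite F] {A : SL(2, F)} (h : A.1 0 0 + A.1 1 1 = 0) :
    ∃ M : SL(2, F), M * A = -(A * M) := by
  have hdet : A.1 0 0 * A.1 1 1 - A.1 0 1 * A.1 1 0 = 1 := by rw [← Matrix.det_fin_two, A.2]
  obtain ⟨x, y, z, h1, h3⟩ : ∃ x y z : F, x * -x - y * z = 1 ∧
      2 * A.1 0 0 * x + A.1 1 0 * y + A.1 0 1 * z = 0 := by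
    by_cases hb : A.1 0 1 = 0
    · exact ⟨-A.1 1 0 / (2 * A.1 0 0), 1, -1 - (-A.1 1 0 / (2 * A.1 0 0)) ^ 2, by ring, by
        have : A.1 0 0 ≠ 0 := by grind
        grind⟩
    obtain ⟨p, hp⟩ := CharP.exists F
    have : NeZero p := ⟨CharP.char_ne_zero_of_finite F p⟩
    obtain ⟨u, v, e⟩ := CharP.sq_add_sq F p (-1)
    push_cast at e
    exact ⟨u + A.1 0 0 * v, A.1 0 1 * v,
      -(2 * A.1 0 0 * (u + A.1 0 0 * v) + A.1 1 0 * (A.1 0 1 * v)) / A.1 0 1, by grind, by grind⟩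
  refine ⟨⟨!![x, y; z, -x], by rw [Matrix.det_fin_two_of, h1]⟩, Subtype.ext ?_⟩
  change !![x, y; z, -x] * A.1 = -(A.1 * !![x, y; z, -x])
  ext i j
  fin_cases i <;> fin_cases j <;> simp [Matrix.mul_apply, Fin.sum_univ_two] <;> grind

theorem co_mk [Finite F] {A : SL(2, F)} (hA : A ∉ center SL(2, F)) :
    (A.1 0 0 + A.1 1 1 ≠ 0 → 2 * co (A : PSL(2, F)) = cN (A.1 0 0 + A.1 1 1)) ∧
      (A.1 0 0 + A.1 1 1 = 0 → co (A : PSL(2, F)) = cN (0 : F)) := by
  have hne : ∀ M : SL(2, F), M ≠ -M := fun M e => by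
    have h1 : (1 : SL(2, F)) = -1 := mul_left_cancel (a := M) (by rw [mul_neg, mul_one]; exact e)
    have := congrArg (fun a : SL(2, F) => a 0 0) h1
    simp at this
    grind
  have hZ : Nat.card (center SL(2, F)) = 2 := by
    have : (center SL(2, F) : Set SL(2, F)) = {1, -1} := Set.ext fun a => SL2_mem_center_iff
    rw [← H6.ncard_subgroup, this, Set.ncard_pair (hne 1)]
  set D := (centralizer ({(A : PSL(2, F))} : Set PSL(2, F))).comap (QuotientGroup.mk' _) with hD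
  have h1 : Nat.card D = 2 * co (A : PSL(2, F)) := by
    have h3 := D.index_mul_card
    rw [hD, index_comap_of_surjective _ (QuotientGroup.mk'_surjective _),
      ← (center SL(2, F)).card_mul_index, hZ, index, index,
      ← (centralizer ({(A : PSL(2, F))} : Set PSL(2, F))).index_mul_card, mul_left_comm] at h3
    exact Nat.eq_of_mul_eq_mul_left Nat.card_pos h3
  have h3 : ∀ M, M ∈ D ↔ M * A = A * M ∨ M * A = -(A * M) := fun M => by
    rw [hD, mem_comap, mem_cen, QuotientGroup.mk'_apply, ← QuotientGroup.mk_mul,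
      ← QuotientGroup.mk_mul, eq_comm, QuotientGroup.eq, SL2_mem_center_iff, inv_mul_eq_one,
      inv_mul_eq_iff_eq_mul, mul_neg_one, eq_comm]
  rw [← co_eq_cN hA, ← h1]
  refine ⟨fun h => congrArg (fun K : Subgroup SL(2, F) => Nat.card K) (Subgroup.ext fun M => ?_),
    fun h => ?_⟩
  · rw [h3, mem_cen, or_iff_left]
    intro e
    have h4 : A.1 = -(M⁻¹.1 * A.1 * M.1) :=
      congrArg Subtype.val ((eq_inv_mul_of_mul_eq e).trans (by rw [mul_neg, mul_assoc]) :
        A = -(M⁻¹ * A * M))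
    have h5 : M.1 * M⁻¹.1 = 1 := congrArg Subtype.val (mul_inv_cancel M)
    have h6 := congrArg Matrix.trace h4
    rw [Matrix.trace_neg, Matrix.trace_mul_cycle, h5, one_mul, Matrix.trace_fin_two] at h6
    grind
  · obtain ⟨M, hM⟩ := exists_anti h2 h
    have h4 : centralizer ({A} : Set SL(2, F)) ≤ D := fun M hM => (h3 M).mpr (.inl (mem_cen.mp hM))
    have h5 : (centralizer ({A} : Set SL(2, F))).relIndex D = 2 := by
      refine index_eq_two_iff.mpr ⟨⟨M, (h3 M).mpr (.inr hM)⟩, fun N => ?_⟩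
      simp only [mem_subgroupOf, mem_cen, coe_mul]
      rw [mul_assoc, hM, mul_neg, ← mul_assoc, ← mul_assoc]
      rcases (h3 N).mp N.2 with e | e <;> rw [e]
      · exact .inr ⟨rfl, (hne _).symm⟩
      · exact .inl ⟨by rw [neg_mul, neg_neg], (hne _).symm⟩
    have h6 := L0.relIndex_mul_card_of_le h4
    rw [h5, h1] at h6
    rw [← h, ← co_eq_cN hA]
    exact (Nat.eq_of_mul_eq_mul_left two_pos h6).symm

theorem co_PSL_cases [Finite F] {x : PSL(2, F)} (hx : x ≠ 1) :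
    co x = Nat.card F ∨ (2 * co x + 1 = Nat.card F ∧ Nat.card F ≠ 5) ∨
      2 * co x = Nat.card F + 1 ∨ co x = cN (0 : F) := by
  obtain ⟨A, rfl⟩ := QuotientGroup.mk_surjective x
  obtain ⟨h1, h3⟩ := co_mk h2 (mt (QuotientGroup.eq_one_iff A).mpr hx)
  generalize A.1 0 0 + A.1 1 1 = τ at h1 h3
  by_cases h0 : τ = 0
  · exact .inr (.inr (.inr (h3 h0)))
  have h4 := h1 h0
  by_cases h5 : τ ^ 2 = 4
  · rw [cN_two h2 h5] at h4
    omega
  by_cases hr : ∃ r, r ^ 2 + τ * r + 1 = 0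
  · obtain ⟨r, hr⟩ := hr
    refine .inr (.inl ⟨h4 ▸ cN_root h2 h5 hr, fun h6 => ?_⟩)
    have := Fintype.ofFinite F
    have h7 := FiniteField.pow_card_sub_one_eq_one r (by grind)
    rw [← Nat.card_eq_fintype_card, h6] at h7
    grind
  · rw [cN_no h2 (not_exists.mp hr)] at h4
    omega

theorem cN_zero [Finite F] : cN (0 : F) + 1 = Nat.card F ∨ cN (0 : F) = Nat.card F + 1 := by
  by_cases hr : ∃ r : F, r ^ 2 + 0 * r + 1 = 0
  · obtain ⟨r, hr⟩ := hr
    exact .inl (cN_root h2 (fun h => mul_ne_zero h2 h2 (by linear_combination -h)) hr)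
  · exact .inr (cN_no h2 (not_exists.mp hr))

theorem ncard_co_PSL_le [Finite F] : {c | ∃ x : PSL(2, F), x ≠ 1 ∧ c = co x}.ncard ≤ 4 ∧
    (Nat.card F = 5 → {c | ∃ x : PSL(2, F), x ≠ 1 ∧ c = co x}.ncard ≤ 3) := by
  refine ⟨(Set.ncard_le_ncard (t := {Nat.card F, Nat.card F / 2, (Nat.card F + 1) / 2, cN (0 : F)})
    ?_).trans (nc4 ..), fun h => (Set.ncard_le_ncard (t := {5, 3, cN (0 : F)}) ?_).trans
      (nc3 ..)⟩ <;> rintro _ ⟨x, hx, rfl⟩ <;> have := co_PSL_cases h2 hx <;>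
    simp only [Set.mem_insert_iff, Set.mem_singleton_iff] <;> omega

theorem ncard_co_PSL [Finite F] (h7 : 7 ≤ Nat.card F) :
    {c | ∃ x : PSL(2, F), x ≠ 1 ∧ c = co x}.ncard = 4 := by
  classical
  have hex : ∀ τ : F, ∃ x : PSL(2, F), x ≠ 1 ∧ (τ ≠ 0 → 2 * co x = cN τ) ∧
      (τ = 0 → co x = cN (0 : F)) := fun τ => by
    let A : SL(2, F) := ⟨!![0, -1; 1, τ], by simp [Matrix.det_fin_two_of]⟩
    have hA : A ∉ center SL(2, F) := fun h => by
      rcases SL2_mem_center_iff.mp h with h | h <;>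
        simpa [A] using congrFun (congrFun (congrArg Subtype.val h) 1) 0
    exact ⟨A, mt (QuotientGroup.eq_one_iff A).mp hA, by simpa [A] using co_mk h2 hA⟩
  have := Fintype.ofFinite F
  obtain ⟨a, ha, h1, -⟩ := hex 2
  have h1 := (h1 h2).trans (cN_two h2 (by norm_num))
  obtain ⟨b, hb, -, h3⟩ := hex 0
  have h3 := h3 rfl
  have h0 := cN_zero h2
  obtain ⟨r, hr0, hr⟩ : ∃ r : F, r ≠ 0 ∧ r ^ 4 ≠ 1 := by
    obtain ⟨g, hg⟩ := IsCyclic.exists_ofOrder_eq_natCard (α := Fˣ)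
    refine ⟨g, g.ne_zero, fun h => ?_⟩
    have := Nat.le_of_dvd four_pos (orderOf_dvd_of_pow_eq_one (x := g) (Units.ext h))
    rw [hg, Nat.card_units] at this
    omega
  obtain ⟨c, hc, h4, -⟩ := hex (-r - r⁻¹)
  have h4 := h4 (by grind)
  have h4' := cN_root h2 (τ := -r - r⁻¹) (r := r) (by grind) (by grind)
  obtain ⟨τ, hτ0, hτ⟩ : ∃ τ : F, τ ≠ 0 ∧ ∀ r, r ^ 2 + τ * r + 1 ≠ 0 := by
    by_contra h
    push Not at h
    have h5 := H6.mul_le_ncard_of_fibers (fun r : F => -r - r⁻¹) {0}ᶜ {0, 2, -2}ᶜ (m := 2)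
      fun τ hτ => by
        simp only [Set.mem_compl_iff, Set.mem_insert_iff, Set.mem_singleton_iff, not_or] at hτ
        obtain ⟨r, hr⟩ := h τ hτ.1
        have hr0 : r ≠ 0 := by grind
        rw [← Set.ncard_pair (a := r) (b := r⁻¹) (by grind)]
        refine Set.ncard_le_ncard ?_
        rintro _ (rfl | rfl) <;> exact ⟨by simpa using hr0, by grind⟩
    have h6 := Set.ncard_add_ncard_compl ({0} : Set F)
    have h8 := Set.ncard_add_ncard_compl ({0, 2, -2} : Set F)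
    have h9 := nc3 (0 : F) 2 (-2)
    rw [Set.ncard_singleton] at h6
    omega
  obtain ⟨d, hd, h5, -⟩ := hex τ
  have h5 := (h5 hτ0).trans (cN_no h2 hτ)
  refine le_antisymm (ncard_co_PSL_le h2).1 ?_
  rw [← Set.ncard_eq_four.mpr ⟨co a, co b, co c, co d, by omega, by omega, by omega, by omega,
    by omega, by omega, rfl⟩]
  refine Set.ncard_le_ncard ?_ ((Set.finite_range co).subset fun _ ⟨x, _, e⟩ => ⟨x, e.symm⟩)
  rintro _ (rfl | rfl | rfl | rfl)
  exacts [⟨a, ha, rfl⟩, ⟨b, hb, rfl⟩, ⟨c, hc, rfl⟩, ⟨d, hd, rfl⟩]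

end Cfsg.Agent.H7.CA
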