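import Cfsg.Agent.H7.It6
import Cfsg.Agent.H7.It7

set_option autoImplicit false

/-! The number of centralizer orders in `Sz(q)`, `A₇` and `L₃(4)`. -/

namespace Cfsg.Agent.H7.CA

open Subgroup H8

variable {G : Type*} [Group G] [Finite G]

theorem sc_of_hd_mn {x : G} {p q : ℕ} (hh : Hd x) (hm : Mn x) (hp : p.Prime) (hq : q.Prime)
    (hne : q ≠ p) (hx : orderOf x = p) (hd : q ∣ co x) : SC (centralizer ({x} : Set G)) := by
  have hx1 := ne_one_of_prime hp hx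
  obtain ⟨y, hy, hyq, hy1⟩ := exists_mem_orderOf hq hd
  have h1 := hh.eq hy1 (hm.le hx1 hy (by rw [hx, hyq]; exact (Nat.coprime_primes hp hq).mpr hne.symm))
  have h2 : co y = co x := by rw [co, h1]
  have h3 : centralizer ({x} : Set G) ≤ centralizer (centralizer ({x} : Set G) : Set G) :=
    le_of_pe fun r hr v hv hve g hg => mem_cen.mp (by
      by_cases hrp : r = p
      · exact Mn.le (x := y) (fun z hz h => (hm z hz (h2 ▸ h)).trans h2.symm) hy1 (h1 ▸ hv)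
          ((pe_of_orderOf hyq).coprime hq hr (hrp ▸ hne) hve) (h1 ▸ hg)
      · exact hm.le hx1 hv ((pe_of_orderOf hx).coprime hp hr (Ne.symm hrp) hve) hg)
  exact fun v hv hv1 => hh.eq hv1 fun g hg => mem_cen.mpr (h3 hv g hg)

theorem SC.cong {B : Subgroup G} (hB : SC B) : ∃ i n, Nat.card G = i * n * Nat.card B ∧
    Nat.card B ∣ 1 + i * (Nat.card B - 1) ∧ n ∣ Nat.card B - 1 := by
  have h1 := L0.relIndex_mul_card_of_le (le_normalizer (H := B))
  have h2 := (normalizer (B : Set G)).index_mul_card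
  refine ⟨(normalizer (B : Set G)).index, B.relIndex (normalizer (B : Set G)),
    by rw [mul_assoc, h1, h2], ?_, ?_⟩
  · have h3 := hB.ncard_in
    rw [← h2, mul_right_comm] at h3
    rw [← Nat.eq_of_mul_eq_mul_right Nat.card_pos h3]
    have h4 := H6.dvd_ncard_of_cl (m := Nat.card B) (insert 1 {z | In B z})ᶜ (fun x hx y hc hy =>
      hx (hy.elim (fun e => .inl (isConj_one_left.mp (e ▸ hc))) fun h => .inr (h.of_isConj hc.symm)))
      fun x hx => by
        rw [H6.ncard_cl_eq_index]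
        refine (hB.coprime_cen (fun e => hx (.inl e)) fun h => hx (.inr h)).dvd_of_dvd_mul_right ?_
        rw [index_mul_card]; exact card_subgroup_dvd_card B
    have h5 := Set.ncard_add_ncard_compl (insert 1 {z | In B z})
    rw [Set.ncard_insert_of_notMem (s := {z | In B z}) fun h => In.ne_one h rfl] at h5
    rw [add_comm]
    exact (Nat.dvd_add_left h4).mp (h5 ▸ card_subgroup_dvd_card B)
  · let _ : MulAction (normalizer (B : Set G)) G :=
      MulAction.compHom G ((MulAut.conj (G := G)).comp (normalizer (B : Set G)).subtype)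
    rw [← H6.ncard_subgroup, ← Set.ncard_sdiff_singleton_of_mem B.one_mem]
    refine H6.dvd_ncard_of_orbits (G := normalizer (B : Set G)) _ (fun g w hw =>
      (⟨(mem_normalizer_iff.mp g.2 w).mp hw.1, fun e => hw.2 (conj_eq_one_iff.mp e)⟩ :
        g * w * (g : G)⁻¹ ∈ (B : Set G) \ {1})) fun w hw => ?_
    exact index_dvd_of_le (H := MulAction.stabilizer _ w) fun g hg =>
      hB.mem hw.1 hw.2 (mul_inv_eq_iff_eq_mul.mp hg)

omit [Finite G] in
theorem tri4 (h : {c | ∃ x : G, x ≠ 1 ∧ c = co x}.ncard = 4) {a b c d : G} (ha : a ≠ 1) (hb : b ≠ 1)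
    (hc : c ≠ 1) (hd : d ≠ 1) (h1 : co a ≠ co b) (h2 : co a ≠ co c) (h3 : co a ≠ co d)
    (h4 : co b ≠ co c) (h5 : co b ≠ co d) (h6 : co c ≠ co d) (g : G) (hg : g ≠ 1) :
    co g = co a ∨ co g = co b ∨ co g = co c ∨ co g = co d := by
  have h1 : ({co a, co b, co c, co d} : Set ℕ) = {c | ∃ x : G, x ≠ 1 ∧ c = co x} := by
    refine Set.eq_of_subset_of_ncard_le ?_ ?_ (Set.finite_of_ncard_ne_zero (by omega))
    · rintro _ (rfl | rfl | rfl | rfl)
      exacts [⟨a, ha, rfl⟩, ⟨b, hb, rfl⟩, ⟨c, hc, rfl⟩, ⟨d, hd, rfl⟩]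
    · rw [h, Set.ncard_eq_four.mpr ⟨_, _, _, _, h1, h2, h3, h4, h5, h6, rfl⟩]
  exact h1.ge ⟨g, hg, rfl⟩

theorem CIT_two (hC : H2.CI.CIT G) {x : G} (hx : PE 2 x) (h1 : x ≠ 1) : ∃ k, co x = 2 ^ (k + 1) := by
  have := Fact.mk Nat.prime_two
  obtain ⟨s, hs, hs2, hs1⟩ := exists_mem_orderOf (K := zpowers x) Nat.prime_two
    (Nat.card_zpowers x ▸ hx.dvd Nat.prime_two h1)
  obtain ⟨_ | k, hk⟩ := IsPGroup.iff_card.mp
    ((hC s (H4.mul_self_of_orderOf_two hs2) hs1).to_le (cen_le_of_mem_zpowers hs))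
  · exact (h1 (orderOf_eq_one_iff.mp (Nat.dvd_one.mp ((orderOf_dvd_co x).trans hk.dvd)))).elim
  · exact ⟨k, hk⟩

theorem CIT_odd (hC : H2.CI.CIT G) {x : G} {p : ℕ} (hp : p.Prime) (hp2 : p ≠ 2) (h : p ∣ co x)
    (h1 : x ≠ 1) : ¬ 2 ∣ co x := fun h2 => by
  have key : ∀ s : G, orderOf s = 2 → ¬ p ∣ co s := fun s hs h => by
    obtain ⟨k, hk⟩ := CIT_two hC (pe_of_orderOf hs) (H4.ne_one_of_orderOf_two hs)
    exact hp2 ((Nat.prime_dvd_prime_iff_eq hp Nat.prime_two).mp (hp.dvd_of_dvd_pow (hk ▸ h)))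
  obtain ⟨s, hs, hs2, hs1⟩ := exists_mem_orderOf Nat.prime_two h2
  obtain ⟨k, hk⟩ := CIT_two hC (pe_of_mem (hC s (H4.mul_self_of_orderOf_two hs2) hs1)
    (mem_cen.mpr (mem_cen.mp hs).symm)) h1
  exact hp2 ((Nat.prime_dvd_prime_iff_eq hp Nat.prime_two).mp (hp.dvd_of_dvd_pow (hk ▸ h)))

theorem CIT_pair (hC : H2.CI.CIT G) (hab : ¬ WA.W.AB G) : ∃ (u z : G) (i j : ℕ), u ≠ 1 ∧ z ≠ 1 ∧
    co u ≠ co z ∧ co u = 2 ^ (i + 1) ∧ co z = 2 ^ (j + 1) := by
  obtain ⟨u, hu, hu1, h⟩ : ∃ u : G, PE 2 u ∧ u ≠ 1 ∧ ¬ Hd u := by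
    by_contra h
    push Not at h
    exact hab (ab_of_heads h)
  simp only [Hd, not_forall] at h
  obtain ⟨z, hz, hd, hne⟩ := h
  obtain ⟨i, hi⟩ := CIT_two hC hu hu1
  obtain ⟨j, hj⟩ := Nat.exists_eq_succ_of_ne_zero (n := (co z).primeFactorsList.length) fun e => by
    have := Nat.prod_primeFactorsList (Nat.card_pos (α := centralizer ({z} : Set G))).ne'
    rw [List.length_eq_zero_iff.mp e] at this
    exact hz (orderOf_eq_one_iff.mp (Nat.dvd_one.mp ((orderOf_dvd_co z).trans this.symm.dvd)))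
  refine ⟨u, z, i, j, hu1, hz, Ne.symm hne, hi, (Nat.eq_prime_pow_of_unique_prime_dvd Nat.card_pos.ne'
    fun {q} hq h => by_contra fun h2 => CIT_odd hC hq h2 h hz ?_).trans (congrArg _ hj)⟩
  exact (hi ▸ dvd_pow_self 2 i.succ_ne_zero).trans hd

theorem six_le_A7 : 6 ≤ {c | ∃ x : alternatingGroup (Fin 7), x ≠ 1 ∧ c = co x}.ncard := by
  have key : ∀ (m : Multiset ℕ) (c : ℕ), m ≠ 0 → m.sum ≤ 7 → (∀ a ∈ m, 2 ≤ a) → Even (m.sum + m.card) →
      (7 - m.sum).factorial * m.prod * ∏ n ∈ m.toFinset, (m.count n).factorial = c →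
      ∃ x : alternatingGroup (Fin 7), x ≠ 1 ∧ (co x = c ∨ 2 * co x = c) := by
    intro m c h0 h1 h2 h3 h4
    obtain ⟨g, rfl⟩ := (Equiv.Perm.exists_with_cycleType_iff (Fin 7)).mpr ⟨by simpa using h1, h2⟩
    have hg : g ∈ alternatingGroup (Fin 7) := by
      rw [Equiv.Perm.mem_alternatingGroup, Equiv.Perm.sign_of_cycleType, h3.neg_one_pow]
    refine ⟨⟨g, hg⟩, fun e => h0 (Equiv.Perm.cycleType_eq_zero.mpr (congrArg Subtype.val e)), ?_⟩
    have h5 := L0.relIndex_mul_card_of_le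
      (inf_le_left : centralizer {g} ⊓ alternatingGroup (Fin 7) ≤ centralizer {g})
    rw [Equiv.Perm.nat_card_centralizer, Fintype.card_fin, h4, inf_relIndex_left] at h5
    rw [co, centralizer_singleton_subgroupOf, ← inf_subgroupOf_right,
      L0.card_subgroupOf_of_le inf_le_right, ← h5]
    have h6 := relIndex_dvd_index_of_normal (alternatingGroup (Fin 7)) (centralizer {g})
    rw [alternatingGroup.index_eq_two] at h6
    rcases (Nat.dvd_prime Nat.prime_two).mp h6 with e | e <;> simp [e]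
  obtain ⟨a, ha, h1⟩ := key {2, 2} 48 (by decide) (by decide) (by decide) (by decide) (by decide)
  obtain ⟨b, hb, h2⟩ := key {3} 72 (by decide) (by decide) (by decide) (by decide) (by decide)
  obtain ⟨c, hc, h3⟩ := key {3, 3} 18 (by decide) (by decide) (by decide) (by decide) (by decide)
  obtain ⟨d, hd, h4⟩ := key {4, 2} 8 (by decide) (by decide) (by decide) (by decide) (by decide)
  obtain ⟨e, he, h5⟩ := key {5} 10 (by decide) (by decide) (by decide) (by decide) (by decide)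
  obtain ⟨f, hf, h6⟩ := key {7} 7 (by decide) (by decide) (by decide) (by decide) (by decide)
  have : ({co a, co b, co c, co d, co e, co f} : Set ℕ).ncard = 6 := by
    repeat rw [Set.ncard_insert_of_notMem (by simp; omega)]
    simp
  rw [← this]
  refine Set.ncard_le_ncard ?_ ((Set.finite_range co).subset fun _ ⟨x, _, e⟩ => ⟨x, e.symm⟩)
  rintro _ (rfl | rfl | rfl | rfl | rfl | rfl)
  exacts [⟨a, ha, rfl⟩, ⟨b, hb, rfl⟩, ⟨c, hc, rfl⟩, ⟨d, hd, rfl⟩, ⟨e, he, rfl⟩, ⟨f, hf, rfl⟩]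

omit [Finite G] in
theorem vals_equiv {G' : Type*} [Group G'] (e : G ≃* G') :
    {c | ∃ x : G, x ≠ 1 ∧ c = co x} = {c | ∃ x : G', x ≠ 1 ∧ c = co x} := by
  ext c
  exact ⟨fun ⟨x, hx, h⟩ => ⟨e x, by simpa using hx, h.trans (co_equiv e x).symm⟩,
    fun ⟨x, hx, h⟩ => ⟨e.symm x, by simpa using hx, h.trans (co_equiv e.symm x).symm⟩⟩

theorem sz_prime {m : ℕ} : ∃ p, p.Prime ∧ p ≠ 5 ∧ p ∣ (2 ^ (2 * (m + 1) + 1)) ^ 2 + 1 := by
  by_contra h
  push Not at h
  have h1 := Nat.eq_prime_pow_of_unique_prime_dvd (p := 5) (n := (2 ^ (2 * (m + 1) + 1)) ^ 2 + 1)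
    (by positivity) fun {q} hq hd => by_contra fun h2 => h q hq h2 hd
  generalize List.length _ = j at h1
  have h2 : ∀ j, 5 ^ j % 24 = 1 ∨ 5 ^ j % 24 = 5 := fun j => by
    induction j with
    | zero => simp
    | succ j ih => rw [pow_succ]; omega
  have h3 : ∀ m, 16 ^ (m + 1) % 24 = 16 := fun m => by
    induction m with
    | zero => simp
    | succ j ih => rw [pow_succ]; omega
  have h4 : (2 ^ (2 * (m + 1) + 1)) ^ 2 = 4 * 16 ^ (m + 1) := by
    rw [show 16 = 2 ^ 4 by norm_num, ← pow_mul, ← pow_mul]; ring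
  have := h2 j
  have := h3 m
  omega

theorem sz_arith {k i n : ℕ} (hk : 2 ≤ k) (h1 : i * n = (k + 1) ^ 2 * k)
    (h2 : (k + 1) ^ 2 + 1 ∣ 1 + i * (k + 1) ^ 2) (h3 : n ∣ (k + 1) ^ 2) : False := by
  have h4 : (k + 1) ^ 2 + 1 ∣ n + k := by
    have h5 : n * (1 + i * (k + 1) ^ 2) + ((k + 1) ^ 2 + 1) * k =
        n + k + ((k + 1) ^ 2 + 1) * ((k + 1) ^ 2 * k) := by
      rw [← h1]
      zify at h1 ⊢
      linear_combination -h1
    exact (Nat.dvd_add_left (dvd_mul_right _ _)).mp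
      (h5 ▸ dvd_add (h2.mul_left n) (dvd_mul_right _ _))
  obtain ⟨c, hc⟩ := h3
  obtain ⟨e, he⟩ := h4
  rcases c with _ | _ | c
  · simp at hc
  · rcases e with _ | _ | e <;> nlinarith
  · rcases e with _ | e <;> nlinarith

variable [IsSimpleGroup G] (hG : ¬ IsMulCommutative G)
include hG

theorem cit_ne_four (hC : H2.CI.CIT G) (hab : ¬ WA.W.AB G) (hc : Nat.card G = 20160) :
    {c | ∃ x : G, x ≠ 1 ∧ c = co x}.ncard ≠ 4 := by
  intro h4
  obtain ⟨u, z, i, j, hu, hz, huz, hi, hj⟩ := CIT_pair hC hab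
  have ex : ∀ p k : ℕ, p.Prime → p ≠ 2 → p ^ (k + 1) ∣ 20160 → ∃ w : G, orderOf w = p ∧ w ≠ 1 ∧
      p ^ (k + 1) ∣ co w ∧ ¬ 2 ∣ co w := by
    intro p k hp hp2 hd
    obtain ⟨w, hw, h1⟩ := H6.exists_central_in_sylow (G := G) hp
      (hc ▸ (dvd_pow_self p k.succ_ne_zero).trans hd)
    refine ⟨w, hw, ne_one_of_prime hp hw, Nat.Coprime.dvd_of_dvd_mul_left
      (((Nat.Prime.coprime_iff_not_dvd hp).mpr h1).pow_left _) (by rwa [index_mul_card, hc]),
      CIT_odd hC hp hp2 (hw ▸ orderOf_dvd_co w) (ne_one_of_prime hp hw)⟩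
  have big : ∀ g : G, g ≠ 1 → ¬ 315 ∣ co g := fun g hg ⟨m, hm⟩ => by
    obtain ⟨q, hq, hq2, hd⟩ := exists_prime_ne hG hg Nat.prime_two
    have h1 := (centralizer ({g} : Set G)).index_mul_card
    change _ * co g = _ at h1
    rw [hm, hc] at h1
    have h2 : q ∣ 2 ^ 6 := hd.trans ⟨m, by linarith⟩
    exact hq2 ((Nat.prime_dvd_prime_iff_eq hq Nat.prime_two).mp (hq.dvd_of_dvd_pow h2))
  have ev : ∀ g : G, ¬ 2 ∣ co g → co u ≠ co g ∧ co z ≠ co g := fun g h =>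
    ⟨fun e => h (e ▸ hi ▸ dvd_pow_self 2 i.succ_ne_zero),
      fun e => h (e ▸ hj ▸ dvd_pow_self 2 j.succ_ne_zero)⟩
  have main : ∀ (p q a b : ℕ) (w w' : G), p.Prime → q.Prime → q ≠ p → orderOf w = p → w' ≠ 1 →
      q ∣ a → a ∣ co w → b ∣ co w' → a * b = 315 → a.Coprime b → ¬ 2 ∣ co w → ¬ 2 ∣ co w' →
      a = 45 ∨ a = 63 ∨ a = 35 → False := by
    intro p q a b w w' hp hq hne hw hw' hqa ha hb hab hco ho ho' h6
    have hw1 := ne_one_of_prime hp hw
    have n1 : ¬ co w ∣ co w' := fun h => big w' hw' (hab ▸ hco.mul_dvd_of_dvd_of_dvd (ha.trans h) hb)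
    have n2 : ¬ co w' ∣ co w := fun h => big w hw1 (hab ▸ hco.mul_dvd_of_dvd_of_dvd ha (hb.trans h))
    have tri := tri4 h4 hu hz hw1 hw' huz (ev w ho).1 (ev w' ho').1 (ev w ho).2 (ev w' ho').2
      fun e => n1 e.dvd
    have n3 : ∀ k, ¬ co w ∣ 2 ^ k := fun k h => ho (((Nat.prime_dvd_prime_iff_eq hq Nat.prime_two).mp
      (hq.dvd_of_dvd_pow (hqa.trans (ha.trans h))) ▸ hqa).trans ha)
    have hB := sc_of_hd_mn (x := w) (fun g hg h => by
      rcases tri g hg with e | e | e | e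
      exacts [(n3 _ (hi ▸ e ▸ h)).elim, (n3 _ (hj ▸ e ▸ h)).elim, e, (n1 (e ▸ h)).elim])
      (fun g hg h => by
        rcases tri g hg with e | e | e | e
        exacts [(ho ((hi ▸ dvd_pow_self 2 i.succ_ne_zero).trans (e ▸ h))).elim,
          (ho ((hj ▸ dvd_pow_self 2 j.succ_ne_zero).trans (e ▸ h))).elim, e, (n2 (e ▸ h)).elim])
      hp hq hne hw (hqa.trans ha)
    obtain ⟨i, n, h1, h2, h3⟩ := hB.cong
    have h5 : co w ∣ 315 := Nat.Coprime.dvd_of_dvd_mul_left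
      (((Nat.Prime.coprime_iff_not_dvd Nat.prime_two).mpr ho).symm.pow_right 6)
      (by rw [show 2 ^ 6 * 315 = 20160 by norm_num, ← hc]; exact card_subgroup_dvd_card (centralizer {w}))
    have h6 := (by decide : ∀ e ∈ Nat.divisors 315, 45 ∣ e ∨ 63 ∣ e ∨ 35 ∣ e → ¬ 315 ∣ e →
      e = 45 ∨ e = 63 ∨ e = 35 ∨ e = 105) _ (Nat.mem_divisors.mpr ⟨h5, by norm_num⟩)
      (by rcases h6 with rfl | rfl | rfl <;> simp [ha]) (big w hw1)
    rw [hc] at h1
    change _ = _ * co w at h1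
    change co w ∣ 1 + i * (co w - 1) at h2
    change n ∣ co w - 1 at h3
    rcases h6 with e | e | e | e <;> rw [e] at h1 h2 h3 <;>
      have := Nat.le_of_dvd (by norm_num) h3 <;> interval_cases n <;> omega
  obtain ⟨a, ha, ha1, h1, h1'⟩ := ex 3 1 Nat.prime_three (by norm_num) (by norm_num)
  obtain ⟨b, hb, hb1, h2, h2'⟩ := ex 5 0 Nat.prime_five (by norm_num) (by norm_num)
  obtain ⟨c, hc', hc1, h3, h3'⟩ := ex 7 0 Nat.prime_seven (by norm_num) (by norm_num)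
  by_cases e1 : co a = co b
  · exact main 3 5 45 7 a c Nat.prime_three Nat.prime_five (by norm_num) ha hc1 (by norm_num)
      ((by norm_num : Nat.Coprime 9 5).mul_dvd_of_dvd_of_dvd h1 (e1 ▸ h2)) h3 rfl (by norm_num) h1' h3'
      (by simp)
  rcases tri4 h4 hu hz ha1 hb1 huz (ev a h1').1 (ev b h2').1 (ev a h1').2 (ev b h2').2 e1 c hc1
    with e | e | e | e
  · exact (ev c h3').1 e.symm
  · exact (ev c h3').2 e.symm
  · exact main 3 7 63 5 a b Nat.prime_three Nat.prime_seven (by norm_num) ha hb1 (by norm_num)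
      ((by norm_num : Nat.Coprime 9 7).mul_dvd_of_dvd_of_dvd h1 (e ▸ h3)) h2 rfl (by norm_num) h1' h2'
      (by simp)
  · exact main 5 7 35 9 b a Nat.prime_five Nat.prime_seven (by norm_num) hb ha1 (by norm_num)
      ((by norm_num : Nat.Coprime 5 7).mul_dvd_of_dvd_of_dvd h2 (e ▸ h3)) h1 rfl (by norm_num) h2' h1'
      (by simp)

omit hG in
open BS in
theorem sz_ne_four (X : Suz G) (hc : Nat.card X.Q = X.q ^ 2) :
    {c | ∃ x : G, x ≠ 1 ∧ c = co x}.ncard ≠ 4 := by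
  intro h4
  have r := X.rk1 X.core_eq_bot
  have hS := X.struct
  have hq4 := X.four_le_q
  have hab : ¬ ∀ x ∈ X.Q, ∀ y ∈ X.Q, x * y = y * x := fun a => by
    rw [hS.ab a] at hc
    change X.q = _ at hc
    nlinarith
  have hg : Rec.gen X.Q X.t = ⊤ := ((Rec.gen_normal r).eq_bot_or_eq_top).resolve_left
    fun e => X.tH ((mem_bot.1 (e ▸ Rec.Rk1.t_mem (Q := X.Q)) : X.t = 1) ▸ one_mem _)
  obtain ⟨hD, -, -, -, -, m, hm, -, hq, -⟩ := Rec.rec_Sz r hS.two hc fun a =>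
    hab fun x hx y hy => congrArg Subtype.val (a.is_comm.comm (⟨x, hx⟩ : X.Q) ⟨y, hy⟩)
  rw [hg, top_inf_eq] at hD
  change X.q = _ at hq
  have hK := X.card_K
  have hG := X.card_G
  rw [hD, hc] at hG
  have hC : H2.CI.CIT G := fun t tt t1 => by
    obtain ⟨g, rfl⟩ := X.conj_s tt t1
    rw [H2.CI.Ce, ← cj_centralizer_singleton]
    refine pgroup_cj (hS.two.to_le fun a ha => ?_) g
    have h1 := mem_cen.mp ha
    obtain ⟨x, hx, d, hd, rfl⟩ := X.sdp.exists_mul (X.mem_H_of_conj X.sQ X.s1 (g := a)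
      (by rw [h1, mul_inv_cancel_right]; exact X.Q_le X.sQ))
    rw [mul_assoc, ← mul_assoc X.s, X.Z_comm X.s_mem_Z hx, mul_assoc, mul_right_inj] at h1
    rw [(X.K_fpf (hD ▸ hd) X.sQ h1).resolve_right X.s1, mul_one]
    exact hx
  have hKs : SC X.K := fun y hy hy1 => le_antisymm (fun g hg => by
    have h1 := mem_cen.mp hg
    rcases X.K_fix hy hy1 (g := g) (by rw [h1, mul_inv_cancel_right]; exact X.D_le (X.K_le hy))
      with h2 | h2 <;> obtain ⟨x, hx, d, hd, e⟩ := X.sdp.exists_mul h2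
    · subst e
      rw [mul_assoc, X.K_comm (hD ▸ hd) hy, ← mul_assoc, ← mul_assoc, mul_left_inj] at h1
      rw [(X.K_fpf hy hx h1.symm).resolve_left hy1, one_mul]
      exact hD ▸ hd
    · exfalso
      have h3 := (X.mem_K.mp hy).2
      have h5 : x * y⁻¹ = y * x * y⁻¹ * y := by
        apply mul_right_cancel (b := d)
        rw [mul_assoc, X.K_comm (inv_mem hy) (hD ▸ hd), ← mul_assoc, e, inv_mul_cancel_right, ← h3,
          mul_assoc y, e, ← mul_assoc, ← mul_assoc, mul_assoc g, X.tt, mul_one, h1, mul_assoc]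
      have h6 := (X.dec_unique hx (X.conj_mem_Q (X.D_le (X.K_le hy)) hx) (inv_mem (X.K_le hy))
        (X.K_le hy) h5).2
      have h7 := X.odd_orderOf (X.K_le hy)
      rw [H4.orderOf_eq_two_of (mul_eq_one_iff_eq_inv.mpr h6.symm) hy1] at h7
      exact absurd h7 (by decide)) fun g hg => mem_cen.mpr (X.K_comm hg hy)
  obtain ⟨u, z, i, j, hu, hz, huz, hi, hj⟩ := CIT_pair hC fun a => hab (a _ hS.two)
  obtain ⟨y, hy, hy1⟩ : ∃ y ∈ X.K, y ≠ 1 := (X.K.bot_or_exists_ne_one).resolve_left fun e => by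
    rw [e, card_bot] at hK; omega
  have hyk : co y = Nat.card X.K := by rw [co, hKs y hy hy1]
  obtain ⟨m, rfl⟩ := Nat.exists_eq_add_of_le' hm
  generalize Nat.card X.K = k at hK hG hyk
  rw [← hK] at hG hq hq4
  have h2k : 2 ∣ k + 1 := hq ▸ dvd_pow_self 2 (by omega)
  have ex : ∀ p : ℕ, p.Prime → p ∣ (k + 1) ^ 2 + 1 → p ≠ 2 ∧ ¬ p ∣ k ∧ ∃ w : G, orderOf w = p := by
    intro p hp hd
    have := Fact.mk hp
    have h1 : p ≠ 2 := by
      rintro rfl
      have := (Nat.dvd_add_right (dvd_pow h2k two_ne_zero)).mp hd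
      omega
    refine ⟨h1, fun h => h1 ((Nat.prime_dvd_prime_iff_eq hp Nat.prime_two).mp ?_),
      exists_prime_orderOf_dvd_card' p (hG ▸ (hd.mul_right _).mul_right _)⟩
    rw [show (k + 1) ^ 2 + 1 = k * (k + 2) + 2 by ring] at hd
    exact (Nat.dvd_add_right (h.mul_right _)).mp hd
  have h5 : 5 ∣ (k + 1) ^ 2 + 1 := by
    rw [hq, show (2 ^ (2 * (m + 1) + 1)) ^ 2 = 4 * 16 ^ (m + 1) by
      rw [show 16 = 2 ^ 4 by norm_num, ← pow_mul, ← pow_mul]; ring]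
    have : 16 ^ (m + 1) % 5 = 1 := by simp [Nat.pow_mod]
    omega
  obtain ⟨-, h5k, w, hw⟩ := ex 5 Nat.prime_five h5
  have hw1 := ne_one_of_prime Nat.prime_five hw
  have h5w : 5 ∣ co w := hw ▸ orderOf_dvd_co w
  have ho := CIT_odd hC Nat.prime_five (by norm_num) h5w hw1
  have n2 : ∀ {p l : ℕ}, p.Prime → p ≠ 2 → ¬ p ∣ 2 ^ l := fun hp h2 h =>
    h2 ((Nat.prime_dvd_prime_iff_eq hp Nat.prime_two).mp (hp.dvd_of_dvd_pow h))
  have d2 : ∀ l, 2 ∣ 2 ^ (l + 1) := fun l => dvd_pow_self 2 l.succ_ne_zero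
  have tri := tri4 h4 hu hz hy1 hw1 huz (fun e => by have := d2 i; omega)
    (fun e => ho (e ▸ hi ▸ d2 i)) (fun e => by have := d2 j; omega) (fun e => ho (e ▸ hj ▸ d2 j))
    fun e => h5k (hyk ▸ e ▸ h5w)
  have hcop : k.Coprime (co w) := by
    have := hKs.coprime_cen hw1 fun h => h5k (h5w.trans (((hKs.card_cen h).trans
      (hKs.card_cen (.of_mem hy hy1)).symm).trans hyk).dvd)
    rwa [← hKs y hy hy1, ← co, hyk] at this
  have dv : ∀ p : ℕ, p.Prime → p ∣ (k + 1) ^ 2 + 1 → p ∣ co w := fun p hp hd => by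
    obtain ⟨h1, h2, v, hv⟩ := ex p hp hd
    have h3 : p ∣ co v := hv ▸ orderOf_dvd_co v
    rcases tri v (ne_one_of_prime hp hv) with e | e | e | e
    exacts [(n2 hp h1 (hi ▸ e ▸ h3)).elim, (n2 hp h1 (hj ▸ e ▸ h3)).elim, (h2 (hyk ▸ e ▸ h3)).elim,
      e ▸ h3]
  obtain ⟨p, hp, hp5, hpd⟩ := sz_prime (m := m)
  have hB := sc_of_hd_mn (x := w) (fun g hg h => by
    rcases tri g hg with e | e | e | e
    exacts [(n2 Nat.prime_five (by norm_num) (hi ▸ e ▸ h5w.trans h)).elim,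
      (n2 Nat.prime_five (by norm_num) (hj ▸ e ▸ h5w.trans h)).elim,
      (h5k (hyk ▸ e ▸ h5w.trans h)).elim, e])
    (fun g hg h => by
      rcases tri g hg with e | e | e | e
      exacts [(ho ((hi ▸ d2 i).trans (e ▸ h))).elim, (ho ((hj ▸ d2 j).trans (e ▸ h))).elim,
        by have := Nat.eq_one_of_dvd_coprimes hcop dvd_rfl (hyk ▸ e ▸ h); omega, e])
    Nat.prime_five hp hp5 hw (dv p hp (hq ▸ hpd))
  have e : co w = (k + 1) ^ 2 + 1 := by
    refine Nat.dvd_antisymm ?_ (Nat.Coprime.dvd_of_dvd_mul_left (Nat.coprime_of_dvd fun r hr h =>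
      hB.not_dvd_index hr (dv r hr h)) (by rw [index_mul_card, hG, mul_assoc]; exact dvd_mul_right ..))
    refine Nat.Coprime.dvd_of_dvd_mul_right (n := (k + 1) ^ 2) (Nat.Coprime.pow_right _ ?_)
      (hcop.symm.dvd_of_dvd_mul_right (hG ▸ card_subgroup_dvd_card _))
    exact hq ▸ ((Nat.Prime.coprime_iff_not_dvd Nat.prime_two).mpr ho).symm.pow_right _
  obtain ⟨a, n, h1, h2, h3⟩ := hB.cong
  change _ = _ * co w at h1
  change co w ∣ 1 + a * (co w - 1) at h2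
  change n ∣ co w - 1 at h3
  rw [e, Nat.add_sub_cancel] at h2 h3
  rw [hG, e, mul_assoc, mul_comm] at h1
  exact sz_arith (by omega) (Nat.eq_of_mul_eq_mul_right (by positivity) h1).symm h2 h3

end Cfsg.Agent.H7.CA
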