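import Cfsg.Agent.H7.It8
import Cfsg.Agent.S3192

set_option autoImplicit false

/-! Class sizes and centralizer orders. -/

namespace Cfsg.Agent.H7.CA

open Subgroup

variable {G : Type*} [Group G] [Finite G]

theorem div_co (x : G) : Nat.card G / co x = (centralizer ({x} : Set G)).index :=
  Nat.div_eq_of_eq_mul_left Nat.card_pos (index_mul_card _).symm

theorem co_eq_of_index {x y : G}
    (h : (centralizer ({x} : Set G)).index = (centralizer ({y} : Set G)).index) : co x = co y := by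
  have h1 := (centralizer ({x} : Set G)).index_mul_card
  rw [← (centralizer ({y} : Set G)).index_mul_card, h] at h1
  exact Nat.eq_of_mul_eq_mul_left (Nat.pos_of_ne_zero index_ne_zero_of_finite) h1

theorem ncard_index_eq (P : G → Prop) : {m : ℕ | ∃ x : G, P x ∧ m = (centralizer ({x} : Set G)).index}.ncard =
    {c | ∃ x : G, P x ∧ c = co x}.ncard := by
  have hinj : Set.InjOn (fun c => Nat.card G / c) {c | ∃ x : G, P x ∧ c = co x} := by
    rintro _ ⟨x, -, rfl⟩ _ ⟨y, -, rfl⟩ h
    exact co_eq_of_index (by simpa only [div_co] using h)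
  rw [← hinj.ncard_image]
  congr 1
  ext m
  constructor
  · rintro ⟨x, hx, rfl⟩
    exact ⟨_, ⟨x, hx, rfl⟩, div_co x⟩
  · rintro ⟨_, ⟨x, hx, rfl⟩, rfl⟩
    exact ⟨x, hx, div_co x⟩

omit [Finite G] in
theorem center_bot [IsSimpleGroup G] (hG : ¬ IsMulCommutative G) : center G = ⊥ :=
  (inferInstance : (center G).Normal).eq_bot_or_eq_top.resolve_right fun h =>
    hG ⟨⟨fun a b => mem_center_iff.mp (h ▸ mem_top b) a⟩⟩

theorem psl_ncard [IsSimpleGroup G] (hG : ¬ IsMulCommutative G) {F : Type} [Field F] [Fintype F]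
    (h3 : 3 < Fintype.card F) (e : G ≃* Matrix.ProjectiveSpecialLinearGroup (Fin 2) F) :
    {c | ∃ x : G, x ≠ 1 ∧ c = co x}.ncard ≤ 4 ∧ ({c | ∃ x : G, x ≠ 1 ∧ c = co x}.ncard = 4 →
      Odd (Fintype.card F) ∧ 7 ≤ Fintype.card F) := by
  by_cases h2 : (2 : F) = 0
  · have : CharP F 2 := (CharP.charP_iff_prime_eq_zero Nat.prime_two).mpr h2
    obtain ⟨⟨n, hn⟩, -, h5⟩ := FiniteField.card F 2
    have h6 := ((S3192.result G).mpr ⟨n, F, _, _, by
      by_contra h
      obtain rfl : n = 1 := by omega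
      simp [h5] at h3, h5, ⟨e⟩⟩).2.2
    simp only [ncard_index_eq, center_bot hG, mem_bot] at h6
    change {c | ∃ x : G, x ≠ 1 ∧ c = co x}.ncard = 3 at h6
    omega
  · have h4 := ncard_co_PSL_le h2
    have h5 := FiniteField.odd_card_of_char_ne_two (F := F) fun h => h2 (by
      have := ringChar.Nat.cast_ringChar (R := F)
      rwa [h] at this)
    rw [vals_equiv e]
    rw [Nat.card_eq_fintype_card] at h4
    exact ⟨h4.1, fun h => ⟨Nat.odd_iff.mpr h5, by omega⟩⟩

end Cfsg.Agent.H7.CA
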