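import Cfsg.Agent.H7.J1L2

/-! Janko's hypothesis: preparations for counting involutions. -/

set_option autoImplicit false

namespace Cfsg.Agent.H7.Jk

open Subgroup Cfsg.Agent.H8

variable {G : Type*} [Group G] [Finite G]

theorem card_dvd_of_semireg (C : Subgroup G) (X : Set G) (hX : ∀ c ∈ C, ∀ x ∈ X, c * x * c⁻¹ ∈ X)
    (h : ∀ c ∈ C, ∀ x ∈ X, Commute c x → c = 1) : Nat.card C ∣ X.ncard := by
  let _ : MulAction C G := MulAction.compHom G ((MulAut.conj (G := G)).comp C.subtype)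
  refine H6.dvd_ncard_of_orbits (G := C) X (fun g x hx => hX g g.2 x hx) fun x hx => ?_
  have : MulAction.stabilizer C x = ⊥ := eq_bot_iff.mpr fun c hc =>
    Subtype.ext (h c c.2 x hx (cm_of_conj_eq hc))
  rw [this, index_bot]

omit [Group G] in
theorem ncard_le_of_cover {β : Type*} [Finite β] (X : Set G) (r : β → Set G) {m : ℕ}
    (h : ∀ x ∈ X, ∃ b, x ∈ r b) (hm : ∀ b, (r b).ncard ≤ m) : X.ncard ≤ Nat.card β * m := by
  classical
  by_cases hb : Nonempty β
  · let f : G → β := fun x => if hx : x ∈ X then (h x hx).choose else hb.some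
    rw [← Set.ncard_univ]
    refine H6.ncard_le_mul_of_fibers f X Set.univ (fun _ _ => trivial) fun b _ => (hm b).trans' ?_
    refine Set.ncard_le_ncard (fun x ⟨h1, h2⟩ => ?_) (Set.toFinite _)
    have := (h x h1).choose_spec
    rwa [show (h x h1).choose = b by rw [← h2]; simp [f, h1]] at this
  · rw [show X = ∅ from Set.eq_empty_of_forall_notMem fun x hx => hb ⟨(h x hx).choose⟩]
    simp

omit [Finite G] in
theorem mem_zp_of_prime {x c : G} (hp : (orderOf x).Prime) (hc : c ∈ zpowers x) (h1 : c ≠ 1) :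
    x ∈ zpowers c := by
  have : Fact (orderOf x).Prime := ⟨hp⟩
  have : Finite (zpowers x) := Nat.finite_of_card_ne_zero (by rw [Nat.card_zpowers]; exact hp.ne_zero)
  have h2 : zpowers c = zpowers x := eq_of_le_of_card_ge (zpowers_le.mpr hc) (by
    rw [Nat.card_zpowers, Nat.card_zpowers]
    rcases (Nat.dvd_prime hp).mp (orderOf_dvd_of_mem_zpowers hc) with e | e
    · exact absurd (orderOf_eq_one_iff.mp e) h1
    · exact e.ge)
  exact h2 ▸ mem_zpowers x

theorem ncard_iv_modEq {x : G} (hp : (orderOf x).Prime) :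
    {g : G | Iv g ∧ Commute g x}.ncard ≡ {g : G | Iv g}.ncard [MOD orderOf x] := by
  have h1 := card_dvd_of_semireg (zpowers x) {g : G | Iv g ∧ ¬ Commute g x}
    (fun c hc g hg => ⟨hg.1.conj c, fun e => hg.2 (by
      have := cm_conj e c⁻¹
      rwa [conj_eq_of_cm (cm_zp (Commute.refl x) hc).inv_left,
        show c⁻¹ * (c * g * c⁻¹) * c⁻¹⁻¹ = g by group] at this)⟩)
    (fun c hc g hg e => by_contra fun c1 => hg.2 (cm_zp e (mem_zp_of_prime hp hc c1)).symm)
  have h2 : {g : G | Iv g} = {g : G | Iv g ∧ Commute g x} ∪ {g : G | Iv g ∧ ¬ Commute g x} := by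
    ext g; simp only [Set.mem_union, Set.mem_ofPred_eq]; tauto
  rw [h2, Set.ncard_union_eq (Set.disjoint_left.mpr fun g a b => b.2 a.2)]
  rw [Nat.card_zpowers] at h1
  exact (Nat.modEq_iff_dvd' (Nat.le_add_right _ _)).mpr (by simpa using h1)

omit [Finite G] in
theorem JT.ncard {t : G} {φ : A5 →* G} (j : JT t φ) (R : G → Prop) (P Q : A5 → Prop)
    [DecidablePred P] [DecidablePred Q] (hP : ∀ x, R (φ x) ↔ P x) (hQ : ∀ x, R (t * φ x) ↔ Q x) :
    {g | Commute g t ∧ R g}.ncard = (Finset.univ.filter P).card + (Finset.univ.filter Q).card := by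
  have : {g | Commute g t ∧ R g} = φ '' (Finset.univ.filter P) ∪
      (fun x => t * φ x) '' (Finset.univ.filter Q) := by
    ext g
    simp only [Set.mem_ofPred_eq, Set.mem_union, Set.mem_image, Finset.coe_filter, Finset.mem_univ,
      true_and]
    constructor
    · rintro ⟨h1, h2⟩
      obtain ⟨x, rfl | rfl⟩ := j.cen g h1
      · exact Or.inl ⟨x, (hP x).mp h2, rfl⟩
      · exact Or.inr ⟨x, (hQ x).mp h2, rfl⟩
    · rintro (⟨x, hx, rfl⟩ | ⟨x, hx, rfl⟩)
      · exact ⟨j.comm x, (hP x).mpr hx⟩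
      · exact ⟨(Commute.refl t).mul_left (j.comm x), (hQ x).mpr hx⟩
  rw [this, Set.ncard_union_eq, Set.ncard_image_of_injective _ j.inj,
    Set.ncard_image_of_injective _ fun a b e => j.inj (mul_left_cancel e), Set.ncard_coe_finset,
    Set.ncard_coe_finset]
  rw [Set.disjoint_left]
  rintro _ ⟨a, -, rfl⟩ ⟨b, -, e⟩
  exact j.mul_ne _ _ e

theorem mem_centralizer_of_cop {p : ℕ} [hp : Fact p.Prime] {H : Subgroup G}
    (hH : Nat.card H = p) {z : G} (hz : z ∈ normalizer (H : Set G))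
    (hc : (orderOf z).Coprime (p - 1)) : z ∈ centralizer (H : Set G) := by
  have h1 := H6.relIndex_centralizer_dvd_sub_one hH
  have : ((centralizer (H : Set G)).subgroupOf (normalizer (H : Set G))).Normal :=
    normal_subgroupOf_centralizer_normalizer _
  have h2 := ((centralizer (H : Set G)).subgroupOf (normalizer (H : Set G))).pow_index_mem ⟨z, hz⟩
  have h3 : z ^ (centralizer (H : Set G)).relIndex (normalizer (H : Set G)) ∈
    centralizer (H : Set G) := h2
  obtain ⟨k, hk⟩ := exists_pow_eq_self_of_coprime (hc.coprime_dvd_right h1).symm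
  exact hk ▸ pow_mem h3 k

/-- a nontrivial element of order prime to `30` -/
def W (x : G) : Prop := x ≠ 1 ∧ (orderOf x).Coprime 30

namespace Jan

variable (h : Jan G) {y t s : G}
include h

theorem card_cent (ht : Iv t) : Nat.card (centralizer ({t} : Set G)) = 120 := by
  obtain ⟨φ, j⟩ := h.jt t ht
  have := j.ncard (fun _ => True) (fun _ => True) (fun _ => True) (by simp) (by simp)
  rw [← H6.ncard_subgroup, show ((centralizer ({t} : Set G) : Subgroup G) : Set G) =
    {g | Commute g t ∧ True} from Set.ext fun g => by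
      simp [mem_centralizer_singleton_iff, Commute, SemiconjBy], this]
  decide +kernel

theorem ncard_iv_cent (ht : Iv t) : {g | Commute g t ∧ Iv g}.ncard = 31 := by
  obtain ⟨φ, j⟩ := h.jt t ht
  rw [j.ncard Iv (fun x => x * x = 1 ∧ x ≠ 1) (fun x => x * x = 1)
    (fun x => and_congr j.sq j.ne_one) fun x => ⟨fun e => j.sq'.mp e.1, fun e =>
      ⟨j.sq'.mpr e, by rw [← map_one φ]; exact j.mul_ne _ _⟩⟩]
  decide +kernel

theorem ncard_mul : {g : G | Iv g}.ncard * 120 = Nat.card G := by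
  obtain ⟨t, ht⟩ := h.ex
  rw [← h.card_cent ht, ← H6.ncard_cl_mul_card_centralizer t]
  congr 2
  ext g
  exact ⟨fun hg => H6.mem_cl_iff.mpr (h.cj t g ht hg), fun hg => by
    obtain ⟨c, rfl⟩ := H6.mem_cl_iff.mp hg; exact ht.conj c⟩

theorem pow15 (hy : YT y t) {g : G} (hg : In y g) : g ^ 15 = 1 := by
  obtain ⟨s, s1, s2, s3⟩ := h.exists_inv hy
  have k : ∀ {y t c : G}, YT y t → c ∈ zpowers y → c ^ 15 = 1 := fun hy hc =>
    orderOf_dvd_iff_pow_eq_one.mp ((orderOf_dvd_of_mem_zpowers hc).trans (by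
      rcases h.ord hy with e | e <;> rw [e] <;> norm_num))
  have ne : s ≠ t := fun e => hy.ne (eq_one_of_inv hy.odd s3 (mem_zpowers y) (e ▸ hy.c))
  rcases h.two_cases hy s1 s2 s3 with e | ⟨a, r, hr, a1, a2, a3, -, e⟩
  · exact k hy (e g hg)
  · obtain ⟨c, hc, d, hd, rfl⟩ := e g hg
    have hr' : Iv r := by rcases hr with rfl | rfl; exacts [s1, hy.iv.mul s1 s2 ne]
    rw [(cm_zp (a1.zp hd).1.symm hc).mul_pow, k hy hc, k ⟨hr', a3, a2, a1.2⟩ hd, one_mul]

theorem pow30 (hy : YT y t) {x : G} (hx : Commute x y) : x ^ 30 = 1 := by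
  rcases h.in_or hy hx with e | e
  · rw [show 30 = 15 * 2 from rfl, pow_mul, h.pow15 hy e, one_pow]
  · have := h.pow15 hy (h.in_mul hy (e.conj' (Or.inl (conj_eq_of_cm hy.c.symm))) e)
    rwa [hy.iv.cancel, mul_assoc, inv_mul_cancel_left, ← sq, ← pow_mul] at this

theorem sylow (hy : YT y t) : IsSylowIn (orderOf y) (zpowers y) ⊤ := by
  have : Fact (orderOf y).Prime := ⟨h.prime hy⟩
  have hp : IsPGroup (orderOf y) (zpowers y) := IsPGroup.of_card (n := 1) (by
    rw [Nat.card_zpowers, pow_one])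
  refine IsSylowIn.of_normalizer le_top ⟨le_inf le_top le_normalizer, hp, fun Q hQ hQp hl => ?_⟩
  refine le_antisymm (fun g hg => ?_) hl
  obtain ⟨k, hk⟩ := hQp ⟨g, hg⟩
  have hk' : orderOf g ∣ orderOf y ^ k := orderOf_dvd_of_pow_eq_one (congrArg Subtype.val hk)
  have h1 : In y g := by
    refine ⟨?_, (hy.odd.pow (n := k)).of_dvd_nat hk'⟩
    have := mem_centralizer_of_cop (Nat.card_zpowers y) (hQ hg).2 (Nat.Coprime.coprime_dvd_left hk'
      (Nat.Coprime.pow_left _ (by rcases h.ord hy with e | e <;> rw [e] <;> norm_num)))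
    exact (this y (mem_zpowers y)).symm
  obtain ⟨s, s1, s2, s3⟩ := h.exists_inv hy
  have ne : s ≠ t := fun e => hy.ne (eq_one_of_inv hy.odd s3 (mem_zpowers y) (e ▸ hy.c))
  rcases h.two_cases hy s1 s2 s3 with e | ⟨a, r, hr, a1, a2, a3, a4, e⟩
  · exact e g h1
  obtain ⟨c, hc, d, hd, rfl⟩ := e g h1
  have hr' : Iv r := by rcases hr with rfl | rfl; exacts [s1, hy.iv.mul s1 s2 ne]
  obtain ⟨l, hl'⟩ := hQp ⟨d, (mul_mem_cancel_left (hl hc)).mp hg⟩
  have : d = 1 := orderOf_eq_one_iff.mp (Nat.eq_one_of_dvd_coprimes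
    (((Nat.coprime_primes (h.prime ⟨hr', a3, a2, a1.2⟩) (h.prime hy)).mpr a4).pow_right l)
    (orderOf_dvd_of_mem_zpowers hd) (orderOf_dvd_of_pow_eq_one (congrArg Subtype.val hl')))
  rwa [this, mul_one]

omit [Finite G] in
theorem exists_ord {p : ℕ} (hp : p = 3 ∨ p = 5) : ∃ y t : G, YT y t ∧ orderOf y = p := by
  obtain ⟨t, ht⟩ := h.ex
  obtain ⟨φ, j⟩ := h.jt t ht
  have : Fact p.Prime := ⟨by rcases hp with rfl | rfl <;> norm_num⟩
  obtain ⟨x, hx⟩ := exists_prime_orderOf_dvd_card' (G := A5) p (by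
    rw [A5.card]; rcases hp with rfl | rfl <;> norm_num)
  have e : orderOf (φ x) = p := by rw [orderOf_injective φ j.inj, hx]
  refine ⟨φ x, t, ⟨ht, j.comm x, fun e' => ?_, ?_⟩, e⟩
  · rw [e', orderOf_one] at e; omega
  · rw [e]; rcases hp with rfl | rfl <;> decide

theorem conj_of_ord (hy : YT y t) {x : G} (hx : orderOf x = orderOf y) :
    ∃ k, x ∈ zpowers (k * y * k⁻¹) := by
  have : Fact (orderOf y).Prime := ⟨h.prime hy⟩
  obtain ⟨Q, hQ⟩ := H6.exists_sylow_mem (p := orderOf y) (x := x)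
    ⟨1, by rw [pow_one, ← hx, pow_orderOf_eq_one]⟩
  obtain ⟨k, -, e⟩ := (h.sylow hy).exists_cj_eq (isSylowIn_top Q)
  rw [← e, H8.cj, MonoidHom.map_zpowers] at hQ
  exact ⟨k, hQ⟩

theorem exists_YT {x : G} (hx : orderOf x = 3 ∨ orderOf x = 5) : ∃ t, YT x t := by
  obtain ⟨y, t, hy, e⟩ := h.exists_ord hx
  obtain ⟨k, hk⟩ := h.conj_of_ord hy e.symm
  exact ⟨_, (hy.conj k).zp hk fun e => by rw [e, orderOf_one] at hx; omega⟩

theorem cent_cop {x g : G} (hx : W x) (hg : Commute g x) : (orderOf g).Coprime 30 := by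
  refine Nat.Coprime.symm (Nat.coprime_of_dvd fun r hr h1 h2 => hx.1 ?_)
  have hz : orderOf (g ^ (orderOf g / r)) = r := orderOf_pow_orderOf_div (orderOf_pos g).ne' h2
  have hc : Commute x (g ^ (orderOf g / r)) := (hg.pow_left _).symm
  have : x ^ 30 = 1 := by
    have h3 : r = 2 ∨ r = 3 ∨ r = 5 := by
      have := Nat.le_of_dvd (by norm_num) h1
      interval_cases r <;> simp_all (config := { decide := true })
    rcases h3 with rfl | h3
    · exact h.pow_thirty (Iv.of_ord hz) hc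
    · obtain ⟨t, ht⟩ := h.exists_YT (hz ▸ h3)
      exact h.pow30 ht hc
  exact orderOf_eq_one_iff.mp (Nat.eq_one_of_dvd_coprimes hx.2 dvd_rfl
    (orderOf_dvd_of_pow_eq_one this))

theorem not_cm {x g : G} (hx : W x) (hg : Iv g) : ¬ Commute g x := fun c => by
  have := h.cent_cop hx c
  rw [hg.ord] at this
  exact absurd this (by decide)

/-- involutions centralizing `y`, first case -/
theorem ncard_I (hy : YT y t) (e : ∀ g, In y g → g ∈ zpowers y) :
    {g : G | Iv g ∧ Commute g y}.ncard = 1 := by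
  rw [Set.ncard_eq_one]
  refine ⟨t, Set.eq_singleton_iff_unique_mem.mpr ⟨⟨hy.iv, hy.c.symm⟩, fun g ⟨g1, g2⟩ => ?_⟩⟩
  have h1 := e _ ((h.in_or hy g2).resolve_left fun e => g1.not_odd e.2)
  have h2 : Commute g t := by
    have := (Commute.refl t).mul_left (cm_zp hy.c h1)
    rwa [hy.iv.cancel] at this
  exact (h.cent_sq hy h2 g2 g1.1).resolve_left g1.2

/-- involutions centralizing `y`, second case -/
theorem ncard_II (hy : YT y t) {a : G} (ha : In y a) (hta : t * a * t⁻¹ = a⁻¹)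
    (e : ∀ g, In y g → ∃ c ∈ zpowers y, ∃ d ∈ zpowers a, g = c * d) :
    {g : G | Iv g ∧ Commute g y}.ncard = orderOf a := by
  rw [← Nat.card_zpowers, ← ncard_image_mul_left t]
  congr 1
  ext g
  constructor
  · rintro ⟨g1, g2⟩
    obtain ⟨c, hc, d, hd, e⟩ := e _ ((h.in_or hy g2).resolve_left fun e => g1.not_odd e.2)
    have e' : g = t * (c * d) := by rw [← e, hy.iv.cancel]
    have := g1.1
    rw [e', show t * (c * d) * (t * (c * d)) = t * c * t⁻¹ * (t * d * t⁻¹) * (t * t) * c * d by group,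
      hy.iv.1, H4.conj_eq_inv_of_mem_zpowers hta hd, conj_eq_of_cm (cm_zp hy.c hc).symm, mul_one,
      (cm_zp (ha.zp hd).1.symm hc).inv_right.eq, mul_assoc d⁻¹, mul_assoc d⁻¹, inv_mul_eq_one,
      right_eq_mul] at this
    exact ⟨d, hd, by rw [e', eq_one_of_odd (odd_zp hy.odd hc) this, one_mul]⟩
  · rintro ⟨d, hd, rfl⟩
    refine ⟨⟨?_, fun e => hy.iv.not_odd ?_⟩, hy.c.symm.mul_left (ha.zp hd).1⟩
    · have := H4.conj_eq_inv_of_mem_zpowers hta hd
      rw [hy.iv.inv] at this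
      simp only [← mul_assoc, this, inv_mul_cancel]
    · rw [eq_inv_of_mul_eq_one_left e, orderOf_inv]; exact (ha.zp hd).2

/-- involutions inverting `y` -/
theorem ncard_inv (hy : YT y t) :
    {g : G | Iv g ∧ g * y * g⁻¹ = y⁻¹ ∧ ¬ Commute g t}.ncard ≤ 15 ∧
      ((∀ g, In y g → g ∈ zpowers y) → {g : G | Iv g ∧ g * y * g⁻¹ = y⁻¹ ∧ ¬ Commute g t} = ∅) := by
  obtain ⟨s, s1, s2, s3⟩ := h.exists_inv hy
  have ne : s ≠ t := fun e => hy.ne (eq_one_of_inv hy.odd s3 (mem_zpowers y) (e ▸ hy.c))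
  have cm : ∀ {r g : G}, r * y * r⁻¹ = y⁻¹ → g * y * g⁻¹ = y⁻¹ → Commute (r * g) y :=
    fun {r g} h1 h2 => cm_of_conj_eq (by
      rw [show r * g * y * (r * g)⁻¹ = r * (g * y * g⁻¹) * r⁻¹ by group, h2, ← conj_inv, h1, inv_inv])
  have hI : (∀ g, In y g → g ∈ zpowers y) →
      {g : G | Iv g ∧ g * y * g⁻¹ = y⁻¹ ∧ ¬ Commute g t} = ∅ := fun e =>
    Set.eq_empty_of_forall_notMem fun g ⟨g1, g2, g3⟩ => g3 (by
      have : Commute (s * g) t := by
        rcases h.in_or hy (cm s3 g2) with e' | e'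
        · exact cm_zp hy.c (e _ e')
        · have := (Commute.refl t).mul_left (cm_zp hy.c (e _ e'))
          rwa [hy.iv.cancel] at this
      have := s2.mul_left this
      rwa [s1.cancel] at this)
  refine ⟨?_, hI⟩
  rcases h.two_cases hy s1 s2 s3 with e | ⟨a, r, hr, a1, a2, a3, a4, e⟩
  · rw [hI e]; simp
  have hr' : Iv r ∧ Commute r t ∧ r * y * r⁻¹ = y⁻¹ := by
    rcases hr with rfl | rfl
    exacts [⟨s1, s2, s3⟩, ⟨hy.iv.mul s1 s2 ne, (Commute.refl t).mul_left s2, mul_inv_of hy.c s3⟩]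
  obtain ⟨r1, r2, r3⟩ := hr'
  have hA : YT a r := ⟨r1, a3, a2, a1.2⟩
  have : {g : G | Iv g ∧ g * y * g⁻¹ = y⁻¹ ∧ ¬ Commute g t} ⊆
      Set.range fun p : zpowers y × zpowers a => r * (t * (p.1 * p.2)) := by
    rintro g ⟨g1, g2, g3⟩
    rcases h.in_or hy (cm r3 g2) with e' | e'
    · obtain ⟨c, hc, d, hd, e'⟩ := e _ e'
      have e2 : g = r * (c * d) := by rw [← e', r1.cancel]
      have := g1.1
      rw [e2, show r * (c * d) * (r * (c * d)) = r * c * r⁻¹ * (r * d * r⁻¹) * (r * r) * c * d by group,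
        r1.1, H4.conj_eq_inv_of_mem_zpowers r3 hc, conj_eq_of_cm (cm_zp a3 hd).symm, mul_one,
        mul_assoc c⁻¹, ← (cm_zp (a1.zp hd).1.symm hc).eq, inv_mul_cancel_left] at this
      rw [eq_one_of_odd (a1.zp hd).2 this, mul_one] at e2
      exact absurd (e2 ▸ r2.mul_left (cm_zp hy.c hc)) g3
    · obtain ⟨c, hc, d, hd, e'⟩ := e _ e'
      exact ⟨(⟨c, hc⟩, ⟨d, hd⟩), by simp only [← e', hy.iv.cancel, r1.cancel]⟩
  refine (Set.ncard_le_ncard this (Set.toFinite _)).trans ?_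
  rw [← Set.image_univ]
  refine (Set.ncard_image_le (Set.toFinite _)).trans ?_
  rw [Set.ncard_univ, Nat.card_prod, Nat.card_zpowers, Nat.card_zpowers]
  rcases h.ord hy with e | e <;> rcases h.ord hA with e' | e' <;> rw [e, e'] at a4 ⊢ <;> omega

/-- the centralizers of elements of order prime to `30` that are inverted by an involution -/
theorem ti {x g : G} (hx : W x) (hg : Iv g) (hi : g * x * g⁻¹ = x⁻¹) {c : ℕ}
    (hc : c = Nat.card (centralizer ({x} : Set G))) :
    ∃ e m, c * m = {g : G | Iv g}.ncard ∧ e ≤ 120 ∧ 2 ∣ e ∧ e ∣ c - 1 ∧ 120 * m ≡ e [MOD c] ∧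
      c.Coprime 30 := by
  set C := centralizer ({x} : Set G) with hC
  have mC : ∀ {z}, z ∈ C ↔ Commute z x := mem_centralizer_singleton_iff
  have inv : ∀ {z}, W z → g * z * g⁻¹ = z⁻¹ → ∀ a, Commute a z → g * a * g⁻¹ = a⁻¹ :=
    fun {z} hz e a ha => H6.inverts_of_fpf' (N := centralizer {z}) (mem_normalizer_of_conj fun b hb => by
      have := cm_conj (mem_centralizer_singleton_iff.mp hb) g
      rw [e] at this
      exact mem_centralizer_singleton_iff.mpr (Commute.inv_right_iff.mp this)) hg.1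
      (fun b hb c => by_contra fun b1 => h.not_cm
        ⟨b1, h.cent_cop hz (mem_centralizer_singleton_iff.mp hb)⟩ hg (Commute.symm c))
      (mem_centralizer_singleton_iff.mpr ha)
  have ab : ∀ {z}, W z → g * z * g⁻¹ = z⁻¹ → ∀ a b, Commute a z → Commute b z → Commute a b :=
    fun {z} hz e a b ha hb => by
      have := inv hz e _ (ha.mul_left hb)
      rw [cj_mul', inv hz e a ha, inv hz e b hb, mul_inv_rev] at this
      simpa using (show Commute a⁻¹ b⁻¹ from this)
  have wC : ∀ z ∈ C, z ≠ 1 → W z := fun z hz z1 => ⟨z1, h.cent_cop hx (mC.mp hz)⟩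
  have eqC : ∀ z ∈ C, z ≠ 1 → centralizer {z} = C := fun z hz z1 => by
    ext a
    rw [mem_centralizer_singleton_iff, mC]
    exact ⟨fun ha => ab (wC z hz z1) (inv hx hi z (mC.mp hz)) a x ha (mC.mp hz).symm,
      fun ha => ab hx hi a z ha (mC.mp hz)⟩
  have cop : c.Coprime 30 := by
    refine Nat.Coprime.symm (Nat.coprime_of_dvd fun r hr h1 h2 => ?_)
    have : Fact r.Prime := ⟨hr⟩
    obtain ⟨z, hz⟩ := exists_prime_orderOf_dvd_card' (G := C) r (hc ▸ h2)
    have := h.cent_cop hx (mC.mp z.2)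
    rw [orderOf_coe, hz] at this
    exact hr.one_lt.ne' (Nat.eq_one_of_dvd_coprimes this dvd_rfl h1)
  have cpos : 0 < c := hc ▸ Nat.card_pos
  have cls : ∀ z ∈ C, z ≠ 1 → (H6.cl z ∩ C).ncard * c = Nat.card (normalizer (C : Set G)) :=
    fun z hz z1 => by
      rw [hc, ← H6.ncard_subgroup (normalizer _)]
      conv_lhs => rw [← eqC z hz z1]
      rw [eqC z hz z1]
      have := H6.ncard_conj_mem z (C : Set G)
      rw [eqC z hz z1] at this
      rw [← this]
      congr 1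
      ext n
      refine ⟨fun hn => cj_eq_self_iff.mp ?_, fun hn => conj_mem hn hz⟩
      have := eqC _ hn fun e => z1 (conj_eq_one_iff.mp e)
      rwa [← cj_centralizer_singleton, eqC z hz z1] at this
  have xC : x ∈ C := mC.mpr (Commute.refl x)
  obtain ⟨m, hm⟩ : c ∣ {g : G | Iv g}.ncard := hc ▸ card_dvd_of_semireg C _
    (fun a _ b hb => hb.conj a) fun a ha b hb e => by_contra fun a1 => h.not_cm (wC a ha a1) hb e.symm
  have gN : g ∈ normalizer (C : Set G) := mem_normalizer_of_conj fun a ha => by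
    rw [inv hx hi a (mC.mp ha)]; exact inv_mem ha
  refine ⟨(H6.cl x ∩ C).ncard, m, hm.symm, ?_, ?_, ?_, ?_, cop⟩
  · refine Nat.le_of_mul_le_mul_right ?_ cpos
    rw [cls x xC hx.1, ← H6.ncard_subgroup, mul_comm, hc, ← ncard_image_mul_left g]
    refine H6.ncard_le_mul_of_fibers (fun n => n * g * n⁻¹) _ _ (fun n hn => ?_) fun b _ => ?_
    · refine ⟨g * (n * g * n⁻¹), mC.mpr (cm_of_conj_eq ?_), hg.cancel _⟩
      have e := inv hx hi _ (mC.mp (conj_mem (inv_mem hn) xC))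
      calc g * (n * g * n⁻¹) * x * (g * (n * g * n⁻¹))⁻¹ =
          g * (n * (g * (n⁻¹ * x * n⁻¹⁻¹) * g⁻¹) * n⁻¹) * g⁻¹ := by group
        _ = g * x⁻¹ * g⁻¹ := by rw [e]; group
        _ = x := by rw [← conj_inv, hi, inv_inv]
    · by_cases hb : ∃ k, k * g * k⁻¹ = b
      · obtain ⟨k, rfl⟩ := hb
        rw [← h.card_cent hg, ← H6.ncard_conj_eq g k]
        exact Set.ncard_le_ncard (fun n hn => hn.2) (Set.toFinite _)
      · rw [show {a | a ∈ (normalizer (C : Set G) : Set G) ∧ a * g * a⁻¹ = b} = ∅ from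
          Set.eq_empty_of_forall_notMem fun n hn => hb ⟨n, hn.2⟩]
        simp
  · have h2 : 2 ∣ (H6.cl x ∩ C).ncard * c := by
      rw [cls x xC hx.1, ← hg.ord]
      exact orderOf_dvd_natCard _ gN
    exact (Nat.Coprime.coprime_dvd_right (by norm_num) cop).symm.dvd_of_dvd_mul_right h2
  · have := H6.dvd_ncard_of_fibers ConjClasses.mk ((C : Set G) \ {1}) (m := (H6.cl x ∩ C).ncard)
      fun a ha => by
        have e : (H6.cl a ∩ C).ncard = (H6.cl x ∩ C).ncard := Nat.eq_of_mul_eq_mul_right cpos (by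
          rw [cls x xC hx.1, cls a ha.1 ha.2])
        rw [← e]
        refine dvd_of_eq (congrArg _ (Set.ext fun b => ?_))
        simp only [Set.mem_inter_iff, H6.mem_cl, Set.mem_ofPred_eq, Set.mem_sdiff,
          Set.mem_singleton_iff, ConjClasses.mk_eq_mk_iff_isConj]
        exact ⟨fun ⟨h1, h2⟩ => ⟨⟨h2, fun e => ha.2 (by rw [e] at h1; simpa using h1)⟩, h1.symm⟩,
          fun ⟨h1, h2⟩ => ⟨h2.symm, h1.1⟩⟩
    rwa [Set.ncard_sdiff_singleton_of_mem (one_mem C), H6.ncard_subgroup, ← hc] at this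
  · have h1 : (H6.cl x).ncard = 120 * m := Nat.eq_of_mul_eq_mul_right cpos (by
      rw [hc, H6.ncard_cl_mul_card_centralizer, ← h.ncard_mul, hm, ← hc]; ring)
    have h2 := card_dvd_of_semireg C (H6.cl x \ C)
      (fun a ha b hb => ⟨hb.1.trans (isConj_iff.mpr ⟨a, rfl⟩), fun e => hb.2 (by
        have := mul_mem (mul_mem (inv_mem ha) e) ha
        rwa [show a⁻¹ * (a * b * a⁻¹) * a = b by group] at this)⟩)
      fun a ha b hb e => by_contra fun a1 => hb.2 (by
        rw [← eqC a ha a1]; exact mem_centralizer_singleton_iff.mpr e.symm)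
    rw [← h1, ← Set.ncard_inter_add_ncard_sdiff_eq_ncard (H6.cl x) C]
    exact ((Nat.modEq_iff_dvd' (Nat.le_add_right _ _)).mpr (by simpa [hc] using h2)).symm

end Jan

end Cfsg.Agent.H7.Jk
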