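import Cfsg.Agent.H7.J1C1

/-! Janko's theorem: the order of the group is `175560` (Bender's count of involutions). -/

set_option autoImplicit false

namespace Cfsg.Agent.H7.Jk

open Subgroup Cfsg.Agent.H8

variable {G : Type*} [Group G] [Finite G]

set_option synthInstance.maxSize 1024 in
theorem arith_all : ∀ i < 520, ∀ m < 29 + 300 / i, (7 * i * m % 120 = 31 ∨ 7 * i * m % 120 = 23) →
    2 * (7 * i * m) ≤ 4165 + 56 * (7 * i) → 120 * m % (7 * i) ≤ 120 → 120 * m % (7 * i) % 2 = 0 →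
    (7 * i - 1) % (120 * m % (7 * i)) = 0 → 7 * i * m = 1463 := by
  decide +kernel

theorem arith_main {c e m J : ℕ} (h7 : 7 ∣ c) (h1 : c * m = J) (h2 : e ≤ 120) (h3 : 2 ∣ e)
    (h4 : e ∣ c - 1) (h5 : 120 * m ≡ e [MOD c]) (h6 : c.Coprime 30)
    (hJ : J % 120 = 31 ∨ J % 120 = 23) (hb : 2 * J ≤ 4165 + 56 * c) : J = 1463 := by
  obtain ⟨i, rfl⟩ := h7
  have i0 : i ≠ 0 := by rintro rfl; simp at h6
  have ec : e < 7 * i := by
    have := Nat.le_of_dvd (by omega) h4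
    omega
  have he : 120 * m % (7 * i) = e := by rw [h5, Nat.mod_eq_of_lt ec]
  have m0 : m ≠ 0 := by rintro rfl; omega
  have hm : m < 29 + 300 / i := by
    by_contra hn
    have h8 := Nat.lt_mul_div_succ 300 (Nat.pos_of_ne_zero i0)
    have h9 : i * (29 + 300 / i) ≤ i * m := Nat.mul_le_mul_left _ (by omega)
    have : 7 * i * m = 7 * (i * m) := by ring
    nlinarith
  have hi : i < 520 := by
    by_contra hn
    have : 300 / i = 0 := Nat.div_eq_of_lt (by omega)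
    rw [Nat.mod_eq_of_lt (by omega)] at he
    obtain rfl : m = 1 := by omega
    obtain rfl : e = 120 := by omega
    omega
  have := arith_all i hi m hm
  rw [he, h1] at this
  exact this hJ hb h2 (by omega) (Nat.mod_eq_zero_of_dvd h4)

theorem ncard_le_cosets (H : Subgroup G) (X : Set G)
    (h : ∀ g ∈ X, ∀ g' ∈ X, g⁻¹ * g' ∈ H → g = g') : X.ncard ≤ H.index := by
  rw [index, ← Set.ncard_univ]
  exact Set.ncard_le_ncard_of_injOn (fun g => (g : G ⧸ H)) (fun _ _ => trivial)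
    fun g hg g' hg' e => h g hg g' hg' (QuotientGroup.eq.mp e)

omit [Finite G] in
theorem ncard_inv_le (x : G) : {g : G | g * x * g⁻¹ = x⁻¹}.ncard ≤
    Nat.card (centralizer ({x} : Set G)) := by
  by_cases hb : ∃ k, k * x * k⁻¹ = x⁻¹
  · obtain ⟨k, e⟩ := hb
    rw [← H6.ncard_conj_eq x k, e]
  · rw [show {g : G | g * x * g⁻¹ = x⁻¹} = ∅ from
      Set.eq_empty_of_forall_notMem fun n hn => hb ⟨n, hn⟩]
    simp

/-- involutions inverting a nontrivial element of a Sylow subgroup of `H` -/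
def IvS (H : Subgroup G) {p : ℕ} (P : Sylow p H) : Set G :=
  {g | Iv g ∧ ∃ y : H, y ∈ (P : Subgroup H) ∧ y ≠ 1 ∧ g * y * g⁻¹ = y⁻¹}

theorem IvS_gen {H : Subgroup G} {p : ℕ} [Fact p.Prime] {P : Sylow p H}
    (hP : Nat.card (P : Subgroup H) = p) : ∃ y ∈ H, orderOf y = p ∧
      ∀ g ∈ IvS H P, g * y * g⁻¹ = y⁻¹ := by
  obtain ⟨x, h1, h2⟩ := H6.exists_zpowers_of_card_prime hP
  refine ⟨x, x.2, by rw [orderOf_coe, h1], fun g ⟨_, y, y1, y2, y3⟩ => ?_⟩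
  have : x ∈ zpowers y := H6.eq_zpowers_of_card_prime hP y1 y2 ▸ h2 ▸ mem_zpowers x
  obtain ⟨k, rfl⟩ := this
  exact H4.conj_eq_inv_of_mem_zpowers y3 ⟨k, by simp⟩

namespace Jan

variable (h : Jan G)
include h

theorem no_normal {p : ℕ} (hp : p.Prime) (h7 : p.Coprime 30) (h8 : ¬ p ∣ 840)
    (hc : Nat.card G = p ^ 1 * 840) (ha : ∀ n ∈ Nat.divisors 840, n % p = 1 % p → n = 1) : False := by
  have : Fact p.Prime := ⟨hp⟩
  obtain ⟨P⟩ := (inferInstance : Nonempty (Sylow p G))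
  have hP := H6.sylow_card_of hc h8 P
  have h1 : Nat.card (Sylow p G) = 1 := ha _ (Nat.mem_divisors.mpr
    ⟨H6.sylow_index_of hc h8 P ▸ P.card_dvd_index, by norm_num⟩) (card_sylow_modEq_one p G)
  have := (Nat.card_eq_one_iff_unique.mp h1).1
  have hN := P.normal_of_subsingleton
  obtain ⟨x, x1, x2⟩ := H6.exists_zpowers_of_card_prime (hP.trans (pow_one p))
  have hx : W x := ⟨fun e => hp.one_lt.ne (by rw [← x1, e, orderOf_one]), x1 ▸ h7⟩
  have key : ∀ g, Iv g → g * x * g⁻¹ = x⁻¹ := fun g hg =>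
    (inv_or_comm (x1 ▸ hp) hg.1 (x2 ▸ hN.conj_mem x (x2 ▸ mem_zpowers x) g)).resolve_left
      fun e => h.not_cm hx hg (cm_of_conj_eq e)
  obtain ⟨y, t, hy, -⟩ := h.exists_ord (Or.inl rfl)
  obtain ⟨s, s1, s2, s3⟩ := h.exists_inv hy
  have ne : s ≠ t := fun e => hy.ne (eq_one_of_inv hy.odd s3 (mem_zpowers y) (e ▸ hy.c))
  refine h.not_cm hx (hy.iv.mul s1 s2 ne) (cm_of_conj_eq ?_)
  rw [show t * s * x * (t * s)⁻¹ = t * (s * x * s⁻¹) * t⁻¹ by group, key s s1, ← conj_inv,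
    key t hy.iv, inv_inv]

/-- the Sylow `2`-subgroup and its normalizer -/
theorem exists_S : ∃ S : Subgroup G, Nat.card S = 8 ∧ (∀ v ∈ S, v * v = 1) ∧
    Nat.card (normalizer (S : Set G)) = 168 ∧
    {g : G | Iv g ∧ ∃ v ∈ S, v ≠ 1 ∧ Commute g v}.ncard = 175 ∧ {g : G | Iv g}.ncard % 8 = 7 := by
  classical
  obtain ⟨t, ht⟩ := h.ex
  obtain ⟨φ, j⟩ := h.jt t ht
  have hu : A5.mk 3 ≠ 1 ∧ A5.mk 3 * A5.mk 3 = 1 := by decide +kernel
  generalize A5.mk 3 = u at hu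
  have hs : Iv (φ u) := ⟨j.sq.mpr hu.2, j.ne_one.mpr hu.1⟩
  obtain ⟨f1, f2⟩ := h.four ht hs (j.comm u) (j.ne u)
  set S := centralizer {t} ⊓ centralizer ({φ u} : Set G) with hS
  have mS : ∀ {g}, g ∈ S ↔ Commute g t ∧ Commute g (φ u) := by
    intro g; simp only [hS, mem_inf, mem_centralizer_singleton_iff]; rfl
  have sq : ∀ v ∈ S, v * v = 1 := fun v hv => f1 v (mS.mp hv).1 (mS.mp hv).2
  have ab : ∀ a ∈ S, ∀ b ∈ S, Commute a b := H6.comm_of_mul_self sq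
  have tS : t ∈ S := mS.mpr ⟨Commute.refl t, (j.comm u).symm⟩
  have n7 : ((S : Set G) \ {1}).ncard = 7 := by
    rw [Set.ncard_sdiff_singleton_of_mem (one_mem S), H6.ncard_subgroup, f2]
  have two : ∀ v ∈ S, ∀ w ∈ S, v ≠ 1 → w ≠ 1 → w ≠ v → ∀ g, Commute g v → Commute g w → g ∈ S :=
    fun v hv w hw v1 w1 ne g g1 g2 => by
      have : S = centralizer {v} ⊓ centralizer {w} := eq_of_le_of_card_ge (fun a ha =>
        ⟨mem_centralizer_singleton_iff.mpr (ab a ha v hv),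
          mem_centralizer_singleton_iff.mpr (ab a ha w hw)⟩)
        (by rw [f2, (h.four ⟨sq v hv, v1⟩ ⟨sq w hw, w1⟩ (ab w hw v hv) ne).2])
      rw [this]
      exact ⟨mem_centralizer_singleton_iff.mpr g1, mem_centralizer_singleton_iff.mpr g2⟩
  have c1 : {g : G | (Iv g ∧ ∃ v ∈ S, v ≠ 1 ∧ Commute g v) ∧ g ∉ S}.ncard * 1 = 7 * 24 := by
    rw [← n7]
    refine H6.ncard_mul_eq_of_rel _ _ Commute (fun g ⟨⟨_, v, v1, v2, v3⟩, g2⟩ => ?_) fun v hv => ?_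
    · rw [Set.ncard_eq_one]
      exact ⟨v, Set.eq_singleton_iff_unique_mem.mpr ⟨⟨⟨v1, v2⟩, v3⟩, fun w ⟨w1, w2⟩ =>
        by_contra fun ne => g2 (two v v1 w w1.1 v2 w1.2 ne g v3 w2)⟩⟩
    · have e := h.ncard_iv_cent ⟨sq v hv.1, hv.2⟩
      rw [show {g | Commute g v ∧ Iv g} = ((S : Set G) \ {1}) ∪
        {a | a ∈ {g : G | (Iv g ∧ ∃ v ∈ S, v ≠ 1 ∧ Commute g v) ∧ g ∉ S} ∧ Commute a v} from
        Set.ext fun g => ⟨fun ⟨g1, g2⟩ => (em (g ∈ S)).imp (fun e => ⟨e, g2.2⟩)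
          fun e => ⟨⟨⟨g2, v, hv.1, hv.2, g1⟩, e⟩, g1⟩, fun e => e.elim
          (fun e => ⟨ab g e.1 v hv.1, sq g e.1, e.2⟩) fun e => ⟨e.2, e.1.1.1⟩⟩,
        Set.ncard_union_eq (Set.disjoint_left.mpr fun g a b => b.1.2 a.1), n7] at e
      omega
  have c2 : {g : G | Iv g ∧ ∃ v ∈ S, v ≠ 1 ∧ Commute g v}.ncard = 175 := by
    rw [show {g : G | Iv g ∧ ∃ v ∈ S, v ≠ 1 ∧ Commute g v} = ((S : Set G) \ {1}) ∪
      {g : G | (Iv g ∧ ∃ v ∈ S, v ≠ 1 ∧ Commute g v) ∧ g ∉ S} from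
      Set.ext fun g => ⟨fun hg => (em (g ∈ S)).imp (fun e => ⟨e, hg.1.2⟩) fun e => ⟨hg, e⟩,
        fun e => e.elim (fun e => ⟨⟨sq g e.1, e.2⟩, g, e.1, e.2, Commute.refl g⟩) fun e => e.1⟩,
      Set.ncard_union_eq (Set.disjoint_left.mpr fun g a b => b.2 a.1), n7]
    omega
  have c3 : {g : G | Iv g}.ncard % 8 = 7 := by
    have d := card_dvd_of_semireg S {g : G | Iv g ∧ ¬ ∃ v ∈ S, v ≠ 1 ∧ Commute g v}
      (fun c hc g ⟨g1, g2⟩ => ⟨g1.conj c, fun ⟨v, v1, v2, v3⟩ => g2 ⟨v, v1, v2, by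
        have := cm_conj v3 c⁻¹
        rwa [conj_eq_of_cm (ab c hc v v1).inv_left,
          show c⁻¹ * (c * g * c⁻¹) * c⁻¹⁻¹ = g by group] at this⟩⟩)
      fun c hc g hg e => by_contra fun c1 => hg.2 ⟨c, hc, c1, e.symm⟩
    rw [show {g : G | Iv g} = {g : G | Iv g ∧ ∃ v ∈ S, v ≠ 1 ∧ Commute g v} ∪
      {g : G | Iv g ∧ ¬ ∃ v ∈ S, v ≠ 1 ∧ Commute g v} from Set.ext fun g =>
        ⟨fun e => (em _).imp (And.intro e) (And.intro e), fun e => e.elim And.left And.left⟩,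
      Set.ncard_union_eq (Set.disjoint_left.mpr fun g a b => b.2 a.2), c2]
    rw [f2] at d
    omega
  refine ⟨S, f2, sq, ?_, c2, c3⟩
  have hP : IsSylowIn 2 S ⊤ := IsSylowIn.of_not_dvd_relIndex le_top (H6.isPGroup_two_of_mul_self sq) (by
    have := S.card_mul_index
    rw [← h.ncard_mul, f2] at this
    rw [relIndex_top_right]
    omega)
  obtain ⟨P, hP⟩ := hP.exists_sylow_top
  have c4 : {g | Commute g t ∧ g ∈ normalizer (S : Set G)}.ncard = 24 := by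
    have k : ∀ g (x : A5), Commute g t → g * φ u * g⁻¹ = φ (x * u * x⁻¹) →
        (g ∈ normalizer (S : Set G) ↔ x * u * x⁻¹ * u = u * (x * u * x⁻¹)) := fun g x g1 g2 => by
      refine ⟨fun e => j.cm.mp (g2 ▸ (mS.mp (conj_mem e (mS.mpr ⟨j.comm u, Commute.refl _⟩))).2),
        fun e => mem_normalizer_of_conj fun a ha => ?_⟩
      have a1 := cm_conj (mS.mp ha).1 g
      have a2 := cm_conj (mS.mp ha).2 g
      rw [conj_eq_of_cm g1] at a1
      rw [g2] at a2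
      exact two t tS _ (mS.mpr ⟨j.comm _, j.cm.mpr e⟩) ht.2 (g2 ▸ (hs.conj g).2) (j.ne _) _ a1 a2
    rw [j.ncard _ _ _ (fun x => k _ x (j.comm x) (by simp))
      (fun x => k _ x ((Commute.refl t).mul_left (j.comm x)) (by
        rw [j.conj_mul, conj_eq_of_cm (j.comm u).symm]; simp)), A5.card_norm u hu.1 hu.2]
  rw [← H6.ncard_subgroup, show 168 = 7 * 24 from rfl, ← n7]
  refine H6.ncard_eq_mul_of_fibers (fun n => n * t * n⁻¹) _ _
    (fun n hn => And.intro (conj_mem hn tS) (ht.conj n).2) fun v hv => ?_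
  obtain ⟨g, rfl⟩ := h.cj t v ht ⟨sq v hv.1, hv.2⟩
  clear_value S
  obtain ⟨n, n1, n2⟩ := H6.burnside_fusion P (x := t) (g := g) (fun a ha => ab a (hP ▸ ha) t tS)
    fun a ha => ab a (hP ▸ ha) _ hv.1
  rw [hP] at n1
  rw [← c4, ← Set.ncard_image_of_injective {g | Commute g t ∧ g ∈ normalizer (S : Set G)}
    (mul_right_injective n)]
  congr 1
  ext a
  constructor
  · rintro ⟨a1, a2⟩
    refine ⟨n⁻¹ * a, ⟨cm_of_conj_eq ?_, mul_mem (inv_mem n1) a1⟩, by simp⟩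
    rw [show n⁻¹ * a * t * (n⁻¹ * a)⁻¹ = n⁻¹ * (a * t * a⁻¹) * n by group, a2, ← n2]; group
  · rintro ⟨b, ⟨b1, b2⟩, rfl⟩
    refine ⟨mul_mem n1 b2, ?_⟩
    rw [← n2, show n * b * t * (n * b)⁻¹ = n * (b * t * b⁻¹) * n⁻¹ by group, conj_eq_of_cm b1]

/-- Bender's bound -/
theorem bound {o : ℕ} (ho : ∀ y t : G, YT y t → orderOf y = 3 →
    {g : G | Iv g ∧ g * y * g⁻¹ = y⁻¹ ∧ ¬ Commute g t}.ncard ≤ o) :
    {g : G | Iv g}.ncard % 8 = 7 ∧ 7 ∣ {g : G | Iv g}.ncard ∧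
    (2 * {g : G | Iv g}.ncard ≤ 1225 + 196 * o ∨ ∃ x g : G, orderOf x = 7 ∧ Iv g ∧
      g * x * g⁻¹ = x⁻¹ ∧ 2 * {g : G | Iv g}.ncard ≤
        1225 + 196 * o + 56 * Nat.card (centralizer ({x} : Set G))) := by
  obtain ⟨S, s1, s2, s3, s4, s5⟩ := h.exists_S
  set H := normalizer (S : Set G)
  have f3 : Fact (Nat.Prime 3) := ⟨by norm_num⟩
  have f7 : Fact (Nat.Prime 7) := ⟨by norm_num⟩
  have hi := H.card_mul_index
  rw [← h.ncard_mul, s3] at hi
  refine ⟨s5, by omega, ?_⟩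
  have e3 : Nat.card H = 3 ^ 1 * 56 := s3
  have e7 : Nat.card H = 7 ^ 1 * 24 := s3
  have n3 : Nat.card (Sylow 3 H) ≤ 28 := by
    obtain ⟨P⟩ := (inferInstance : Nonempty (Sylow 3 H))
    exact (by decide : ∀ n ∈ Nat.divisors 56, n % 3 = 1 % 3 → n ≤ 28) _ (Nat.mem_divisors.mpr
      ⟨H6.sylow_index_of e3 (by norm_num) P ▸ P.card_dvd_index, by norm_num⟩)
      (card_sylow_modEq_one 3 H)
  have n7 : Nat.card (Sylow 7 H) ≤ 8 := by
    obtain ⟨P⟩ := (inferInstance : Nonempty (Sylow 7 H))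
    exact (by decide : ∀ n ∈ Nat.divisors 24, n % 7 = 1 % 7 → n ≤ 8) _ (Nat.mem_divisors.mpr
      ⟨H6.sylow_index_of e7 (by norm_num) P ▸ P.card_dvd_index, by norm_num⟩)
      (card_sylow_modEq_one 7 H)
  set A2 := {g : G | Iv g ∧ ∃ v ∈ S, v ≠ 1 ∧ Commute g v}
  obtain ⟨P0, hP0⟩ := Finite.exists_max fun P : Sylow 7 H => (IvS H P).ncard
  have b1 := ncard_le_cosets H {g | Iv g ∧ ∀ g', Iv g' → g⁻¹ * g' ∈ H → g = g'}
    fun g hg g' hg' => hg.2 g' hg'.1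
  have b3 := ncard_le_of_cover {g | ∃ P : Sylow 3 H, g ∈ IvS H P \ A2} (fun P => IvS H P \ A2)
    (m := o) (fun _ e => e) fun P => by
      obtain ⟨y, y1, y2, y3⟩ := IvS_gen (H6.sylow_card_of e3 (by norm_num) P)
      have y4 : y ^ 3 = 1 := y2 ▸ pow_orderOf_eq_one y
      obtain ⟨v, v1, v2, v3⟩ := exists_fixed s1 y1 y4
      refine (ho y v ⟨⟨s2 v v1, v2⟩, v3, fun e => ?_, odd_of_pow (by decide) y4⟩ y2).trans'
        (Set.ncard_le_ncard (fun g ⟨g1, g2⟩ => ⟨g1.1, y3 g g1, fun e => g2 ⟨g1.1, v, v1, v2, e⟩⟩)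
          (Set.toFinite _))
      rw [e, orderOf_one] at y2; omega
  have b7 := ncard_le_of_cover {g | ∃ P : Sylow 7 H, g ∈ IvS H P} (fun P => IvS H P)
    (fun _ e => e) hP0
  have cov : {g : G | Iv g} ⊆ (({g | Iv g ∧ ∀ g', Iv g' → g⁻¹ * g' ∈ H → g = g'} ∪ A2) ∪
      {g | ∃ P : Sylow 3 H, g ∈ IvS H P \ A2}) ∪ {g | ∃ P : Sylow 7 H, g ∈ IvS H P} := by
    intro g hg
    by_contra hn
    simp only [Set.mem_union, Set.mem_ofPred_eq, not_or, not_and, not_forall, not_exists] at hn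
    obtain ⟨⟨⟨a1, a2⟩, a3⟩, a4⟩ := hn
    obtain ⟨g', g1, g2, g3⟩ := a1 hg
    rw [hg.inv] at g2
    have k1 : orderOf (g * g') ≠ 1 := fun e =>
      g3 (by rw [← g1.inv]; exact eq_inv_of_mul_eq_one_left (orderOf_eq_one_iff.mp e))
    obtain ⟨r, hr, hd⟩ := Nat.exists_prime_and_dvd k1
    have hz := orderOf_pow_orderOf_div (orderOf_pos (g * g')).ne' hd
    have z1 := pow_mem g2 (orderOf (g * g') / r)
    have z2 := H4.conj_pow_eq_of_inverts (H4.left_conj_mul_eq_inv hg.1 g1.1) (orderOf (g * g') / r)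
    generalize (g * g') ^ (orderOf (g * g') / r) = z at hz z1 z2
    have z3 : z ≠ 1 := fun e => hr.one_lt.ne (by rw [← hz, e, orderOf_one])
    have : Fact r.Prime := ⟨hr⟩
    obtain ⟨P, hP⟩ := H6.exists_sylow_mem (p := r) (x := (⟨z, z1⟩ : H))
      ⟨1, Subtype.ext (by simp [← hz])⟩
    have hm : g ∈ IvS H P := ⟨hg, ⟨z, z1⟩, hP, fun e => z3 (congrArg Subtype.val e), z2⟩
    have h3 : r = 2 ∨ r = 3 ∨ r = 7 := by
      have h1 : r ∣ 168 := by rw [← s3, ← hz]; exact orderOf_dvd_natCard _ z1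
      rw [show 168 = 2 ^ 3 * 3 * 7 from rfl, hr.dvd_mul, hr.dvd_mul] at h1
      rcases h1 with (h1 | h1) | h1
      · exact Or.inl ((Nat.prime_dvd_prime_iff_eq hr Nat.prime_two).mp (hr.dvd_of_dvd_pow h1))
      · exact Or.inr (Or.inl ((Nat.prime_dvd_prime_iff_eq hr f3.out).mp h1))
      · exact Or.inr (Or.inr ((Nat.prime_dvd_prime_iff_eq hr f7.out).mp h1))
    rcases h3 with rfl | rfl | rfl
    · have zi := Iv.of_ord hz
      have hS : IsSylowIn 2 S H := IsSylowIn.of_not_dvd_relIndex le_normalizer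
        (H6.isPGroup_two_of_mul_self s2) (by
          have := H9.card_mul_relIndex (H := S) (K := H) le_normalizer
          rw [s1, s3] at this
          omega)
      refine a2 ⟨hg, z, hS.le_of_le_normalizer' (Q := zpowers z) (IsPGroup.of_card (n := 1) (by
        rw [Nat.card_zpowers, hz]; rfl)) (zpowers_le.mpr z1) (zpowers_le.mpr z1) (mem_zpowers z), z3,
        cm_of_conj_eq (by rw [z2, zi.inv])⟩
    · exact a3 P ⟨hm, a2⟩
    · exact a4 P hm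
  have := (Set.ncard_le_ncard cov (Set.toFinite _)).trans ((Set.ncard_union_le _ _).trans
    (Nat.add_le_add ((Set.ncard_union_le _ _).trans (Nat.add_le_add ((Set.ncard_union_le _ _).trans
      (Nat.add_le_add b1 s4.le)) (b3.trans (Nat.mul_le_mul_right _ n3))))
      (b7.trans (Nat.mul_le_mul_right _ n7))))
  rcases (IvS H P0).eq_empty_or_nonempty with e | ⟨g, hg⟩
  · rw [e, Set.ncard_empty] at this
    left; omega
  · obtain ⟨x, -, x2, x3⟩ := IvS_gen (H6.sylow_card_of e7 (by norm_num) P0)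
    have := (Set.ncard_le_ncard (fun g hg => x3 g hg) (Set.toFinite _)).trans (ncard_inv_le x)
    exact Or.inr ⟨x, g, x2, hg.1, x3 g hg, by omega⟩

/-- Janko's theorem on the order -/
theorem card_eq : Nat.card G = 175560 ∧ ∀ y t : G, YT y t → ¬ ∀ g, In y g → g ∈ zpowers y := by
  have hc := h.ncard_mul
  obtain ⟨y, t, hy, oy⟩ := h.exists_ord (Or.inl rfl)
  obtain ⟨z, u, hz, oz⟩ := h.exists_ord (Or.inr rfl)
  have m3 := ncard_iv_modEq (h.prime hy)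
  have m5 := ncard_iv_modEq (h.prime hz)
  rw [oy] at m3
  rw [oz] at m5
  have fin : ∀ {o : ℕ}, o ≤ 15 → (∀ y t : G, YT y t → orderOf y = 3 →
      {g : G | Iv g ∧ g * y * g⁻¹ = y⁻¹ ∧ ¬ Commute g t}.ncard ≤ o) →
      (({g : G | Iv g}.ncard % 3 = 1 ∧ {g : G | Iv g}.ncard % 5 = 1) ∨
        ({g : G | Iv g}.ncard % 3 = 2 ∧ {g : G | Iv g}.ncard % 5 = 3)) →
      {g : G | Iv g}.ncard % 8 = 7 ∧ 7 ∣ {g : G | Iv g}.ncard ∧
      (2 * {g : G | Iv g}.ncard ≤ 1225 + 196 * o ∨ {g : G | Iv g}.ncard = 1463) := fun h1 h2 h3 => by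
    obtain ⟨b1, b2, b3⟩ := h.bound h2
    refine ⟨b1, b2, b3.imp_right fun ⟨x, g, x1, g1, g2, b⟩ => ?_⟩
    obtain ⟨e, m, p1, p2, p3, p4, p5, p6⟩ := h.ti ⟨fun e => by rw [e, orderOf_one] at x1; omega,
      by rw [x1]; norm_num⟩ g1 g2 rfl
    exact arith_main (x1 ▸ orderOf_dvd_natCard _ (mem_centralizer_singleton_iff.mpr rfl)) p1 p2 p3 p4
      p5 p6 (by omega) (by omega)
  have cases : ∀ {y t : G}, YT y t → (∀ g, In y g → g ∈ zpowers y) ∨ ∃ a, In y a ∧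
      (orderOf a = 3 ∨ orderOf a = 5) ∧ orderOf a ≠ orderOf y ∧
      {g : G | Iv g ∧ Commute g y}.ncard = orderOf a := fun {y t} hy => by
    obtain ⟨s, s1, s2, s3⟩ := h.exists_inv hy
    have ne : s ≠ t := fun e => hy.ne (eq_one_of_inv hy.odd s3 (mem_zpowers y) (e ▸ hy.c))
    refine (h.two_cases hy s1 s2 s3).imp_right fun ⟨a, r, hr, a1, a2, a3, a4, e⟩ => ?_
    have hr' : Iv r ∧ Commute r t ∧ r * y * r⁻¹ = y⁻¹ := by
      rcases hr with rfl | rfl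
      exacts [⟨s1, s2, s3⟩, ⟨hy.iv.mul s1 s2 ne, (Commute.refl t).mul_left s2, mul_inv_of hy.c s3⟩]
    exact ⟨a, a1, h.ord ⟨hr'.1, a3, a2, a1.2⟩, a4,
      h.ncard_II hy a1 (h.inv_of_cm hy hr'.2.1 hr'.2.2 a1 a3) e⟩
  by_cases h15 : ∃ x a : G, orderOf x = 3 ∧ orderOf a = 5 ∧ Commute x a
  · obtain ⟨x, a, ox, oa, c⟩ := h15
    have key : ∀ y t : G, YT y t → ¬ ∀ g, In y g → g ∈ zpowers y := fun y t hy e => by
      obtain ⟨x, a, ox, oa, c⟩ : ∃ x a : G, orderOf x = orderOf y ∧ orderOf a + orderOf y = 8 ∧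
          Commute x a := by
        rcases h.ord hy with o | o
        exacts [⟨x, a, by omega, by omega, c⟩, ⟨a, x, by omega, by omega, c.symm⟩]
      obtain ⟨k, hk⟩ := h.conj_of_ord hy ox
      have p := h.ord hy
      have h1 := cm_zp c (mem_zp_of_prime (h.prime (hy.conj k)) hk fun e => by
        rw [e, orderOf_one] at ox; omega)
      have h2 := cm_conj h1 k⁻¹
      rw [show k⁻¹ * (k * y * k⁻¹) * k⁻¹⁻¹ = y by group] at h2
      have h3 := orderOf_dvd_of_mem_zpowers (e _ ⟨h2.symm, by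
        rw [ord_conj, Nat.odd_iff]; omega⟩)
      rw [ord_conj] at h3
      rcases p with p | p <;> rw [p] at oa h3
      · rw [show orderOf a = 5 by omega] at h3; omega
      · rw [show orderOf a = 3 by omega] at h3; omega
    refine ⟨?_, key⟩
    obtain ⟨a3, -, p1, p2, p3⟩ := (cases hy).resolve_left (key y t hy)
    obtain ⟨a5, -, q1, q2, q3⟩ := (cases hz).resolve_left (key z u hz)
    rw [p3, show orderOf a3 = 5 by omega] at m3
    rw [q3, show orderOf a5 = 3 by omega] at m5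
    unfold Nat.ModEq at m3 m5
    obtain ⟨b1, b2, b3⟩ := fin le_rfl (fun y t hy _ => (h.ncard_inv hy).1) (by omega)
    by_contra hn
    exact h.no_normal (p := 89) (by norm_num) (by norm_num) (by norm_num) (by omega) (by decide +kernel)
  · have key : ∀ y t : G, YT y t → ∀ g, In y g → g ∈ zpowers y := fun y t hy =>
      (cases hy).resolve_right fun ⟨a, a1, a2, a3, _⟩ => h15 (by
        rcases h.ord hy with o | o
        exacts [⟨y, a, o, by omega, a1.1.symm⟩, ⟨a, y, by omega, o, a1.1⟩])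
    rw [h.ncard_I hy (key y t hy)] at m3
    rw [h.ncard_I hz (key z u hz)] at m5
    unfold Nat.ModEq at m3 m5
    obtain ⟨b1, b2, b3⟩ := fin (o := 0) (by norm_num) (fun y t hy _ => by
      rw [(h.ncard_inv hy).2 (key y t hy)]; simp) (by omega)
    exact (h.no_normal (p := 73) (by norm_num) (by norm_num) (by norm_num) (by omega)
      (by decide +kernel)).elim

end Jan

end Cfsg.Agent.H7.Jk
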