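import Cfsg.Agent.H7.TCJ1
import Cfsg.Agent.H5.Q8Ext
import Cfsg.Prelude.Def_Spor_J1

/-! Five involutions generating Janko's matrix group, and the recognition of `J₁` from relations. -/

set_option autoImplicit false

namespace Cfsg.Agent.H7.TC

open Subgroup

/-- digits in base 16 -/
def ent (c n : ℕ) : ℕ := (c >>> (4 * n)) % 16

/-- the number with given digits -/
def hor (f : ℕ → ℕ) : ℕ → ℕ → ℕ
  | 0, _ => 0
  | n + 1, i => f i % 11 + 16 * hor f n (i + 1)

theorem ent_hor (f : ℕ → ℕ) (n i j : ℕ) (hj : j < n) : ent (hor f n i) j = f (i + j) % 11 := by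
  induction n generalizing i j with
  | zero => omega
  | succ n ih =>
    have h0 : f i % 11 < 11 := Nat.mod_lt _ (by norm_num)
    cases j with
    | zero => simp only [ent, hor, Nat.mul_zero, Nat.shiftRight_zero, Nat.add_zero]; omega
    | succ j =>
      have := ih (i + 1) j (by omega)
      unfold ent at this ⊢
      rw [Nat.mul_succ, Nat.add_comm (4 * j), Nat.shiftRight_add, Nat.shiftRight_eq_div_pow _ 4, hor,
        show (f i % 11 + 16 * hor f n (i + 1)) / 2 ^ 4 = hor f n (i + 1) by omega, this]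
      congr 2; omega

/-- the matrix with a given code -/
def toM (c : ℕ) : Matrix (Fin 7) (Fin 7) (ZMod 11) := fun i j => (ent c (7 * i + j) : ℕ)

/-- product of codes -/
def mulc (a b : ℕ) : ℕ :=
  hor (fun n => ((List.range 7).map fun k => ent a (7 * (n / 7) + k) * ent b (7 * k + n % 7)).sum) 49 0

theorem toM_mulc (a b : ℕ) : toM (mulc a b) = toM a * toM b := by
  ext i j
  have hi := i.2
  have hj := j.2
  rw [Matrix.mul_apply, toM, mulc, ent_hor _ _ _ _ (by omega), ZMod.natCast_mod, Nat.zero_add,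
    show (7 * i.1 + j.1) / 7 = i.1 by omega, show (7 * i.1 + j.1) % 7 = j.1 by omega]
  simp [toM, Fin.sum_univ_seven, List.range_succ, add_assoc]

/-- code of the unit matrix -/
def onec : ℕ := 6277101736848182401506974708411517874814724153223283736577

theorem toM_onec : toM onec = 1 := by decide +kernel

/-- code of a word -/
def evalc (c : ℕ → ℕ) : List ℕ → ℕ
  | [] => onec
  | g :: w => force (evalc c w) fun r => mulc (c g) r

theorem val_prod {c : ℕ → ℕ} {x : ℕ → Spor.J1} (h : ∀ g, (x g).1.1 = toM (c g)) (w : List ℕ) :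
    ((w.map x).prod).1.1 = toM (evalc c w) := by
  induction w with
  | nil => exact toM_onec.symm
  | cons g w ih => rw [evalc, force_eq, toM_mulc, ← ih, ← h, List.map_cons, List.prod_cons]; rfl

/-- Janko's generators -/
def jxy (i : ℕ) : Spor.J1 :=
  if i = 0 then ⟨Spor.jankoX, subset_closure (by simp)⟩ else ⟨Spor.jankoY, subset_closure (by simp)⟩

/-- their codes -/
def cxy (i : ℕ) : ℕ :=
  if i = 0 then 397528445359450111623404940514766352372066718580752
  else 7480991916830962229115210795734213009165743696062808893992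

theorem val_jxy (i : ℕ) : (jxy i).1.1 = toM (cxy i) := by
  unfold jxy cxy
  split_ifs
  · change jankoMatrixX = _; decide +kernel
  · change jankoMatrixY = _; decide +kernel

/-- words for the five involutions -/
def wd (i : ℕ) : List ℕ :=
  [[1, 1, 1, 0, 1, 1, 1, 0, 1, 1, 1, 0], [1, 0, 0, 0, 1, 0, 0, 0, 1, 1, 1],
    [1, 0, 0, 0, 1, 0, 0, 0, 1, 0, 1, 0, 1, 1, 1], [1, 0, 1, 0, 1, 0, 1, 0, 1, 0],
    [0, 1, 1, 1, 0, 0, 1, 1, 1, 0, 0, 1, 1, 1, 0]].getD i []

/-- the five involutions -/
def jg (i : ℕ) : Spor.J1 := ((wd i).map jxy).prod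

/-- their codes -/
def cg (i : ℕ) : ℕ :=
  [1310903352936494031177480684587411159852679353374818451541,
    26334739808214167768415488149896979317819329213700868970500,
    28775719875955981958766051336891666699454902007119324813364,
    58847852865027827543498583055667007510058370120034851853059,
    53533166609197973030670352073972670427818209712699352766576].getD i onec

theorem val_jg (i : ℕ) : (jg i).1.1 = toM (cg i) := by
  rw [jg, val_prod val_jxy]
  congr 1
  by_cases h : i < 5
  · revert i; decide +kernel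
  · rw [wd, cg, List.getD_eq_default _ _ (by simpa using h), List.getD_eq_default _ _ (by simpa using h)]
    rfl

theorem jg_eq {w : List ℕ} {y : Spor.J1} {c : ℕ} (hy : y.1.1 = toM c) (h : evalc cg w = c) :
    (w.map jg).prod = y :=
  Subtype.ext (Units.ext (by rw [val_prod val_jg, h, hy]))

theorem jg_sq (i : ℕ) : jg i * jg i = 1 := by
  have : evalc cg [i, i] = onec := by
    by_cases h : i < 5
    · revert i; decide +kernel
    · simp only [evalc, force_eq]
      rw [cg, List.getD_eq_default _ _ (by simpa using h)]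
      decide +kernel
  simpa using jg_eq (y := 1) toM_onec.symm this

theorem jg_seven : jg 7 = 1 := rfl

theorem jg_rel : ∀ r ∈ aR, (r.map jg).prod = 1 := fun r hr =>
  jg_eq toM_onec.symm ((by decide +kernel : ∀ r ∈ aR, evalc cg r = onec) r hr)

theorem jg_ne : jg 0 ≠ 1 := fun h => by
  have := val_jg 0
  rw [h] at this
  revert this
  change (1 : Matrix (Fin 7) (Fin 7) (ZMod 11)) ≠ _
  decide +kernel

theorem jg_gen (K : Subgroup Spor.J1) (h : ∀ i, jg i ∈ K) : K = ⊤ := by
  have hw : ∀ w : List ℕ, (w.map jg).prod ∈ K := fun w => K.list_prod_mem fun x hx => by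
    obtain ⟨i, -, rfl⟩ := List.mem_map.mp hx; exact h i
  have hX : jxy 0 ∈ K := jg_eq (val_jxy 0) (w := [1, 2, 1, 0, 2, 3, 4, 3, 2]) (by decide +kernel) ▸ hw _
  have hY : jxy 1 ∈ K := jg_eq (val_jxy 1) (w := [1, 0, 2, 3, 2, 1, 4, 3]) (by decide +kernel) ▸ hw _
  rw [eq_top_iff]
  rintro ⟨x, hx⟩ -
  have : Spor.J1 ≤ K.map Spor.J1.subtype := (closure_le _).mpr (by
    rintro _ (rfl | rfl)
    exacts [⟨_, hX, rfl⟩, ⟨_, hY, rfl⟩])
  obtain ⟨y, hy, rfl⟩ := this hx
  exact hy

/-- the relations bound the order -/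
theorem card_le_J1 {X : Type*} [Group X] [Finite X] {x : ℕ → X} (hx : ∀ g, x g * x g = 1)
    (h7 : x 7 = 1) (h : ∀ r ∈ aR, (r.map x).prod = 1) :
    Nat.card (closure (x '' {g | g ∈ [0, 1, 2, 3, 4]})) ≤ 175560 := by
  have h1 := card_le_of_run hx h7 (by decide) h (by decide) (by decide) (by decide +kernel)
    (by decide +kernel) a_run
  have h2 := card_le_of_run hx h7 (by decide) (fun r hr => h r ((by decide : ∀ r ∈ lR, r ∈ aR) r hr))
    (by decide) (by decide) (by decide +kernel) (by decide +kernel) l_run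
  have h3 := card_le_of_run hx h7 (by decide) (fun r hr => h r ((by decide : ∀ r ∈ fR, r ∈ aR) r hr))
    (by decide) (by decide) (by decide +kernel) (by decide +kernel) f_run
  rw [a_cnt] at h1
  rw [l_cnt] at h2
  rw [f_cnt, show x '' {g | g ∈ ([] : List ℕ)} = ∅ by simp, Subgroup.closure_empty, card_bot] at h3
  omega

/-- a group of order `175560` generated by involutions with Janko's relations maps onto `J₁` -/
theorem exists_hom_J1 {G : Type*} [Group G] [Finite G] (hG : Nat.card G = 175560) {x : ℕ → G}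
    (hx : ∀ g, x g * x g = 1) (h7 : x 7 = 1) (h : ∀ r ∈ aR, (r.map x).prod = 1)
    (hgen : closure (x '' {g | g ∈ [0, 1, 2, 3, 4]}) = ⊤) :
    ∃ φ : G →* Spor.J1, Function.Surjective φ ∧ φ (x 0) ≠ 1 := by
  let y : ℕ → G × Spor.J1 := fun i => (x i, jg i)
  have hy : ∀ r ∈ aR, (r.map y).prod = 1 := fun r hr => by
    ext1
    · rw [← MonoidHom.coe_fst, map_list_prod, List.map_map]; exact h r hr
    · rw [← MonoidHom.coe_snd, map_list_prod, List.map_map]; exact jg_rel r hr
  have hc := card_le_J1 (x := y) (fun g => Prod.ext (hx g) (jg_sq g)) (Prod.ext h7 jg_seven) hy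
  obtain ⟨φ, hφ⟩ := H5.exists_hom_of_graph (closure (y '' {g | g ∈ [0, 1, 2, 3, 4]}))
    (by rw [MonoidHom.map_closure, Set.image_image]; exact hgen) (hG ▸ hc)
  have e : ∀ i < 5, φ (x i) = jg i := fun i hi =>
    hφ (y i) (subset_closure ⟨i, by simp only [Set.mem_ofPred_eq]; revert i; decide, rfl⟩)
  refine ⟨φ, MonoidHom.range_eq_top.mp (jg_gen _ fun i => ?_), e 0 (by norm_num) ▸ jg_ne⟩
  by_cases hi : i < 5
  · exact ⟨_, e i hi⟩
  · rw [jg, wd, List.getD_eq_default _ _ (by simpa using hi)]; exact one_mem _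

end Cfsg.Agent.H7.TC
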