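import Cfsg.Agent.H7.J1C2
import Cfsg.Agent.H7.J1Mat

/-! Janko's theorem: uniqueness of `J₁`. -/

set_option autoImplicit false

namespace Cfsg.Agent.H7

open Subgroup Cfsg.Agent.H8

namespace A5

theorem eq_top (K : Subgroup A5) {x y z : A5} (hx : x ∈ K) (hy : y ∈ K) (hz : z ∈ K)
    (ox : orderOf x = 2) (oy : orderOf y = 3) (oz : orderOf z = 5) : K = ⊤ := by
  have h1 := ox ▸ orderOf_dvd_natCard K hx
  have h2 := oy ▸ orderOf_dvd_natCard K hy
  have h3 := oz ▸ orderOf_dvd_natCard K hz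
  have h4 := K.card_mul_index
  rw [card] at h4
  obtain ⟨m, hm⟩ : 30 ∣ Nat.card K := by omega
  have h5 : m * K.index = 2 := by rw [hm] at h4; nlinarith
  rcases (Nat.dvd_prime Nat.prime_two).mp (Dvd.intro_left _ h5) with e | e
  · exact index_eq_one.mp e
  · rw [eq_top_iff]
    intro g _
    obtain ⟨a, b, rfl⟩ := exists_comm g
    simp only [mul_mem_iff_of_index_two e, inv_mem_iff]
    tauto

theorem exists_inv_mul : ∀ z : A5, z ≠ 1 → ∃ g : A5, ∃ k < 3,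
    z * (g * z ^ k * g⁻¹) ≠ 1 ∧ z * (g * z ^ k * g⁻¹) * (z * (g * z ^ k * g⁻¹)) = 1 := by
  decide +kernel

end A5

namespace Jk

variable {G : Type*} [Group G]

/-- five generators -/
def gens (a b c d e : G) (i : ℕ) : G := [a, b, c, d, e].getD i 1

theorem gens_sq {a b c d e : G} (ha : a * a = 1) (hb : b * b = 1) (hc : c * c = 1) (hd : d * d = 1)
    (he : e * e = 1) (i : ℕ) : gens a b c d e i * gens a b c d e i = 1 := by
  rcases i with _ | _ | _ | _ | _ | i <;> simp [gens, *]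

theorem sq_of_cm {a b : G} (ha : a * a = 1) (hb : b * b = 1) (c : Commute a b) :
    a * (b * (a * b)) = 1 := by
  rw [← mul_assoc b, ← c.eq, mul_assoc, hb, mul_one, ha]

theorem rels {a b c d e : G} (ha : a * a = 1) (hb : b * b = 1) (hc : c * c = 1) (hd : d * d = 1)
    (he : e * e = 1) (h1 : (a * b) ^ 3 = 1) (h2 : Commute a c) (h3 : Commute a d) (h4 : Commute a e)
    (h5 : Commute b d) (h6 : Commute b e) (h7 : Commute c e) (h8 : (c * d) ^ 3 = 1)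
    (h9 : (d * e) ^ 5 = 1) (h10 : (a * b * c) ^ 5 = 1) :
    ((b * c) ^ 5 = 1 → (c * d * e) ^ 5 * a = 1 → ∀ r ∈ TC.aR, (r.map (gens a b c d e)).prod = 1) ∧
    ((b * c) ^ 5 * e = 1 → (c * d * e) ^ 5 = 1 →
      ∀ r ∈ TC.bR, (r.map (gens a b c d e)).prod = 1) := by
  have k2 := sq_of_cm ha hc h2
  have k3 := sq_of_cm ha hd h3
  have k4 := sq_of_cm ha he h4
  have k5 := sq_of_cm hb hd h5
  have k6 := sq_of_cm hb he h6
  have k7 := sq_of_cm hc he h7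
  simp only [pow_succ, pow_zero, one_mul, mul_assoc] at h1 h8 h9 h10 ⊢
  refine ⟨fun h11 h12 => ?_, fun h11 h12 => ?_⟩ <;>
    simp only [TC.aR, TC.bR, List.forall_mem_cons, List.map_cons, List.map_nil, List.prod_cons,
      List.prod_nil, mul_one, gens, List.getD_cons_succ, List.getD_cons_zero] <;>
    exact ⟨h1, k2, k3, k4, k5, k6, k7, h8, h9, h11, h10, h12, by simp⟩

theorem Jan.of_one {t : G} {φ : A5 →* G} (j : JT t φ) (hc : ∀ u, Iv u → ∃ g, g * t * g⁻¹ = u) :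
    Jan G where
  ex := ⟨t, j.iv⟩
  jt u hu := by obtain ⟨g, rfl⟩ := hc u hu; exact ⟨_, j.conj g⟩
  cj u v hu hv := by
    obtain ⟨g, rfl⟩ := hc u hu
    obtain ⟨k, rfl⟩ := hc v hv
    exact ⟨k * g⁻¹, by group⟩

theorem JT.subgroup {t : G} {φ : A5 →* G} (j : JT t φ) {H : Subgroup G} (ht : t ∈ H)
    (hφ : ∀ x, φ x ∈ H) : JT (⟨t, ht⟩ : H) (φ.codRestrict H hφ) where
  iv := ⟨Subtype.ext j.iv.1, fun e => j.iv.2 (congrArg Subtype.val e)⟩
  inj _ _ e := j.inj (congrArg Subtype.val e)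
  comm x := Subtype.ext (j.comm x)
  ne x e := j.ne x (congrArg Subtype.val e)
  cen g hg := by
    obtain ⟨x, e⟩ := j.cen g (congrArg Subtype.val hg)
    exact ⟨x, e.imp Subtype.ext Subtype.ext⟩

theorem JT.ord {t : G} {φ : A5 →* G} (j : JT t φ) {x : A5} {p : ℕ} (hp : p.Prime) (h1 : x ≠ 1)
    (h2 : x ^ p = 1) : orderOf x = p ∧ orderOf (φ x) = p := by
  have : Fact p.Prime := ⟨hp⟩
  rw [orderOf_injective φ j.inj, and_self]
  exact orderOf_eq_prime h2 h1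

namespace Jan

variable (h : Jan G)
include h

theorem tour {t e : G} {φ : A5 →* G} (j : JT t φ) (he : Iv e) (c : Commute e t) (ne : e ≠ t) :
    ∃ ψ, JT e ψ ∧ ((∃ x, e = φ x) ↔ ¬ ∃ x, t = ψ x) := by
  obtain ⟨g, rfl⟩ := h.cj t e j.iv he
  have j' := j.conj g
  refine ⟨_, j', ?_⟩
  have key : ∀ k, (k * (g * (g * t * g⁻¹) * g⁻¹) * k⁻¹ = t) → Commute k (g * t * g⁻¹) → False :=
    fun k h1 h2 => by
      have e1 : k * g * t * (k * g)⁻¹ = g * t * g⁻¹ := by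
        rw [← conj_eq_of_cm h2]; group
      have e2 : k * g * (g * t * g⁻¹) * (k * g)⁻¹ = t := Eq.trans (by group) h1
      refine h.chi (j.iv.mul he c ne) ((Commute.refl t).mul_right c.symm) rfl (m := k * g)
        (cm_of_conj_eq (by rw [cj_mul', e1, e2, c.eq])) ?_
      rw [e1, he.1, orderOf_one]; exact odd_one
  obtain ⟨u, u1, u2, hu⟩ := j.inv_cases he c ne
  obtain ⟨w, w1, w2, hw⟩ := j'.inv_cases j.iv c.symm ne.symm
  obtain ⟨k, hk⟩ := A5.conj_two u u1 u2 w w1 w2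
  have e3 : ∀ x, ((MulAut.conj g).toMonoidHom.comp φ) x = g * φ x * g⁻¹ := fun _ => rfl
  generalize (MulAut.conj g).toMonoidHom.comp φ = ψ at j' hw e3 ⊢
  have e4 : ψ k * ψ u * (ψ k)⁻¹ = ψ w := by rw [← hk]; simp
  rcases hu with hu | hu <;> rcases hw with hw | hw
  · exact (key (ψ k) (by rw [hu, ← e3, e4, ← hw]) (j'.comm k)).elim
  · exact ⟨fun _ ⟨x, e⟩ => j'.mul_ne _ _ (hw ▸ e), fun _ => ⟨u, hu⟩⟩
  · exact ⟨fun ⟨x, e⟩ => (j.mul_ne _ _ (hu ▸ e)).elim, fun e => (e ⟨w, hw⟩).elim⟩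
  · refine (key (ψ k) ?_ (j'.comm k)).elim
    conv_lhs => rw [hu]
    rw [cj_mul' g, ← e3, cj_mul', e4, conj_eq_of_cm (j'.comm k), ← hw]

variable [Finite G]

theorem normal_eq_bot (K : Subgroup G) [hK : K.Normal] (hv : ∀ v, Iv v → v ∉ K) : K = ⊥ := by
  have hW : ∀ k ∈ K, k ≠ 1 → W k := fun k hk k1 => ⟨k1, Nat.Coprime.symm
    (Nat.coprime_of_dvd fun r hr h1 h2 => by
      have hz : orderOf (k ^ (orderOf k / r)) = r := orderOf_pow_orderOf_div (orderOf_pos k).ne' h2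
      have zK := pow_mem hk (orderOf k / r)
      have h3 : r = 2 ∨ r = 3 ∨ r = 5 := by
        have := Nat.le_of_dvd (by norm_num) h1
        interval_cases r <;> simp_all (config := { decide := true })
      rcases h3 with rfl | h3
      · exact hv _ (Iv.of_ord hz) zK
      obtain ⟨t, ht⟩ := h.exists_YT (hz ▸ h3)
      obtain ⟨φ, j⟩ := h.jt t ht.iv
      obtain ⟨x, -, e⟩ := j.odd ht.c ht.odd
      obtain ⟨g, n, -, g1, g2⟩ := A5.exists_inv_mul x (j.ne_one.mp (e ▸ ht.ne))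
      refine hv _ ⟨j.sq.mpr g2, j.ne_one.mpr g1⟩ ?_
      simp only [map_mul, map_inv, map_pow, ← e]
      exact mul_mem zK (hK.conj_mem _ (pow_mem zK n) _))⟩
  have key : ∀ g, Iv g → ∀ k ∈ K, g * k * g⁻¹ = k⁻¹ := fun g hg k hk =>
    H6.inverts_of_fpf' (by rw [normalizer_eq_top]; trivial) hg.1
      (fun b hb c => by_contra fun b1 => h.not_cm (hW b hb b1) hg (Commute.symm c)) hk
  obtain ⟨y, t, hy, -⟩ := h.exists_ord (Or.inl rfl)
  obtain ⟨s, s1, s2, s3⟩ := h.exists_inv hy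
  have ne : s ≠ t := fun e => hy.ne (eq_one_of_inv hy.odd s3 (mem_zpowers y) (e ▸ hy.c))
  refine eq_bot_iff.mpr fun x hx => by_contra fun x1 => ?_
  refine h.not_cm (hW x hx x1) (hy.iv.mul s1 s2 ne) (cm_of_conj_eq ?_)
  rw [show t * s * x * (t * s)⁻¹ = t * (s * x * s⁻¹) * t⁻¹ by group, key s s1 x hx, ← conj_inv,
    key t hy.iv x hx, inv_inv]

theorem eq_top {t e : G} {φ ψ : A5 →* G} (j : JT t φ) (j' : JT e ψ) {a c w : A5} (ha : t = ψ a)
    (hc : t * φ w = ψ c) (w1 : w ≠ 1) (w2 : w * w = 1) (H : Subgroup G) (hφ : ∀ x, φ x ∈ H)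
    (hψ : ∀ x, ψ x ∈ H) : H = ⊤ := by
  have ht : t ∈ H := ha ▸ hψ a
  have hw : Iv (φ w) := ⟨j.sq.mpr w2, j.ne_one.mpr w1⟩
  obtain ⟨f1, f2⟩ := h.four j.iv hw (j.comm w) (j.ne w)
  have hS : IsSylowIn 2 (centralizer {t} ⊓ centralizer {φ w}) H := by
    refine (IsSylowIn.of_not_dvd_relIndex le_top (H6.isPGroup_two_of_mul_self fun g hg =>
      f1 g (mem_centralizer_singleton_iff.mp (mem_inf.mp hg).1)
        (mem_centralizer_singleton_iff.mp (mem_inf.mp hg).2)) ?_).of_le (fun g hg => ?_) le_top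
    · have := (centralizer {t} ⊓ centralizer {φ w}).card_mul_index
      rw [h.card_eq.1, f2] at this
      rw [relIndex_top_right]
      omega
    · obtain ⟨x, rfl | rfl⟩ := j.cen g (mem_centralizer_singleton_iff.mp hg.1)
      exacts [hφ x, mul_mem ht (hφ x)]
  have a1 : a ≠ 1 ∧ a * a = 1 := ⟨j'.ne_one.mp (ha ▸ j.iv.2), j'.sq.mp (ha ▸ j.iv.1)⟩
  have k1 : ∀ x, Iv (ψ x) → ∃ g ∈ H, g * t * g⁻¹ = ψ x := fun x hx => by
    obtain ⟨k, rfl⟩ := A5.conj_two a a1.1 a1.2 x (j'.ne_one.mp hx.2) (j'.sq.mp hx.1)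
    exact ⟨ψ k, hψ k, by simp [ha]⟩
  have key : ∀ v ∈ H, Iv v → ∃ g ∈ H, g * t * g⁻¹ = v := fun v hv v1 => by
    obtain ⟨Q, q1, q2⟩ := exists_isSylowIn_ge (p := 2) (Q := zpowers v) (K := H)
      (IsPGroup.of_card (n := 1) (by rw [Nat.card_zpowers, v1.ord]; rfl)) (zpowers_le.mpr hv)
    obtain ⟨k, k2, k3⟩ := q1.exists_cj_eq hS
    have k4 := conj_mem_cj k (q2 (mem_zpowers v))
    rw [k3] at k4
    suffices ∃ g ∈ H, g * t * g⁻¹ = k * v * k⁻¹ by
      obtain ⟨g, g1, g2⟩ := this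
      exact ⟨k⁻¹ * g, mul_mem (inv_mem k2) g1, by
        rw [show k⁻¹ * g * t * (k⁻¹ * g)⁻¹ = k⁻¹ * (g * t * g⁻¹) * k by group, g2]; group⟩
    by_cases e : k * v * k⁻¹ = t
    · exact ⟨1, one_mem _, by rw [e]; group⟩
    obtain ⟨u, u1, u2, hu⟩ := j.inv_cases (v1.conj k) (mem_centralizer_singleton_iff.mp k4.1) e
    obtain ⟨n, rfl⟩ := A5.conj_two w w1 w2 u u1 u2
    rcases hu with hu | hu
    · have e : φ w = ψ (a * c) := by rw [map_mul, ← ha, ← hc, j.iv.cancel]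
      obtain ⟨g, g1, g2⟩ := k1 _ (e ▸ hw)
      exact ⟨φ n * g, mul_mem (hφ n) g1, by
        rw [hu, map_mul, map_mul, e, ← g2, map_inv]; group⟩
    · obtain ⟨g, g1, g2⟩ := k1 _ (hc ▸ j.iv.mul hw (j.comm w) (j.ne w))
      exact ⟨φ n * g, mul_mem (hφ n) g1, by
        rw [hu, map_mul, map_mul, map_inv,
          show φ n * g * t * (φ n * g)⁻¹ = φ n * (g * t * g⁻¹) * (φ n)⁻¹ by group, g2, ← hc, cj_mul',
          conj_eq_of_cm (j.comm n)]⟩
  have := (Jan.of_one (j.subgroup ht hφ) fun u hu => by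
    obtain ⟨g, g1, g2⟩ := key u u.2
      ⟨congrArg Subtype.val hu.1, fun e => hu.2 (Subtype.ext e)⟩
    exact ⟨⟨g, g1⟩, Subtype.ext g2⟩).card_eq.1
  exact eq_top_of_card_eq _ (this.trans h.card_eq.1.symm)

/-- Janko's theorem -/
theorem isoJ1 : Spor.IsoJ1 G := by
  obtain ⟨t, ht⟩ := h.ex
  obtain ⟨φ, j⟩ := h.jt t ht
  obtain ⟨u, y0, u1, u2, y1, y2, y3, hw⟩ : ∃ u y : A5, u ≠ 1 ∧ u * u = 1 ∧ y ≠ 1 ∧ y ^ 5 = 1 ∧
      u * y * u⁻¹ = y⁻¹ ∧ ∃ v, v * u = u * v ∧ ∀ c, c = v ∨ c = u * v → c * c = 1 ∧ c ≠ 1 ∧ c ≠ u ∧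
        c * u = u * c ∧ ∃ d, d * d = 1 ∧ (d * u = y ∨ d * u = y ^ 2) ∧ (d * u) ^ 5 = 1 ∧ d * u ≠ 1 ∧
          (c * d) ^ 3 = 1 ∧ c * d ≠ 1 ∧ (c * d * u) ^ 5 = 1 := by
    refine ⟨A5.mk 3, A5.mk 14 * A5.mk 3, by decide +kernel, by decide +kernel, by decide +kernel,
      by decide +kernel, by decide +kernel, A5.mk 8, by decide +kernel, ?_⟩
    rintro c (rfl | rfl)
    · exact ⟨by decide +kernel, by decide +kernel, by decide +kernel, by decide +kernel, A5.mk 14,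
        by decide +kernel⟩
    · exact ⟨by decide +kernel, by decide +kernel, by decide +kernel, by decide +kernel, A5.mk 53,
        by decide +kernel⟩
  obtain ⟨v, v1, hw⟩ := hw
  have oy := (j.ord (by norm_num) y1 y2).2
  have hy : YT (φ y0) t := ⟨ht, j.comm _, j.ne_one.mpr y1, by rw [oy]; decide⟩
  have hs : Iv (φ u) := ⟨j.sq.mpr u2, j.ne_one.mpr u1⟩
  have hi : φ u * φ y0 * (φ u)⁻¹ = (φ y0)⁻¹ := by rw [← map_inv φ y0, ← y3]; simp
  obtain ⟨x, e, he, x1, x2, x3, x4, -⟩ :=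
    (h.two_cases hy hs (j.comm u) hi).resolve_left (h.card_eq.2 _ _ hy)
  obtain ⟨e1, e2, e3, e4⟩ : Iv e ∧ Commute e t ∧ e * φ y0 * e⁻¹ = (φ y0)⁻¹ ∧ e ≠ t := by
    rcases he with rfl | rfl
    exacts [⟨hs, j.comm u, hi, j.ne u⟩, ⟨ht.mul hs (j.comm u) (j.ne u),
      (Commute.refl t).mul_left (j.comm u), mul_inv_of hy.c hi, fun e => hs.2 (by simpa using e)⟩]
  have ox : x ^ 3 = 1 := by
    have := h.ord ⟨e1, x3, x2, x1.2⟩
    rw [← show orderOf x = 3 by omega, pow_orderOf_eq_one]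
  have tx := h.inv_of_cm hy e2 e3 x1 x3
  have b1 := ht.conj x
  have tb : t * (x * t * x⁻¹) = x := by
    rw [show t * (x * t * x⁻¹) = t * x * t⁻¹ * (t * t) * x⁻¹ by group, tx, ht.1, mul_one,
      ← mul_inv_rev, inv_eq_iff_mul_eq_one, ← ox]
    simp [pow_succ]
  have be : Commute (x * t * x⁻¹) e := by
    have := cm_conj e2.symm x; rwa [conj_eq_of_cm x3] at this
  have bd : ∀ d, d * u = y0 ∨ d * u = y0 ^ 2 → Commute (x * t * x⁻¹) (φ (d * u)) := fun d hd => by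
    have := cm_conj hy.c.symm x
    rw [conj_eq_of_cm x1.1] at this
    rcases hd with e | e <;> rw [e]
    exacts [this, by rw [map_pow]; exact this.pow_right 2]
  obtain ⟨ψ, j', hψ⟩ := h.tour j e1 e2 e4
  obtain ⟨x0, -, hx0⟩ := j'.odd x3 x1.2
  obtain ⟨a, a1, a2, ha⟩ := j'.inv_cases ht e2.symm e4.symm
  have cv : ∀ c, c * u = u * c → Commute (φ c) e := fun c hc => by
    rcases he with rfl | rfl
    exacts [j.cm.mpr hc, (j.comm c).mul_right (j.cm.mpr hc)]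
  have cuv : u * v * u = u * (u * v) := by rw [mul_assoc, v1]
  have rel : ∀ c, c * c = 1 → c ≠ 1 → c ≠ a → a * c = c * a → ψ (a * (x0 * a * x0⁻¹)) = x →
      (x0 * a * x0⁻¹ * c) ^ 5 = 1 ∧ (a * (x0 * a * x0⁻¹) * c) ^ 5 = 1 := fun c c1 c2 c3 c4 c5 =>
    A5.rel_bc a a1 a2 _ (by rw [conj_mul, a2]; simp) (fun e => x2 (by rw [← c5, e, a2, map_one]))
      (j'.inj (by rw [map_pow, c5, ox, map_one])) c c1 c2 c3 c4
  rcases he with he | he
  · exfalso
    have ha := ha.resolve_left fun e => hψ.mp ⟨u, he⟩ ⟨a, e⟩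
    obtain ⟨c, c0, hc, hc0⟩ : ∃ c c0, (c = v ∨ c = u * v) ∧ φ c = ψ c0 := by
      obtain ⟨p, hp | hp⟩ := j'.cen _ (cv v v1)
      · exact ⟨v, p, Or.inl rfl, hp⟩
      · exact ⟨u * v, p, Or.inr rfl, by rw [map_mul, hp, ← he, e1.cancel]⟩
    obtain ⟨c1, c2, c3, c4, d, d1, d2, d3, d4, d5, d6, d7⟩ := hw c hc
    have hb : x * t * x⁻¹ = e * ψ (x0 * a * x0⁻¹) := by
      rw [ha, cj_mul', conj_eq_of_cm x3, hx0]; simp
    obtain ⟨r1, r2⟩ := rel c0 (j'.sq.mp (hc0 ▸ j.sq.mpr c1)) (j'.ne_one.mp (hc0 ▸ j.ne_one.mpr c2))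
      (fun e => j.mul_ne c u (by rw [hc0, e, ← he, ha, mul_assoc, ← map_mul, a2, map_one, mul_one]))
      (j'.cm'.mp (ha ▸ hc0 ▸ (j.comm c).symm)) (by rw [← j'.mul_mul, ← ha, ← hb, tb])
    have m := TC.mem_of_run (gens_sq ht.1 b1.1 (j.sq.mpr c1) (j.sq.mpr d1) e1.1) rfl (by decide)
      ((rels ht.1 b1.1 (j.sq.mpr c1) (j.sq.mpr d1) e1.1 (by rw [tb, ox]) (j.comm c).symm
        (j.comm d).symm e2.symm (by
          have := (bd d d2).mul_right be
          rwa [he, ← map_mul, mul_assoc d, u2, mul_one] at this) be (cv c c4)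
        (by rw [← map_mul, ← map_pow, d5, map_one]) (by rw [he, ← map_mul, ← map_pow, d3, map_one])
        (by rw [hb, hc0]; nth_rewrite 1 [ha]
            rw [j'.mul_mul, ← map_mul, ← map_pow, r2, map_one])).2
        (by rw [hb, hc0, mul_assoc, ← map_mul, (j'.comm _).symm.mul_pow, ← map_pow, r1, map_one,
          mul_one, ← pow_succ, show 5 + 1 = 2 * 3 from rfl, pow_mul, sq, e1.1, one_pow])
        (by rw [he, ← map_mul, ← map_mul, ← map_pow, d7, map_one]))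
      (centralizer {t}) (sub := [0, 2, 3, 4]) (by
        simp only [List.forall_mem_cons, mem_centralizer_singleton_iff]
        exact ⟨⟨by norm_num, rfl⟩, ⟨by norm_num, j.comm c⟩, ⟨by norm_num, j.comm d⟩,
          ⟨by norm_num, e2⟩, by simp⟩) (g := 1) (by norm_num) TC.b_run
    have m' : Commute (x * t * x⁻¹) t := mem_centralizer_singleton_iff.mp m
    refine x2 (eq_one_of_odd x1.2 ?_)
    rw [← tb, mul_assoc, ← mul_assoc _ t, m'.eq, mul_assoc, b1.1, mul_one, ht.1]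
  have ha := ha.resolve_right fun e' => by
    obtain ⟨z, hz⟩ := hψ.mpr fun ⟨z, hz⟩ => j'.mul_ne _ _ (e' ▸ hz)
    exact j.mul_ne _ _ (he ▸ hz)
  obtain ⟨c, c0, hc, hc0⟩ : ∃ c c0, (c = v ∨ c = u * v) ∧ t * φ c = ψ c0 := by
    obtain ⟨p, hp | hp⟩ := j'.cen _ (e2.symm.mul_left (cv v v1))
    · exact ⟨v, p, Or.inl rfl, hp⟩
    · refine ⟨u * v, a * p, Or.inr rfl, ?_⟩
      rw [map_mul ψ, ← ha, ← e1.cancel (ψ p), ← hp, he, j.mul_mul]
  obtain ⟨c1, c2, c3, c4, d, d1, d2, d3, d4, d5, d6, d7⟩ := hw c hc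
  have hb : x * t * x⁻¹ = ψ (x0 * a * x0⁻¹) := by rw [ha, hx0]; simp
  obtain ⟨r1, r2⟩ := rel c0 (j'.sq.mp (hc0 ▸ j.sq'.mpr c1))
    (j'.ne_one.mp (by rw [← hc0, ← map_one φ]; exact j.mul_ne _ _))
    (fun e => j.ne_one.mpr c2 (by rw [e, ← ha] at hc0; simpa using hc0))
    (j'.cm.mp (ha ▸ hc0 ▸ (Commute.refl t).mul_right (j.comm c).symm))
    (by rw [map_mul, ← ha, ← hb, tb])
  have hsq := gens_sq ht.1 b1.1 (j.sq'.mpr c1) (j.sq'.mpr d1) e1.1
  have hrel := (rels ht.1 b1.1 (j.sq'.mpr c1) (j.sq'.mpr d1) e1.1 (by rw [tb, ox])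
    ((Commute.refl t).mul_right (j.comm c).symm) ((Commute.refl t).mul_right (j.comm d).symm) e2.symm
    (by
      have := (bd d d2).mul_right be
      rwa [← j.mul_mul, ← he, mul_assoc _ e, e1.1, mul_one] at this) be (e2.symm.mul_left (cv c c4))
    (by rw [j.mul_mul, ← map_pow, d5, map_one]) (by rw [he, j.mul_mul, ← map_pow, d3, map_one])
    (by rw [hb, hc0, ha, ← map_mul, ← map_mul, ← map_pow, r2, map_one])).1
    (by rw [hb, hc0, ← map_mul, ← map_pow, r1, map_one])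
    (by rw [j.mul_mul, he, ← mul_assoc, (j.comm _).eq, mul_assoc, ← map_mul,
      (j.comm _).symm.mul_pow, ← map_pow, d7, map_one, mul_one, ← pow_succ,
      show 5 + 1 = 2 * 3 from rfl, pow_mul, sq, ht.1, one_pow])
  obtain ⟨f, f1, f2⟩ := TC.exists_hom_J1 h.card_eq.1 hsq rfl hrel (by
    generalize hK : closure (gens t (x * t * x⁻¹) (t * φ c) (t * φ d) e '' _) = K
    have m : ∀ i < 5, gens t (x * t * x⁻¹) (t * φ c) (t * φ d) e i ∈ K := fun i hi =>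
      hK ▸ subset_closure ⟨i, by simp only [Set.mem_ofPred_eq]; revert i; decide, rfl⟩
    have m0 : t ∈ K := m 0 (by norm_num)
    have m1 : x * t * x⁻¹ ∈ K := m 1 (by norm_num)
    have m2 : t * φ c ∈ K := m 2 (by norm_num)
    have m3 : t * φ d ∈ K := m 3 (by norm_num)
    have m4 : e ∈ K := m 4 (by norm_num)
    refine h.eq_top j j' ha hc0 c2 c1 K (fun z => ?_) fun z => ?_
    · have := A5.eq_top (K.comap φ) (x := c) (y := c * d) (z := d * u)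
        ((mul_mem_cancel_left m0).mp m2) (by rw [mem_comap, ← j.mul_mul]; exact mul_mem m2 m3)
        (by rw [mem_comap, ← j.mul_mul, ← he]; exact mul_mem m3 m4)
        (H4.orderOf_eq_two_of c1 c2) (j.ord (by norm_num) d6 d5).1 (j.ord (by norm_num) d4 d3).1
      exact (this ▸ mem_top z : z ∈ K.comap φ)
    · have := A5.eq_top (K.comap ψ) (x := a) (y := x0) (z := x0 * a * x0⁻¹ * c0)
        (by rwa [mem_comap, ← ha]) (by rw [mem_comap, ← hx0, ← tb]; exact mul_mem m0 m1)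
        (by rw [mem_comap, map_mul, ← hb, ← hc0]; exact mul_mem m1 m2)
        (H4.orderOf_eq_two_of a2 a1) (j'.ord (by norm_num) (j'.ne_one.mp (hx0 ▸ x2))
          (j'.inj (by rw [map_pow, ← hx0, ox, map_one]))).1 (j'.ord (by norm_num) (fun e' => ?_) r1).1
      · exact (this ▸ mem_top z : z ∈ K.comap ψ)
      · have e5 : x * t * x⁻¹ * (t * φ c) = 1 := by rw [hb, hc0, ← map_mul, e', map_one]
        have e6 : x * t * x⁻¹ = (t * φ c)⁻¹ := eq_inv_of_mul_eq_one_left e5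
        have m' : Commute (x * t * x⁻¹) t :=
          e6 ▸ ((Commute.refl t).mul_left (j.comm c)).inv_left
        refine x2 (eq_one_of_odd x1.2 ?_)
        rw [← tb, mul_assoc, ← mul_assoc _ t, m'.eq, mul_assoc, b1.1, mul_one, ht.1])
  refine ⟨MulEquiv.ofBijective f ⟨(MonoidHom.ker_eq_bot_iff f).mp
    (h.normal_eq_bot _ fun w hw hk => f2 ?_), f1⟩⟩
  obtain ⟨g, rfl⟩ := h.cj w t hw ht
  exact (MonoidHom.normal_ker f).conj_mem w hk g

end Jan

end Jk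

end Cfsg.Agent.H7
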