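import Cfsg.Agent.H7.J1U

/-! Involutions with centralizer `2 × A`: generalities and alternating groups of large degree. -/

set_option autoImplicit false

namespace Cfsg.Agent.H7.Jk

open Subgroup Cfsg.Agent.H8

variable {G : Type*} [Group G] {A : Type*} [Group A]

structure JG (t : G) (φ : A →* G) : Prop where
  iv : Iv t
  inj : Function.Injective φ
  comm : ∀ x, Commute (φ x) t
  ne : ∀ x, φ x ≠ t
  cen : ∀ g, Commute g t → ∃ x, g = φ x ∨ g = t * φ x

namespace JG

variable {t : G} {φ : A →* G} (h : JG t φ)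
include h

theorem cm {x y : A} : Commute (φ x) (φ y) ↔ x * y = y * x := by
  rw [Commute, SemiconjBy, ← map_mul, ← map_mul, h.inj.eq_iff]

theorem cm' {x y : A} : Commute (t * φ x) (φ y) ↔ x * y = y * x := by
  rw [← h.cm]
  refine ⟨fun e => ?_, fun e => (h.comm y).symm.mul_left e⟩
  have := (h.comm y).symm.mul_left e
  rwa [h.iv.cancel] at this

theorem ne_one {x : A} : φ x ≠ 1 ↔ x ≠ 1 := by
  rw [← map_one φ, h.inj.ne_iff]

theorem sq {x : A} : φ x * φ x = 1 ↔ x * x = 1 := by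
  rw [← map_mul, ← map_one φ, h.inj.eq_iff]

theorem mul_mul (x y : A) : t * φ x * (t * φ y) = φ (x * y) := by
  rw [mul_assoc, ← mul_assoc (φ x), (h.comm x).eq, mul_assoc, h.iv.cancel, map_mul]

theorem sq' {x : A} : t * φ x * (t * φ x) = 1 ↔ x * x = 1 := by
  rw [h.mul_mul, ← map_one φ, h.inj.eq_iff]

theorem mul_ne (x y : A) : t * φ x ≠ φ y := fun e =>
  h.ne (y * x⁻¹) (by rw [map_mul, map_inv, ← e, mul_inv_cancel_right])

theorem comm' (x : A) : Commute (t * φ x) t := (Commute.refl t).mul_left (h.comm x)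

theorem conj (n : G) : JG (n * t * n⁻¹) ((MulAut.conj n).toMonoidHom.comp φ) where
  iv := h.iv.conj n
  inj := (MulAut.conj n).injective.comp h.inj
  comm x := cm_conj (h.comm x) n
  ne x e := h.ne x ((MulAut.conj n).injective e)
  cen g hg := by
    have := cm_conj hg n⁻¹
    rw [show n⁻¹ * (n * t * n⁻¹) * n⁻¹⁻¹ = t by group] at this
    obtain ⟨x, e | e⟩ := h.cen _ this
    · exact ⟨x, Or.inl (by simp [← e, mul_assoc])⟩
    · refine ⟨x, Or.inr ?_⟩
      change g = n * t * n⁻¹ * (n * φ x * n⁻¹)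
      rw [_root_.conj_mul, ← e]; group

theorem comp {B : Type*} [Group B] (e : B ≃* A) : JG t (φ.comp e.toMonoidHom) where
  iv := h.iv
  inj := h.inj.comp e.injective
  comm x := h.comm _
  ne x := h.ne _
  cen g hg := by
    obtain ⟨x, hx⟩ := h.cen g hg
    exact ⟨e.symm x, by simpa using hx⟩

theorem ncard [Finite A] (P : G → Prop) :
    {g | Commute g t ∧ P g}.ncard = {x | P (φ x)}.ncard + {x | P (t * φ x)}.ncard := by
  have : {g | Commute g t ∧ P g} = φ '' {x | P (φ x)} ∪ (fun x => t * φ x) '' {x | P (t * φ x)} := by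
    ext g
    constructor
    · rintro ⟨h1, h2⟩
      obtain ⟨x, rfl | rfl⟩ := h.cen g h1
      exacts [Or.inl ⟨x, h2, rfl⟩, Or.inr ⟨x, h2, rfl⟩]
    · rintro (⟨x, hx, rfl⟩ | ⟨x, hx, rfl⟩)
      exacts [⟨h.comm x, hx⟩, ⟨h.comm' x, hx⟩]
  rw [this, Set.ncard_union_eq, Set.ncard_image_of_injective _ h.inj,
    Set.ncard_image_of_injective _ fun a b e => h.inj (mul_left_cancel e)]
  rw [Set.disjoint_left]
  rintro _ ⟨a, -, rfl⟩ ⟨b, -, e⟩
  exact h.mul_ne _ _ e

theorem card_cent [Finite A] : Nat.card (centralizer ({t} : Set G)) = 2 * Nat.card A := by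
  have := h.ncard fun _ => True
  simp only [and_true, Set.ofPred_true, Set.ncard_univ] at this
  rw [← H6.ncard_subgroup, two_mul, ← this]
  congr 1
  ext g
  exact mem_centralizer_singleton_iff

theorem sq_mem {g : G} (hg : Commute g t) : ∃ x, g * g = φ x := by
  obtain ⟨x, rfl | rfl⟩ := h.cen g hg
  exacts [⟨_, (map_mul φ x x).symm⟩, ⟨_, h.mul_mul x x⟩]

theorem thompson [Finite G] (h2 : ∀ K : Subgroup G, K.index ≠ 2)
    (ho : Odd (centralizer ({t} : Set G)).index) {u : G} (hu : Iv u) :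
    ∃ g x, x ≠ 1 ∧ x * x = 1 ∧ g * u * g⁻¹ = φ x := by
  have : Finite A := Finite.of_injective _ h.inj
  have hle : φ.range ≤ centralizer {t} := by
    rintro _ ⟨x, rfl⟩
    exact mem_centralizer_singleton_iff.mpr (h.comm x)
  have hr : φ.range.relIndex (centralizer {t}) = 2 := by
    have := H9.card_mul_relIndex hle
    rw [h.card_cent, ← Nat.card_congr (MonoidHom.ofInjective h.inj).toEquiv, mul_comm] at this
    exact Nat.eq_of_mul_eq_mul_right Nat.card_pos this
  obtain ⟨g, x, hx⟩ := H6.thompson_transfer h2 ho hr (t := u) (by rw [pow_two, hu.1])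
  have := hu.conj g⁻¹
  rw [inv_inv, ← hx] at this
  exact ⟨g⁻¹, x, h.ne_one.mp this.2, h.sq.mp this.1, by rw [inv_inv, hx]⟩

end JG

theorem exists_JG {t : G} (ht : Iv t) {T : Subgroup G} (e : T ≃* A)
    (hd : IsInternalDirectProduct (zpowers t) T (centralizer ({t} : Set G))) :
    ∃ φ : A →* G, JG t φ := by
  obtain ⟨-, h2, h3, h4, h5⟩ := hd
  refine ⟨T.subtype.comp e.symm.toMonoidHom, ht, T.subtype_injective.comp e.symm.injective,
    fun x => (h3 t (mem_zpowers t) _ (e.symm x).2).symm, fun x hx => ht.2 ?_, fun g hg => ?_⟩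
  · exact mem_bot.mp (h4 ▸ mem_inf.mpr ⟨mem_zpowers t, hx ▸ (e.symm x).2⟩)
  · have hg' : g ∈ zpowers t ⊔ T := h5 ▸ mem_centralizer_singleton_iff.mpr hg
    have hn : T ≤ normalizer ((zpowers t : Subgroup G) : Set G) := fun b hb =>
      centralizer_le_normalizer _ (mem_centralizer_iff.mpr fun a ha => h3 a ha b hb)
    rw [← SetLike.mem_coe, coe_mul_of_right_le_normalizer_left _ _ hn] at hg'
    obtain ⟨a, ha, b, hb, rfl⟩ := hg'
    refine ⟨e ⟨b, hb⟩, ?_⟩
    rcases ht.mem_zp ha with rfl | rfl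
    · exact Or.inl (by simp)
    · exact Or.inr (by simp)

section perm

open Equiv Equiv.Perm

variable {α : Type*} [DecidableEq α] [Fintype α]

omit [Fintype α] in
theorem swap_comm_of {a b c d : α} (h1 : c ≠ a) (h2 : c ≠ b) (h3 : d ≠ a) (h4 : d ≠ b) :
    Commute (swap a b) (swap c d) := by
  rw [Commute, SemiconjBy, mul_swap_eq_swap_mul, swap_apply_of_ne_of_ne h1 h2,
    swap_apply_of_ne_of_ne h3 h4]

theorem pair_mem (h6 : 6 ≤ Fintype.card α) {u : Perm α} (hu : u * u = 1) (K : Subgroup (Perm α))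
    (hK : ∀ w, sign w = 1 → Commute w u → w * w ∈ K) {a b : α} (ha : u a ≠ a) (hb : u b ≠ b)
    (h1 : b ≠ a) (h2 : b ≠ u a) : swap a (u a) * swap b (u b) ∈ K := by
  have uu : ∀ x, u (u x) = x := fun x => by rw [← Perm.mul_apply, hu, Perm.one_apply]
  have h3 : u b ≠ a := fun e => h2 (by rw [← e, uu])
  have h4 : u b ≠ u a := fun e => h1 (u.injective e)
  have cs : ∀ x, Commute (swap x (u x)) u := fun x => by
    rw [Commute, SemiconjBy, mul_swap_eq_swap_mul, uu, swap_comm]
  have out : ∀ s : Finset α, s.card ≤ 5 → ∃ e, e ∉ s := fun s hs => by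
    by_contra! H
    have := Finset.card_le_card (fun x _ => H x : Finset.univ ⊆ s)
    rw [Finset.card_univ] at this
    omega
  obtain ⟨e, f, ef, he, hf, hc⟩ : ∃ e f, e ≠ f ∧ e ∉ ({a, u a, b, u b} : Finset α) ∧
      f ∉ ({a, u a, b, u b} : Finset α) ∧ Commute (swap e f) u := by
    have cl : ∀ e, e ∉ ({a, u a, b, u b} : Finset α) → u e ∉ ({a, u a, b, u b} : Finset α) := by
      intro e he
      simp only [Finset.mem_insert, Finset.mem_singleton, not_or] at he ⊢
      refine ⟨fun h => he.2.1 (by rw [← h, uu]), fun h => he.1 (u.injective h),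
        fun h => he.2.2.2 (by rw [← h, uu]), fun h => he.2.2.1 (u.injective h)⟩
    obtain ⟨e, he⟩ := out {a, u a, b, u b} (Finset.card_le_four.trans (by norm_num))
    by_cases ue : u e = e
    · obtain ⟨f, hf⟩ := out (insert e {a, u a, b, u b})
        ((Finset.card_insert_le _ _).trans (Nat.succ_le_succ Finset.card_le_four))
      rw [Finset.mem_insert, not_or] at hf
      by_cases uf : u f = f
      · exact ⟨e, f, Ne.symm hf.1, he, hf.2, by
          rw [Commute, SemiconjBy, mul_swap_eq_swap_mul, ue, uf]⟩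
      · exact ⟨f, u f, Ne.symm uf, hf.2, cl f hf.2, cs f⟩
    · exact ⟨e, u e, Ne.symm ue, he, cl e he, cs e⟩
  simp only [Finset.mem_insert, Finset.mem_singleton, not_or] at he hf
  have c1 : Commute (swap a b) (swap (u a) (u b)) := swap_comm_of ha (Ne.symm h2) h3 hb
  have c2 : Commute (swap a b * swap (u a) (u b)) u := by
    rw [Commute, SemiconjBy, ← mul_assoc, mul_swap_eq_swap_mul u, mul_assoc (swap (u a) (u b)),
      mul_swap_eq_swap_mul u, uu, uu, ← mul_assoc, c1.eq]
  have c3 : swap a b * swap (u a) (u b) * swap a (u a) =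
      swap b (u b) * (swap a b * swap (u a) (u b)) := by
    rw [mul_swap_eq_swap_mul, Perm.mul_apply, Perm.mul_apply,
      swap_apply_of_ne_of_ne (Ne.symm ha) (Ne.symm h3), swap_apply_left, swap_apply_left,
      swap_apply_of_ne_of_ne h3 hb]
  have c4 : Commute (swap a (u a) * (swap a b * swap (u a) (u b))) (swap e f) :=
    (swap_comm_of he.1 he.2.1 hf.1 hf.2.1).mul_left ((swap_comm_of he.1 he.2.2.1 hf.1 hf.2.2.1).mul_left
      (swap_comm_of he.2.1 he.2.2.2 hf.2.1 hf.2.2.2))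
  have := hK (swap a (u a) * (swap a b * swap (u a) (u b)) * swap e f)
    (by simp [sign_swap (Ne.symm ha), sign_swap (Ne.symm h1), sign_swap (Ne.symm h4), sign_swap ef])
    (((cs a).mul_left c2).mul_left hc)
  rwa [← pow_two, c4.mul_pow, pow_two, pow_two, swap_mul_self, mul_one, mul_assoc,
    ← mul_assoc (swap a b * _), c3, mul_assoc (swap b _), ← pow_two, c1.mul_pow, pow_two, pow_two,
    swap_mul_self, swap_mul_self, mul_one, mul_one] at this

theorem mem_of_sq (h6 : 6 ≤ Fintype.card α) {u : Perm α} (hu : u * u = 1) (K : Subgroup (Perm α))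
    (hK : ∀ w, sign w = 1 → Commute w u → w * w ∈ K) (n : ℕ) :
    ∀ v : Perm α, v.support.card = n → sign v = 1 → (∀ x, v x = x ∨ v x = u x) → v ∈ K := by
  have uu : ∀ x, u (u x) = x := fun x => by rw [← Perm.mul_apply, hu, Perm.one_apply]
  induction n using Nat.strong_induction_on with
  | _ n ih =>
  intro v hn hs hv
  have step : ∀ (v : Perm α) a, (∀ x, v x = x ∨ v x = u x) → v a ≠ a →
      (∀ x, (swap a (u a) * v) x = x ∨ (swap a (u a) * v) x = u x) ∧
      (swap a (u a) * v).support.card < v.support.card ∧ (swap a (u a) * v) a = a ∧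
      (swap a (u a) * v) (u a) = u a := fun v a hv ha => by
    have h1 : v a = u a := (hv a).resolve_left ha
    have h2 : v (u a) = a := by
      rcases hv (u a) with e | e
      · exact absurd (v.injective (e.trans h1.symm)) (h1 ▸ ha)
      · rw [e, uu]
    refine ⟨fun x => ?_, h1 ▸ card_support_swap_mul ha, by rw [Perm.mul_apply, h1, swap_apply_right],
      by rw [Perm.mul_apply, h2, swap_apply_left]⟩
    by_cases x1 : x = a
    · left; rw [x1, Perm.mul_apply, h1, swap_apply_right]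
    by_cases x2 : x = u a
    · left; rw [x2, Perm.mul_apply, h2, swap_apply_left]
    rw [Perm.mul_apply, swap_apply_of_ne_of_ne (fun e => x2 (v.injective (e.trans h2.symm)))
      (fun e => x1 (v.injective (e.trans h1.symm)))]
    exact hv x
  by_cases v1 : v = 1
  · rw [v1]; exact one_mem _
  obtain ⟨a, ha⟩ : ∃ a, v a ≠ a := by
    by_contra! H
    exact v1 (Equiv.ext H)
  have ua : u a ≠ a := ((hv a).resolve_left ha) ▸ ha
  obtain ⟨s1, s2, s3, s4⟩ := step v a hv ha
  have sg : sign (swap a (u a) * v) = -1 := by simp [sign_swap (Ne.symm ua), hs]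
  obtain ⟨b, hb⟩ : ∃ b, (swap a (u a) * v) b ≠ b := by
    by_contra! H
    rw [show swap a (u a) * v = 1 from Equiv.ext H] at sg
    simp at sg
  have ub : u b ≠ b := ((s1 b).resolve_left hb) ▸ hb
  obtain ⟨t1, t2, -⟩ := step _ b s1 hb
  have k1 := ih _ (hn ▸ t2.trans s2) _ rfl (by simp [sign_swap (Ne.symm ub), sg]) t1
  have k2 := pair_mem h6 hu K hK ua ub (fun e => hb (e ▸ s3)) (fun e => hb (e ▸ s4))
  have := mul_mem k2 k1
  rwa [mul_assoc, ← mul_assoc (swap b _), swap_mul_self, one_mul, ← mul_assoc, swap_mul_self,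
    one_mul] at this

end perm

theorem JG.not_conj {m : ℕ} (hm : 6 ≤ m) {t : G} {φ : alternatingGroup (Fin m) →* G} (h : JG t φ)
    (g : G) (x : alternatingGroup (Fin m)) : g * t * g⁻¹ ≠ φ x := fun e => by
  have j := h.conj g
  generalize (MulAut.conj g).toMonoidHom.comp φ = ψ at j
  rw [e] at j
  have hx : x * x = 1 := h.sq.mp j.iv.1
  obtain ⟨y, ⟨z, hz⟩, hy⟩ := mem_of_sq (by simpa using hm) (congrArg Subtype.val hx)
    ((ψ.range.comap φ).map (alternatingGroup (Fin m)).subtype) (fun w hw c => by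
      obtain ⟨z, hz⟩ := j.sq_mem (g := φ ⟨w, hw⟩) (h.cm.mpr (Subtype.ext c))
      exact ⟨⟨w, hw⟩ * ⟨w, hw⟩, ⟨z, by rw [map_mul, hz]⟩, rfl⟩) _ x.1 rfl x.2 fun _ => Or.inr rfl
  exact j.ne z (hz.trans (congrArg φ (Subtype.ext hy)))

theorem JG.jan [Finite G] {t : G} {φ : alternatingGroup (Fin 5) →* G} (h : JG t φ)
    (h2 : ∀ K : Subgroup G, K.index ≠ 2) (ho : Odd (centralizer ({t} : Set G)).index) : Jan G := by
  obtain ⟨e⟩ := A5.nonempty_equiv
  have j := h.comp e
  refine Jan.of_one ⟨j.iv, j.inj, j.comm, j.ne, j.cen⟩ fun u hu => ?_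
  obtain ⟨g, x, x1, x2, e1⟩ := j.thompson h2 ho j.iv
  obtain ⟨g', y, y1, y2, e2⟩ := j.thompson h2 ho hu
  obtain ⟨z, rfl⟩ := A5.conj_two x x1 x2 y y1 y2
  rw [map_mul, map_mul, map_inv, ← e1] at e2
  refine ⟨g'⁻¹ * (φ.comp e.toMonoidHom) z * g, ?_⟩
  rw [show u = g'⁻¹ * (g' * u * g'⁻¹) * g' by group, e2]; group

end Cfsg.Agent.H7.Jk
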