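import Cfsg.Agent.H7.J4a
import Cfsg.Agent.H7.AutL2

/-! Groups all of whose involutions have centralizer `2 × A₄`. -/

set_option autoImplicit false

namespace Cfsg.Agent.H7.Jk

open Subgroup Cfsg.Agent.H8 Cfsg.Agent.BS

universe u

abbrev A4 := alternatingGroup (Fin 4)

theorem a4_comm : ∀ x y : A4, x * x = 1 → y * y = 1 → x * y = y * x := by decide +kernel

theorem a4_conj : ∀ x y : A4, x ≠ 1 → x * x = 1 → y ≠ 1 → y * y = 1 → ∃ g, g * x * g⁻¹ = y := by
  decide +kernel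

theorem a4_cent : ∀ x : A4, (∀ y : A4, y * y = 1 → x * y = y * x) → x * x = 1 := by decide +kernel

theorem a4_ncard : {x : A4 | x * x = 1}.ncard = 4 := by
  rw [Set.ncard_eq_toFinset_card', Set.toFinset_ofPred]; decide +kernel

theorem a4_card : Nat.card A4 = 12 := by
  rw [Nat.card_eq_fintype_card]; decide +kernel

variable {G : Type u} [Group G]

theorem JG.exists_E {t : G} {φ : A4 →* G} (h : JG t φ) :
    ∃ E : Subgroup G, (∀ x, x ∈ E ↔ Commute x t ∧ x * x = 1) ∧ Nat.card E = 8 ∧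
      (∀ x ∈ E, ∀ y ∈ E, Commute x y) ∧ ∀ x, (∀ y ∈ E, Commute x y) → x ∈ E := by
  have k : ∀ x y, Commute x t → x * x = 1 → Commute y t → y * y = 1 → Commute x y := by
    intro x y x1 x2 y1 y2
    have : ∀ a : A4, a * a = 1 → Commute (φ a) y := fun a ha => by
      obtain ⟨b, rfl | rfl⟩ := h.cen y y1
      · exact h.cm.mpr (a4_comm a b ha (h.sq.mp y2))
      · exact (h.cm'.mpr (a4_comm b a (h.sq'.mp y2) ha)).symm
    obtain ⟨a, rfl | rfl⟩ := h.cen x x1
    · exact this a (h.sq.mp x2)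
    · exact y1.symm.mul_left (this a (h.sq'.mp x2))
  refine ⟨⟨⟨⟨{x | Commute x t ∧ x * x = 1}, fun {a b} ha hb => ⟨ha.1.mul_left hb.1, ?_⟩⟩,
    Commute.one_left t, one_mul 1⟩, fun {a} ha => ⟨ha.1.inv_left, ?_⟩⟩, fun _ => Iff.rfl, ?_,
    fun x hx y hy => k x y hx.1 hx.2 hy.1 hy.2, fun x hx => ?_⟩
  · rw [← pow_two, (k a b ha.1 ha.2 hb.1 hb.2).mul_pow, pow_two, pow_two, ha.2, hb.2, one_mul]
  · rw [← mul_inv_rev, ha.2, inv_one]
  · rw [← H6.ncard_subgroup]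
    have := h.ncard fun x => x * x = 1
    simp only [h.sq, h.sq', a4_ncard] at this
    exact this
  · have c := hx t ⟨Commute.refl t, h.iv.1⟩
    refine ⟨c, ?_⟩
    obtain ⟨a, rfl | rfl⟩ := h.cen x c
    · exact h.sq.mpr (a4_cent a fun y hy => h.cm.mp (hx _ ⟨h.comm y, h.sq.mpr hy⟩))
    · exact h.sq'.mpr (a4_cent a fun y hy => h.cm'.mp (hx _ ⟨h.comm y, h.sq.mpr hy⟩))

/-- an odd normal subgroup on which all involutions act fixed-point-freely is trivial -/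
theorem eq_bot_of_fpf [Finite G] (K : Subgroup G) [hK : K.Normal]
    (h : ∀ u, Iv u → ∀ k ∈ K, Commute k u → k = 1) {t s : G} (ht : Iv t) (hs : Iv s)
    (c : Commute s t) (ne : s ≠ t) : K = ⊥ := by
  have key : ∀ g, Iv g → ∀ k ∈ K, g * k * g⁻¹ = k⁻¹ := fun g hg k hk =>
    H6.inverts_of_fpf' (by rw [normalizer_eq_top]; trivial) hg.1 (fun b hb c => h g hg b hb c) hk
  refine eq_bot_iff.mpr fun x hx => h _ (ht.mul hs c ne) x hx (cm_of_conj_eq ?_).symm
  rw [show t * s * x * (t * s)⁻¹ = t * (s * x * s⁻¹) * t⁻¹ by group, key s hs x hx, ← conj_inv,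
    key t ht x hx, inv_inv]

theorem four_case [Finite G] (hns : ¬ Group.IsSolvable G)
    (all : ∀ u : G, Iv u → ∃ φ : A4 →* G, JG u φ) {t : G} (ht : Iv t)
    (ho : Odd (centralizer ({t} : Set G)).index) :
    ∃ (F : Type) (_ : Field F) (_ : Fintype F), Fintype.card F = 8 ∧
      Nonempty (G ≃* MulAut (Matrix.ProjectiveSpecialLinearGroup (Fin 2) F)) := by
  obtain ⟨φ, j⟩ := all t ht
  obtain ⟨S, S1, S2, S3, S4⟩ := j.exists_E
  have tS : t ∈ S := (S1 t).mpr ⟨Commute.refl t, ht.1⟩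
  have hE : ∀ u ∈ S, u ≠ 1 → ∀ x, Commute x u → x * x = 1 → x ∈ S := fun u hu u1 x x1 x2 => by
    obtain ⟨ψ, j'⟩ := all u ⟨((S1 u).mp hu).2, u1⟩
    obtain ⟨E, E1, E2, -⟩ := j'.exists_E
    have : S = E := eq_of_le_of_card_ge (fun y hy => (E1 y).mpr ⟨S3 y hy u hu, ((S1 y).mp hy).2⟩)
      (by rw [E2, S2])
    exact this ▸ (E1 x).mpr ⟨x1, x2⟩
  have hM : ∀ u ∈ normalizer (S : Set G), u * u = 1 → u ∈ S := fun u hu u2 => by
    have h1 := conj_mem hu tS
    by_cases e : t * (u * t * u⁻¹) = 1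
    · refine (S1 u).mpr ⟨cm_of_conj_eq ?_, u2⟩
      rw [← ht.cancel (u * t * u⁻¹), e, mul_one]
    · refine hE _ (mul_mem tS h1) e u (cm_of_conj_eq ?_) u2
      rw [cj_mul', (S3 t tS _ h1).eq, show u * (u * t * u⁻¹) * u⁻¹ = (u * u) * t * (u * u)⁻¹ by group,
        u2]
      group
  have hC : Nat.card (centralizer ({t} : Set G)) = 24 := by rw [j.card_cent, a4_card]
  have hle : S ≤ centralizer {t} := fun x hx => mem_centralizer_singleton_iff.mpr ((S1 x).mp hx).1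
  have hSc : IsMulCommutative S := ⟨⟨fun a b => Subtype.ext (S3 _ a.2 _ b.2)⟩⟩
  have hSE : IsStronglyEmbedded (normalizer (S : Set G)) := by
    refine ⟨fun e => hns ?_, ?_, fun g hg => ?_⟩
    · have : S.Normal := normalizer_eq_top_iff.mp e
      have h3 := H9.card_mul_relIndex hle
      rw [hC, S2] at h3
      have : Group.IsSolvable (G ⧸ S) := FT.odd_solvable (by
        rw [← index_eq_card, ← relIndex_mul_index hle]
        exact Odd.mul ⟨1, by omega⟩ ho)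
      have : Group.IsSolvable S := Group.isSolvable_of_comm fun a b => Subtype.ext (S3 _ a.2 _ b.2)
      exact Group.isSolvable_of_ker_le_range S.subtype (QuotientGroup.mk' S) (by simp)
    · exact (even_iff_two_dvd.mpr ((by rw [S2]; norm_num : 2 ∣ Nat.card S).trans
        (card_dvd_of_le le_normalizer)))
    · rw [← Nat.not_even_iff_odd, even_iff_two_dvd]
      intro h2
      have : Fact (Nat.Prime 2) := ⟨Nat.prime_two⟩
      obtain ⟨⟨u, u1, w, w1, rfl⟩, hu⟩ := exists_prime_orderOf_dvd_card' 2 h2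
      have iu := Iv.of_ord ((orderOf_coe _).trans hu)
      have iw := iu.conj g⁻¹
      change Iv (g * w * g⁻¹) at iu
      rw [show g⁻¹ * ((MulAut.conj g).toMonoidHom w) * g⁻¹⁻¹ = w by simp [mul_assoc]] at iw
      refine hg (mem_normalizer_of_conj fun x hx => hE _ (hM _ u1 iu.1) iu.2 _
        (cm_conj (S3 x hx w (hM w w1 iw.1)) g) ?_)
      rw [← cj_mul', ((S1 x).mp hx).2]; group
  obtain ⟨s, sS, s1, s2⟩ : ∃ s ∈ S, s ≠ 1 ∧ s ≠ t := by
    by_contra! H
    have : (S : Set G) ⊆ {1, t} := fun x hx => by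
      by_cases e : x = 1
      exacts [Or.inl e, Or.inr (H x hx e)]
    have := (Set.ncard_le_ncard this).trans ((Set.ncard_insert_le _ _).trans (by rw [Set.ncard_singleton]))
    rw [H6.ncard_subgroup, S2] at this
    omega
  have hO : pPrimeCore 2 G = ⊥ := by
    have odd : ∀ k ∈ pPrimeCore 2 G, k * k = 1 → k = 1 := fun k hk k2 => by_contra fun k1 =>
      L0.not_dvd_card_pPrimeCore (p := 2) ((Iv.ord ⟨k2, k1⟩) ▸ orderOf_dvd_natCard _ hk)
    refine eq_bot_of_fpf _ (fun u hu k hk c => ?_) ht ⟨((S1 s).mp sS).2, s1⟩ ((S1 s).mp sS).1 s2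
    obtain ⟨ψ, j'⟩ := all u hu
    obtain ⟨E, E1, -, -, E4⟩ := j'.exists_E
    refine odd k hk ((E1 k).mp (E4 k fun y hy => ?_)).2
    have h1 : k * y * k⁻¹ ∈ E := (E1 _).mpr ⟨(c.mul_left ((E1 y).mp hy).1).mul_left c.inv_left, by
      rw [← cj_mul', ((E1 y).mp hy).2]; group⟩
    have h2 := odd (k * y * k⁻¹ * y⁻¹) (by
      rw [mul_assoc, mul_assoc, ← mul_assoc y]
      exact mul_mem hk (Normal.conj_mem inferInstance _ (inv_mem hk) y))
      ((E1 _).mp (mul_mem h1 (inv_mem hy))).2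
    exact commutatorElement_eq_one_iff_commute.mp h2
  obtain ⟨X, hX, hc⟩ := bender_suz hSE (fun h => by
    have := h S hSc fun a ha => by rw [pow_two, ((S1 a).mp ha).2]
    omega) hO
  have hZ : X.Z = S := le_antisymm (fun x hx => hM x (hX ▸ X.Q_le (X.mem_Z.1 hx).1) (X.mem_Z.1 hx).2)
    fun x hx => X.mem_Z.2 ⟨X.mem_Q_of_two (k := 1) (hX ▸ le_normalizer hx)
      (by rw [pow_one, pow_two, ((S1 x).mp hx).2]), ((S1 x).mp hx).2⟩
  have hQ : X.Q = X.Z := le_antisymm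
    (fun x hx => hZ ▸ S4 x fun y hy => (X.Z_comm (hZ ▸ hy) hx).symm) X.Z_le
  have rk := X.rk1 hc
  obtain ⟨hK, -, F, iF, fF, -, hF, ⟨e⟩⟩ := Rec.rec_L2 rk hQ
  have hN := Rec.gen_normal rk
  obtain ⟨Y, y1, y2, y3, -⟩ := X.exists_restrict (L := Rec.gen X.Q X.t) Rec.Rk1.Q_le Rec.Rk1.t_mem
  have yQ : Y.Q = Y.Z := le_antisymm (fun x hx => Y.mem_Z.2 ⟨hx, Subtype.ext
    (X.mem_Z.1 (hQ ▸ (y2 ▸ hx : x ∈ X.Q.subgroupOf _))).2⟩) Y.Z_le
  have yD : Y.D ≤ Y.K := fun d hd => Y.mem_K.2 ⟨hd, Subtype.ext (by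
    have h1 := Y.mem_D.1 hd
    rw [y1, mem_subgroupOf, mem_subgroupOf, coe_mul, coe_mul, y3] at h1
    have := (X.mem_K.1 (hK ▸ mem_inf.mpr ⟨d.2, X.mem_D.2 h1⟩)).2
    rwa [coe_mul, coe_mul, y3])⟩
  have cQ : Nat.card X.Q = 8 := by rw [hQ, hZ, S2]
  have cQ' : Nat.card Y.Q = 8 := by
    rw [y2, Nat.card_congr (subgroupOfEquivOfLe Rec.Rk1.Q_le).toEquiv, cQ]
  have b1 := suz_card_aut Y yQ yD (n := 3) (by
    refine eq_top_iff.mpr ((closure_preimage_eq_top (insert X.t (X.Q : Set G))).ge.trans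
      (closure_mono ?_))
    rintro x (hx | hx)
    · exact Or.inl (Subtype.ext (hx.trans y3.symm))
    · exact Or.inr (y2 ▸ hx)) (by rw [← yQ, cQ']; rfl)
  have b2 := Y.card_K
  have b3 := X.card_K
  rw [Suz.q, ← yQ, cQ', ← le_antisymm yD Y.K_le] at b2
  rw [Suz.q, ← hQ, cQ] at b3
  have b4 := X.card_G
  have b5 : 3 ≤ Nat.card X.V := by
    obtain ⟨k, hk⟩ := X.odd_D.of_dvd_nat (card_dvd_of_le X.V_le)
    by_contra H
    have hV : X.V = ⊥ := card_eq_one.mp (by omega)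
    obtain ⟨ψ, j'⟩ := all X.s ⟨X.ss, X.s1⟩
    have : centralizer {X.s} ≤ X.Q := fun x hx => by
      obtain ⟨y, hy, v, hv, rfl⟩ := suz_cent X (mem_centralizer_singleton_iff.mp hx)
      rw [hV, mem_bot] at hv
      rw [hv, mul_one]; exact hy
    have := card_le_of_le this
    rw [j'.card_cent, a4_card, cQ] at this
    omega
  rw [Y.card_G, cQ', show Nat.card Y.D = 7 by omega] at b1
  rw [X.sdp_D.card, cQ, show Nat.card X.K = 7 by omega] at b4
  have inj : Function.Injective (MulAut.conjNormal (H := Rec.gen X.Q X.t)) :=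
    (injective_iff_map_eq_one _).mpr fun g hg => rk.eq_one_of_cent_gen fun x hx => by
      have := congrArg Subtype.val (DFunLike.congr_fun hg ⟨x, hx⟩)
      simpa [mul_inv_eq_iff_eq_mul] using this
  refine ⟨F, iF, fF, by rw [hF, hZ, S2], ⟨(MulEquiv.ofBijective _
    ((Nat.bijective_iff_injective_and_card _).mpr ⟨inj, le_antisymm
      (Nat.card_le_card_of_injective _ inj) (by omega)⟩)).trans (MulAut.congr e)⟩⟩

end Cfsg.Agent.H7.Jk
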