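import Cfsg.Agent.FT.I03
import Cfsg.Agent.FT.I04
import Cfsg.Agent.H5.Rank

/-! Central extensions of finite groups: transfer and commutator forms. -/

set_option autoImplicit false
set_option linter.unusedSectionVars false

namespace Cfsg.Agent.H7.Mu

open Subgroup
open scoped commutatorElement

section
variable {Y : Type*} [Group Y] {a a' b b' z : Y}

theorem cmul (h1 : Commute ⁅a', b⁆ a) (h2 : Commute ⁅a', b⁆ b) : ⁅a * a', b⁆ = ⁅a, b⁆ * ⁅a', b⁆ := by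
  have h3 : Commute ⁅a', b⁆ ⁅a, b⁆ := by
    rw [commutatorElement_def a]
    exact ((h1.mul_right h2).mul_right h1.inv_right).mul_right h2.inv_right
  calc ⁅a * a', b⁆ = a * ⁅a', b⁆ * a⁻¹ * ⁅a, b⁆ := by simp only [commutatorElement_def]; group
    _ = _ := by rw [← h1.eq, mul_inv_cancel_right, h3.eq]

theorem cmul' (h1 : Commute ⁅a, b'⁆ b) : ⁅a, b * b'⁆ = ⁅a, b⁆ * ⁅a, b'⁆ := by
  calc ⁅a, b * b'⁆ = ⁅a, b⁆ * (b * ⁅a, b'⁆ * b⁻¹) := by simp only [commutatorElement_def]; group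
    _ = _ := by rw [← h1.eq, mul_inv_cancel_right]

/-- the elements `v⁻¹ v^k`, `v ∈ W` -/
def cs (W : Subgroup Y) (k : Y) (hW : ∀ v ∈ W, ∀ w ∈ W, v * w = w * v) (hk : k ∈ normalizer (W : Set Y)) :
    Subgroup Y where
  carrier := {x | ∃ v ∈ W, x = v⁻¹ * (k * v * k⁻¹)}
  one_mem' := ⟨1, one_mem _, by simp⟩
  mul_mem' := by
    rintro _ _ ⟨v, hv, rfl⟩ ⟨w, hw, rfl⟩
    refine ⟨v * w, mul_mem hv hw, ?_⟩
    have h1 := hW _ (mul_mem (inv_mem hv) ((mem_normalizer_iff.mp hk v).mp hv)) _ (inv_mem hw)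
    calc _ = v⁻¹ * (k * v * k⁻¹) * w⁻¹ * (k * w * k⁻¹) := by group
      _ = _ := by rw [h1]; group
  inv_mem' := by
    rintro _ ⟨v, hv, rfl⟩
    refine ⟨v⁻¹, inv_mem hv, ?_⟩
    rw [hW _ (inv_mem (inv_mem hv)) _ ((mem_normalizer_iff.mp hk _).mp (inv_mem hv))]
    group

variable {W : Subgroup Y} {k : Y} {hW : ∀ v ∈ W, ∀ w ∈ W, v * w = w * v} {hk : k ∈ normalizer (W : Set Y)}

theorem cs_le : cs W k hW hk ≤ W := by
  rintro _ ⟨v, hv, rfl⟩
  exact mul_mem (inv_mem hv) ((mem_normalizer_iff.mp hk v).mp hv)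

theorem cs_conj {d x : Y} (hd : d ∈ normalizer (W : Set Y)) (hc : ∀ v ∈ W, d * k * v * (d * k)⁻¹ = k * d * v * (k * d)⁻¹)
    (hx : x ∈ cs W k hW hk) : d * x * d⁻¹ ∈ cs W k hW hk := by
  obtain ⟨v, hv, rfl⟩ := hx
  refine ⟨d * v * d⁻¹, (mem_normalizer_iff.mp hd v).mp hv, ?_⟩
  calc d * (v⁻¹ * (k * v * k⁻¹)) * d⁻¹ = (d * v * d⁻¹)⁻¹ * (d * k * v * (d * k)⁻¹) := by group
    _ = _ := by rw [hc v hv]; group

end

variable {Y K : Type*} [Group Y] [Group K] {ρ : Y →* K}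

/-- a central extension -/
structure CX (ρ : Y →* K) : Prop where
  surj : Function.Surjective ρ
  cen : ∀ z, ρ z = 1 → ∀ y, Commute z y

/-- the kernel meets the derived group of the preimage of `R` trivially -/
def Ok (ρ : Y →* K) (R : Subgroup K) : Prop := ∀ z, ρ z = 1 → z ∈ ⁅R.comap ρ, R.comap ρ⁆ → z = 1

namespace CX

variable (h : CX ρ) {x x' y y' d : K} {a b z : Y} {R Q Q0 : Subgroup K}

/-- the commutator of preimages -/
noncomputable def cm (x y : K) : Y := ⁅Function.surjInv h.surj x, Function.surjInv h.surj y⁆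

include h

theorem conj_eq (e : ρ a = ρ b) (v : Y) : a * v * a⁻¹ = b * v * b⁻¹ := by
  have := h.cen (b⁻¹ * a) (by simp [e]) v
  calc a * v * a⁻¹ = b * (b⁻¹ * a * v) * a⁻¹ := by group
    _ = _ := by rw [this.eq]; group

theorem cm_eq (a b : Y) : h.cm (ρ a) (ρ b) = ⁅a, b⁆ := by
  have h1 := h.conj_eq (Function.surjInv_eq h.surj (ρ a)) (Function.surjInv h.surj (ρ b))
  have h2 := h.conj_eq (Function.surjInv_eq h.surj (ρ b)) a⁻¹
  rw [cm, commutatorElement_def, h1, mul_assoc a, mul_assoc a, h2]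
  simp only [commutatorElement_def, mul_assoc]

theorem map_cm (x y : K) : ρ (h.cm x y) = ⁅x, y⁆ := by
  rw [cm, map_commutatorElement, Function.surjInv_eq h.surj, Function.surjInv_eq h.surj]

theorem cm_cen (hc : Commute x y) (a : Y) : Commute (h.cm x y) a :=
  h.cen _ (by rw [h.map_cm, hc.commutator_eq]) a

theorem cm_mul_left (hc : Commute x' y) : h.cm (x * x') y = h.cm x y * h.cm x' y := by
  have := h.cm_cen hc
  obtain ⟨a, rfl⟩ := h.surj x
  obtain ⟨a', rfl⟩ := h.surj x'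
  obtain ⟨b, rfl⟩ := h.surj y
  rw [h.cm_eq] at this
  rw [← map_mul, h.cm_eq, h.cm_eq, h.cm_eq, cmul (this _) (this _)]

theorem cm_mul_right (hc : Commute x y') : h.cm x (y * y') = h.cm x y * h.cm x y' := by
  have := h.cm_cen hc
  obtain ⟨a, rfl⟩ := h.surj x
  obtain ⟨b', rfl⟩ := h.surj y'
  obtain ⟨b, rfl⟩ := h.surj y
  rw [h.cm_eq] at this
  rw [← map_mul, h.cm_eq, h.cm_eq, h.cm_eq, cmul' (this _)]

theorem cm_conj' (a : Y) (x y : K) : h.cm (ρ a * x * (ρ a)⁻¹) (ρ a * y * (ρ a)⁻¹) = a * h.cm x y * a⁻¹ := by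
  obtain ⟨b, rfl⟩ := h.surj x
  obtain ⟨c, rfl⟩ := h.surj y
  rw [← map_inv, ← map_mul, ← map_mul, ← map_mul, ← map_mul, h.cm_eq, h.cm_eq, conjugate_commutatorElement]

theorem cm_conj (hc : Commute x y) (d : K) : h.cm (d * x * d⁻¹) (d * y * d⁻¹) = h.cm x y := by
  obtain ⟨a, rfl⟩ := h.surj d
  rw [h.cm_conj', ← (h.cm_cen hc a).eq, mul_inv_cancel_right]

theorem cm_one (x : K) : h.cm x 1 = 1 := by
  obtain ⟨a, rfl⟩ := h.surj x
  rw [← map_one ρ, h.cm_eq, commutatorElement_one_right]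

theorem cm_swap (x y : K) : h.cm y x = (h.cm x y)⁻¹ := (commutatorElement_inv _ _).symm

theorem cm_pow (hc : Commute x y) (n : ℕ) : h.cm x (y ^ n) = h.cm x y ^ n := by
  induction n with
  | zero => rw [pow_zero, pow_zero, h.cm_one]
  | succ n ih => rw [pow_succ, pow_succ, h.cm_mul_right hc, ih]

/-- a square is orthogonal to a commuting involution -/
theorem cm_sq (hc : Commute x y) (hy : y * y = 1) : h.cm (x * x) y = 1 := by
  rw [h.cm_mul_left hc, ← h.cm_mul_right hc, hy, h.cm_one]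

theorem comm_of_cm (e : h.cm (ρ a) (ρ b) = 1) : a * b = b * a := by
  rw [h.cm_eq] at e
  exact commutatorElement_eq_one_iff_mul_comm.mp e

/-- Grün's lemma -/
theorem cen_of_perfect (hp : commutator Y = ⊤) (ha : ∀ x, Commute (ρ a) x) (b : Y) : Commute a b := by
  have hm : ∀ b c : Y, ⁅a, b * c⁆ = ⁅a, b⁆ * ⁅a, c⁆ := fun b c =>
    cmul' (h.cen _ (by rw [map_commutatorElement, (ha _).commutator_eq]) _)
  let f : Y →* Y := MonoidHom.mk' (fun b => ⁅a, b⁆) hm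
  have : commutator Y ≤ f.ker := commutator_le.mpr fun b _ c _ => by
    rw [MonoidHom.mem_ker, map_commutatorElement]
    exact (h.cen (f b) (by
      show ρ ⁅a, b⁆ = 1
      rw [map_commutatorElement, (ha _).commutator_eq]) _).commutator_eq
  exact commutatorElement_eq_one_iff_commute.mp (this (hp ▸ mem_top b))

theorem ok_of_comm (hc : ∀ x ∈ R, ∀ y ∈ R, h.cm x y = 1) : Ok ρ R := fun z _ hz =>
  (commutator_le (H₃ := ⊥)).mpr (fun a ha b hb => by rw [← h.cm_eq, hc _ ha _ hb]; exact one_mem _) hz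

theorem ok_of_cyclic (hc : IsCyclic R) : Ok ρ R := by
  obtain ⟨⟨g, hg⟩, hg'⟩ := IsCyclic.exists_generator (α := R)
  obtain ⟨a, rfl⟩ := h.surj g
  refine h.ok_of_comm fun x hx y hy => ?_
  obtain ⟨i, hi⟩ := hg' ⟨x, hx⟩
  obtain ⟨j, hj⟩ := hg' ⟨y, hy⟩
  have e1 : x = ρ (a ^ i) := by rw [map_zpow]; exact (congrArg Subtype.val hi).symm
  have e2 : y = ρ (a ^ j) := by rw [map_zpow]; exact (congrArg Subtype.val hj).symm
  rw [e1, e2, h.cm_eq]
  exact (Commute.zpow_zpow_self a i j).commutator_eq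

theorem pow_index_mem [Finite Y] (hp : commutator Y = ⊤) (R : Subgroup K) (hz : ρ z = 1) :
    z ^ R.index ∈ ⁅R.comap ρ, R.comap ρ⁆ := by
  have key : ∀ (k : ℕ) (g₀ : Y), g₀⁻¹ * z ^ k * g₀ ∈ R.comap ρ → g₀⁻¹ * z ^ k * g₀ = z ^ k := fun k g _ => by
    rw [mul_assoc, ((h.cen z hz g).pow_left k).eq, inv_mul_cancel_left]
  have e := MonoidHom.transfer_eq_pow (Abelianization.of (G := R.comap ρ)) z key
  have h1 : MonoidHom.transfer (Abelianization.of (G := R.comap ρ)) z = 1 :=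
    Abelianization.commutator_subset_ker _ (hp ▸ mem_top z)
  rw [h1, eq_comm, ← MonoidHom.mem_ker, Abelianization.ker_of] at e
  have h2 := mem_map_of_mem (R.comap ρ).subtype e
  rw [map_subtype_commutator] at h2
  rw [← index_comap_of_surjective _ h.surj]
  exact h2

theorem pow_index [Finite Y] (hp : commutator Y = ⊤) (hR : Ok ρ R) (hz : ρ z = 1) : z ^ R.index = 1 :=
  hR _ (by simp [hz]) (h.pow_index_mem hp R hz)

theorem inj_of [Finite Y] (hp : commutator Y = ⊤) (hR : ∀ p : ℕ, p.Prime → ∃ R : Subgroup K, ¬ p ∣ R.index ∧ Ok ρ R) :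
    Function.Injective ρ := by
  rw [injective_iff_map_eq_one]
  intro z hz
  by_contra h1
  have h0 : orderOf z ≠ 1 := fun e => h1 (orderOf_eq_one_iff.mp e)
  obtain ⟨p, hp', m, hm⟩ := Nat.exists_prime_and_dvd h0
  obtain ⟨R, h2, h3⟩ := hR p hp'
  have h4 := orderOf_dvd_of_pow_eq_one (h.pow_index hp h3 hz)
  exact h2 ((Dvd.intro m hm.symm).trans h4)

/-- the `2`-part of the multiplier: reduction to invariant forms -/
theorem ok_of_forms {k : K} (hle : Q0 ≤ Q) (hcm : ∀ x ∈ Q, ∀ y ∈ Q, ⁅x, y⁆ ∈ Q0) (hk : k ∈ normalizer (Q0 : Set K))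
    (onto : ∀ w ∈ Q0, ∃ v ∈ Q0, w = v⁻¹ * (k * v * k⁻¹)) (fpf : ∀ v ∈ Q0, k * v * k⁻¹ = v → v = 1)
    (ha : ∀ x ∈ Q, ∀ w ∈ Q0, h.cm x w = 1)
    (hb : ∀ γ : K → K → Y, (∀ x ∈ Q, ∀ x' ∈ Q, ∀ y ∈ Q, γ (x * x') y = γ x y * γ x' y) →
      (∀ x ∈ Q, ∀ y ∈ Q, ∀ y' ∈ Q, γ x (y * y') = γ x y * γ x y') →
      (∀ d ∈ normalizer (Q0 : Set K), d * k = k * d → ∀ x ∈ Q, ∀ y ∈ Q, γ (d * x * d⁻¹) (d * y * d⁻¹) = γ x y) →
      (∀ x ∈ Q, ∀ w ∈ Q0, γ x w = 1 ∧ γ w x = 1) → ∀ x ∈ Q, ∀ y ∈ Q, γ x y = 1) : Ok ρ Q := by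
  obtain ⟨κ, rfl⟩ := h.surj k
  have hc : ∀ a ∈ Q.comap ρ, ∀ w ∈ Q0.comap ρ, a * w = w * a := fun a ha' w hw => h.comm_of_cm (ha _ ha' _ hw)
  have hW : ∀ v ∈ Q0.comap ρ, ∀ w ∈ Q0.comap ρ, v * w = w * v := fun v hv => hc v (hle hv)
  have hN : ∀ d, ρ d ∈ normalizer (Q0 : Set K) → d ∈ normalizer (Q0.comap ρ : Set Y) := fun d hd =>
    mem_normalizer_iff.mpr fun v => by
      rw [mem_comap, mem_comap, map_mul, map_mul, map_inv]
      exact mem_normalizer_iff.mp hd _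
  set W1 := cs (Q0.comap ρ) κ hW (hN κ hk)
  have h1 : ∀ z ∈ W1, ρ z = 1 → z = 1 := by
    rintro _ ⟨v, hv, rfl⟩ e
    rw [map_mul, map_mul, map_mul, map_inv, map_inv, inv_mul_eq_one] at e
    rw [← (h.cen v (fpf _ hv e.symm) κ).eq]; group
  have h2 : ∀ w ∈ Q0.comap ρ, ∃ z, ρ z = 1 ∧ w * z⁻¹ ∈ W1 := fun w hw => by
    obtain ⟨v, hv, e⟩ := onto _ hw
    obtain ⟨v, rfl⟩ := h.surj v
    have e1 : ρ ((v⁻¹ * (κ * v * κ⁻¹))⁻¹ * w) = 1 := by simp [e, mul_assoc]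
    refine ⟨_, e1, v, hv, ?_⟩
    group
  choose! τ hτ using h2
  have huniq : ∀ w ∈ Q0.comap ρ, ∀ z, ρ z = 1 → w * z⁻¹ ∈ W1 → τ w = z := fun w hw z hz hm => by
    have := h1 _ (mul_mem (inv_mem hm) (hτ w hw).2) (by simp [hz, (hτ w hw).1])
    rw [mul_inv_rev, inv_inv, mul_assoc, inv_mul_cancel_left, mul_inv_eq_one] at this
    exact this.symm
  have hmul : ∀ v ∈ Q0.comap ρ, ∀ w ∈ Q0.comap ρ, τ (v * w) = τ v * τ w := fun v hv w hw =>
    huniq _ (mul_mem hv hw) _ (by simp [(hτ v hv).1, (hτ w hw).1]) (by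
      have := mul_mem (hτ v hv).2 (hτ w hw).2
      rwa [mul_assoc, ← mul_assoc _ w, (h.cen _ (hτ v hv).1 w).inv_left.eq, mul_assoc, ← mul_assoc v, ← mul_inv_rev,
        (h.cen _ (hτ w hw).1 _).eq] at this)
  have h0 : τ 1 = 1 := huniq 1 (one_mem _) 1 (map_one _) (by simp)
  have hm : ∀ x ∈ Q, ∀ y ∈ Q, h.cm x y ∈ Q0.comap ρ := fun x hx y hy => by
    rw [mem_comap, h.map_cm]; exact hcm x hx y hy
  have key := hb (fun x y => τ (h.cm x y)) (fun x hx x' hx' y hy => by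
      rw [← hmul _ (hm x hx y hy) _ (hm x' hx' y hy)]
      have := fun a ha => (hc a ha _ (hm x' hx' y hy)).symm
      obtain ⟨a, rfl⟩ := h.surj x
      obtain ⟨a', rfl⟩ := h.surj x'
      obtain ⟨b, rfl⟩ := h.surj y
      rw [h.cm_eq] at this
      rw [← map_mul, h.cm_eq, h.cm_eq, h.cm_eq, cmul (this _ hx) (this _ hy)])
    (fun x hx y hy y' hy' => by
      rw [← hmul _ (hm x hx y hy) _ (hm x hx y' hy')]
      have := fun a ha => (hc a ha _ (hm x hx y' hy')).symm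
      obtain ⟨a, rfl⟩ := h.surj x
      obtain ⟨b', rfl⟩ := h.surj y'
      obtain ⟨b, rfl⟩ := h.surj y
      rw [h.cm_eq] at this
      rw [← map_mul, h.cm_eq, h.cm_eq, h.cm_eq, cmul' (this _ hy)])
    (fun d hd hdk x hx y hy => by
      obtain ⟨d, rfl⟩ := h.surj d
      have h3 := hτ _ (hm x hx y hy)
      rw [h.cm_conj']
      refine huniq _ ((mem_normalizer_iff.mp (hN d hd) _).mp (hm x hx y hy)) _ h3.1 ?_
      have := cs_conj (hN d hd) (h.conj_eq (by rw [map_mul, map_mul, hdk]) · |> fun e _ => e) h3.2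
      rwa [← mul_assoc d, mul_assoc _ _ d⁻¹, (h.cen _ h3.1 d⁻¹).inv_left.eq, ← mul_assoc] at this)
    (fun x hx w hw => by rw [h.cm_swap x w, ha x hx w hw, inv_one, h0]; exact ⟨rfl, rfl⟩)
  intro z hz hm'
  refine h1 z ((commutator_le (H₃ := W1)).mpr (fun a ha' b hb' => ?_) hm') hz
  have h3 := (hτ _ (hm _ ha' _ hb')).2
  rwa [key _ ha' _ hb', inv_one, mul_one, h.cm_eq] at h3

/-- an abelian subgroup extended by a cyclic group -/
theorem ok_sup [Finite Y] (hp : commutator Y = ⊤) {c : K} (hc : ∀ x ∈ R, ∀ y ∈ R, h.cm x y = 1)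
    (hn : c ∈ normalizer (R : Set K)) (hz : ∀ x ∈ R, c * x * c⁻¹ = x → ∀ y, Commute x y) : Ok ρ (R ⊔ zpowers c) := by
  obtain ⟨κ, rfl⟩ := h.surj c
  have hW : ∀ v ∈ R.comap ρ, ∀ w ∈ R.comap ρ, v * w = w * v := fun v hv w hw => h.comm_of_cm (hc _ hv _ hw)
  have hN : κ ∈ normalizer (R.comap ρ : Set Y) := mem_normalizer_iff.mpr fun v => by
    rw [mem_comap, mem_comap, map_mul, map_mul, map_inv]
    exact mem_normalizer_iff.mp hn _
  set W1 := cs (R.comap ρ) κ hW hN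
  have e : (R ⊔ zpowers (ρ κ)).comap ρ = R.comap ρ ⊔ zpowers κ := by
    rw [← MonoidHom.map_zpowers, ← map_comap_eq_self_of_surjective h.surj R, ← Subgroup.map_sup, comap_map_eq,
      map_comap_eq_self_of_surjective h.surj, sup_eq_left.mpr (le_sup_of_le_left (ker_le_comap ρ R))]
  have n1 : R.comap ρ ≤ normalizer (W1 : Set Y) := fun v hv =>
    centralizer_le_normalizer _ (mem_centralizer_iff.mpr fun w hw => hW w (cs_le hw) v hv)
  have n2 : zpowers κ ≤ normalizer (W1 : Set Y) := zpowers_le.mpr (H8.mem_normalizer_of_cj_le (by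
    rintro _ ⟨x, hx, rfl⟩
    exact cs_conj hN (fun _ _ => rfl) hx))
  have c1 : ⁅R.comap ρ, R.comap ρ⁆ ≤ W1 := commutator_le.mpr fun a ha b hb => by
    rw [commutatorElement_eq_one_iff_mul_comm.mpr (hW a ha b hb)]; exact one_mem _
  have c2 : ⁅zpowers κ, zpowers κ⁆ ≤ W1 := commutator_le.mpr fun a ha b hb => by
    obtain ⟨i, rfl⟩ := ha
    obtain ⟨j, rfl⟩ := hb
    rw [(Commute.zpow_zpow_self κ i j).commutator_eq]; exact one_mem _
  have c3 : ⁅R.comap ρ, zpowers κ⁆ ≤ W1 := by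
    rw [← closure_eq (R.comap ρ), zpowers_eq_closure]
    refine H5.commutator_closure_le (by rwa [closure_eq]) (by rwa [← zpowers_eq_closure]) ?_
    rintro v hv _ rfl
    exact ⟨v⁻¹, inv_mem hv, by simp only [commutatorElement_def]; group⟩
  have c4 : ⁅R.comap ρ ⊔ zpowers κ, R.comap ρ ⊔ zpowers κ⁆ ≤ W1 := by
    refine H5.commutator_sup_left_le n1 n2 (sup_le n1 n2) ?_ ?_ <;> rw [commutator_comm]
    · exact H5.commutator_sup_left_le n1 n2 n1 c1 (by rw [commutator_comm]; exact c3)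
    · exact H5.commutator_sup_left_le n1 n2 n2 c3 c2
  intro z hz1 hm
  rw [e] at hm
  obtain ⟨v, hv, rfl⟩ := c4 hm
  rw [map_mul, map_mul, map_mul, map_inv, map_inv, inv_mul_eq_one] at hz1
  rw [← (h.cen_of_perfect hp (hz _ hv hz1.symm) κ).eq]; group

end CX

/-! ### invariant forms -/

section
variable {E M : Type*} [Field E] [Group M]

theorem add_kill (h2 : (2 : E) = 0) {φ : E → M} (hφ : ∀ x y, φ (x + y) = φ x * φ y) {s t : E} (hst : s ≠ t)
    (h : ∀ y, φ (s * y) = φ (t * y)) (y : E) : φ y = 1 := by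
  have h0 : φ 0 = 1 := by simpa using (hφ 0 0).symm
  have hne : s + t ≠ 0 := fun e => hst (by linear_combination e - t * h2)
  have e1 : y = s * (y / (s + t)) + t * (y / (s + t)) := by field_simp
  have e2 : t * (y / (s + t)) + t * (y / (s + t)) = 0 := by linear_combination t * (y / (s + t)) * h2
  rw [e1, hφ, h, ← hφ, e2, h0]

theorem form0 (h2 : (2 : E) = 0) {c : E → E → M} (h1 : ∀ x x' y, c (x + x') y = c x y * c x' y)
    (h1' : ∀ x y y', c x (y + y') = c x y * c x y') {a : E} (a0 : a ≠ 0) (a1 : a + 1 ≠ 0) (a3 : a ^ 3 ≠ 1)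
    (i1 : ∀ x y, c (a * x) (a * y) = c x y) (i2 : ∀ x y, c ((a + 1) * x) ((a + 1) * y) = c x y) (x y : E) :
    c x y = 1 := by
  refine add_kill h2 (h1' x) (s := (a + 1)⁻¹) (t := a⁻¹ + 1) (fun e => a3 ?_) (fun y => ?_) y
  · field_simp at e
    linear_combination (a + 1) * e + (a ^ 3 + a ^ 2 + a) * h2
  · rw [← i2, mul_inv_cancel_left₀ a1, add_mul, one_mul, h1, add_mul, one_mul, h1', ← i1 x (a⁻¹ * y),
      mul_inv_cancel_left₀ a0]

theorem formSz (h2 : (2 : E) = 0) {θ : RingAut E} (th : ∀ x, θ (θ x) = x * x) {c : E → E → M}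
    (h1 : ∀ x x' y, c (x + x') y = c x y * c x' y) (h1' : ∀ x y y', c x (y + y') = c x y * c x y') {g : E}
    (g0 : g ≠ 0) (g1 : g + 1 ≠ 0) (g7 : (g + 1) ^ 7 ≠ 1)
    (i1 : ∀ a, a ≠ 0 → ∀ x y, c (a * x) (a * θ a * y) = c x y) (x y : E) : c x y = 1 := by
  have t0 : ∀ a : E, a ≠ 0 → θ a ≠ 0 := fun a ha => (map_ne_zero_iff θ θ.injective).mpr ha
  have n0 := mul_ne_zero g0 (t0 g g0)
  have n1 := mul_ne_zero g1 (t0 _ g1)
  refine add_kill h2 (h1' x) (s := ((g + 1) * θ (g + 1))⁻¹) (t := (g * θ g)⁻¹ + 1) (fun e => g7 ?_) (fun y => ?_) y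
  · have e1 : g * θ g = (g + 1) * (θ g + 1) * (1 + g * θ g) := by
      rw [map_add, map_one] at e n1
      have := t0 g g0
      have h3 : θ g + 1 ≠ 0 := right_ne_zero_of_mul n1
      field_simp at e
      linear_combination e
    have e2 := congrArg θ e1
    simp only [map_mul, map_add, map_one, th] at e2
    have e3 : g * θ g * ((g + 1) ^ 3 * (θ g + 1) - 1) = 0 := by grind
    have e4 := sub_eq_zero.mp ((mul_eq_zero.mp e3).resolve_left n0)
    have e5 := congrArg θ e4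
    simp only [map_mul, map_add, map_one, map_pow, th] at e5
    grind
  · rw [← i1 _ g1, mul_inv_cancel_left₀ n1, add_mul, one_mul, h1, add_mul, one_mul, h1', ← i1 g g0 x ((g * θ g)⁻¹ * y),
      mul_inv_cancel_left₀ n0]

end

end Cfsg.Agent.H7.Mu
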