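import Cfsg.Agent.H7.Mu1
import Cfsg.Agent.BS.ISuz

/-! Covering groups of `L₂(2ⁿ)` and `Sz(2ⁿ)`. -/

set_option autoImplicit false
set_option linter.unusedSectionVars false

namespace Cfsg.Agent.H7.Mu

open Subgroup Matrix Cfsg.Agent.FT Cfsg.Agent.L0 Cfsg.Agent.H8 Cfsg.Agent.BS
open scoped commutatorElement

theorem cyc_of_fpf {R A : Type*} [Group R] [Group A] [Finite R] [Finite A] [Nontrivial A] {p : ℕ} [Fact p.Prime]
    (φ : R →* MulAut A) (hR : IsPGroup p R) (ho : Odd (Nat.card R)) (h : ∀ r ≠ 1, ∀ a, φ r a = a → a = 1) :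
    IsCyclic R := by
  have : Finite (A ⋊[φ] R) := Finite.of_equiv _ SemidirectProduct.equivProd.symm
  let e := MonoidHom.ofInjective (SemidirectProduct.inr_injective (φ := φ))
  have := odd_regular_pgroup_cyclic (H := (SemidirectProduct.inl : A →* A ⋊[φ] R).range) (hR.of_equiv e)
    (Nat.card_congr e.toEquiv ▸ ho) (fun e => by
      obtain ⟨a, ha⟩ := exists_ne (1 : A)
      exact ha (SemidirectProduct.inl_injective ((e.le ⟨a, rfl⟩).trans (map_one _).symm)))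
    (by rw [SemidirectProduct.range_inl_eq_ker_rightHom, normalizer_eq_top]; exact le_top) (by
      rintro _ ⟨r, rfl⟩ h1
      refine eq_bot_iff.mpr ?_
      rintro _ ⟨⟨a, rfl⟩, h2⟩
      have h3 := congrArg SemidirectProduct.left (mem_cent1.mp h2)
      rw [h r (fun e => h1 (by rw [e, map_one])) a (by simpa using h3.symm), map_one]
      exact one_mem _)
  exact isCyclic_of_surjective e.symm e.symm.surjective

theorem lin_cyc {R n F : Type*} [Group R] [Finite R] [Fintype n] [DecidableEq n] [Nonempty n] [Field F] [Finite F]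
    {p : ℕ} [Fact p.Prime] (φ : R →* Matrix n n F) (inj : Function.Injective φ) (hR : IsPGroup p R) (h2 : p ≠ 2)
    (hd : ∀ d, 0 < d → d < Fintype.card n → ¬ Nat.card F ^ Fintype.card n ≡ Nat.card F ^ d [MOD p]) : IsCyclic R := by
  let _ : MulDistribMulAction R (Multiplicative (n → F)) :=
    { smul := fun r v => Multiplicative.ofAdd (φ r *ᵥ v.toAdd)
      one_smul := fun v => by
        show Multiplicative.ofAdd (φ 1 *ᵥ v.toAdd) = v
        rw [map_one, one_mulVec, ofAdd_toAdd]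
      mul_smul := fun a b v => by
        show Multiplicative.ofAdd (φ (a * b) *ᵥ v.toAdd) = Multiplicative.ofAdd (φ a *ᵥ (φ b *ᵥ v.toAdd))
        rw [map_mul, mulVec_mulVec]
      smul_mul := fun a v w => congrArg Multiplicative.ofAdd (mulVec_add _ _ _)
      smul_one := fun a => congrArg Multiplicative.ofAdd (mulVec_zero _) }
  obtain ⟨k, hk⟩ := IsPGroup.iff_card.mp hR
  refine cyc_of_fpf (MulDistribMulAction.toMulAut R (Multiplicative (n → F))) hR
    (hk ▸ ((Fact.out : p.Prime).odd_of_ne_two h2).pow) fun r h1 v hv => ?_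
  by_contra h0
  let W := LinearMap.eqLocus (toLin' (φ r)) LinearMap.id
  have e1 := (hR.to_subgroup (zpowers r)).card_modEq_card_fixedPoints (Multiplicative (n → F))
  have e2 : Nat.card (MulAction.fixedPoints (zpowers r) (Multiplicative (n → F))) = Nat.card W :=
    Nat.card_congr (Multiplicative.toAdd.subtypeEquiv fun x =>
      ⟨fun h => h ⟨r, mem_zpowers r⟩, fun h g => zpowers_le.mpr (show r ∈ MulAction.stabilizer R x from h) g.2⟩)
  have e3 : Nat.card (Multiplicative (n → F)) = Nat.card F ^ Fintype.card n := by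
    rw [Nat.card_congr Multiplicative.toAdd, Nat.card_fun, Nat.card_eq_fintype_card (α := n)]
  rw [e2, e3, Module.natCard_eq_pow_finrank (K := F) (V := W)] at e1
  refine hd _ (Nat.pos_of_ne_zero fun e => h0 ?_) ?_ e1
  · exact (Submodule.finrank_eq_zero.mp e).le (show v.toAdd ∈ W from hv)
  · rw [← Module.finrank_fintype_fun_eq_card F]
    refine Submodule.finrank_lt fun e => h1 (inj (toLin'.injective ?_))
    rw [map_one, toLin'_one]
    exact LinearMap.eqLocus_eq_top.mp e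

theorem exists_gen (F : Type*) [Field F] [Finite F] :
    ∃ g : F, g ≠ 0 ∧ ∀ n, 0 < n → n + 1 < Nat.card F → g ^ n ≠ 1 := by
  obtain ⟨g, hg⟩ := IsCyclic.exists_ofOrder_eq_natCard (α := Fˣ)
  refine ⟨g, g.ne_zero, fun n h1 h2 e => pow_ne_one_of_lt_orderOf (x := g) h1.ne' ?_ (Units.ext e)⟩
  rw [hg, Nat.card_units]; omega

universe u

variable {Y : Type*} {K : Type u} [Group Y] [Group K] {ρ : Y →* K} {Q Q0 : Subgroup K} {E : Type*} [Field E] {s : E → K}

/-- a section of `Q → Q/Q0 = E` -/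
structure Sec (Q Q0 : Subgroup K) (s : E → K) : Prop where
  two : (2 : E) = 0
  le : Q0 ≤ Q
  cen : ∀ x ∈ Q, ∀ w ∈ Q0, Commute x w
  sq : ∀ w ∈ Q0, w * w = 1 ∧ ∃ x ∈ Q, x * x = w
  mem : ∀ a, s a ∈ Q
  add : ∀ a b, ∃ w ∈ Q0, s (a + b) = s a * s b * w
  onto : ∀ x ∈ Q, ∃ a, ∃ w ∈ Q0, x = s a * w

namespace Sec

variable (c : Sec Q Q0 s) (h : CX ρ)
include c h

theorem cm0 {v w : K} (hv : v ∈ Q0) (hw : w ∈ Q0) : h.cm v w = 1 := by
  obtain ⟨x, hx, rfl⟩ := (c.sq v hv).2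
  exact h.cm_sq (c.cen x hx w hw) (c.sq w hw).1

theorem cm_mul {v w : K} (x : K) (hv : v ∈ Q0) (hw : w ∈ Q0) : h.cm (x * v) w = h.cm x w := by
  rw [h.cm_mul_left (c.cen v (c.le hv) w hw), c.cm0 h hv hw, mul_one]

theorem cm_add {w : K} (hw : w ∈ Q0) (a b : E) : h.cm (s (a + b)) w = h.cm (s a) w * h.cm (s b) w := by
  obtain ⟨v, hv, e⟩ := c.add a b
  rw [e, c.cm_mul h _ hv hw, h.cm_mul_left (c.cen _ (c.mem b) w hw)]

theorem ok {k : K} (hcm : ∀ x ∈ Q, ∀ y ∈ Q, ⁅x, y⁆ ∈ Q0) (hk : k ∈ normalizer (Q0 : Set K))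
    (onto : ∀ w ∈ Q0, ∃ v ∈ Q0, w = v⁻¹ * (k * v * k⁻¹)) (fpf : ∀ v ∈ Q0, k * v * k⁻¹ = v → v = 1)
    (ha : ∀ a, ∀ w ∈ Q0, h.cm (s a) w = 1) {a : E} (a0 : a ≠ 0) (a1 : a + 1 ≠ 0) (a3 : a ^ 3 ≠ 1)
    (i : ∀ b, b = a ∨ b = a + 1 → ∃ d ∈ normalizer (Q0 : Set K), d * k = k * d ∧
      ∀ x, ∃ w ∈ Q0, s (b * x) = d * s x * d⁻¹ * w) : Ok ρ Q := by
  refine h.ok_of_forms c.le hcm hk onto fpf (fun x hx w hw => ?_) fun γ g1 g2 g3 g4 x hx y hy => ?_
  · obtain ⟨a, v, hv, rfl⟩ := c.onto x hx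
    rw [c.cm_mul h _ hv hw, ha a w hw]
  have g5 : ∀ x ∈ Q, ∀ y ∈ Q, ∀ v ∈ Q0, ∀ w ∈ Q0, γ (x * v) (y * w) = γ x y := fun x hx y hy v hv w hw => by
    have := mul_mem hy (c.le hw)
    rw [g1 x hx v (c.le hv) _ this, (g4 _ this v hv).2, mul_one, g2 x hx y hy w (c.le hw), (g4 x hx w hw).1, mul_one]
  have g6 : ∀ b, b = a ∨ b = a + 1 → ∀ x y, γ (s (b * x)) (s (b * y)) = γ (s x) (s y) := fun b hb x y => by
    obtain ⟨d, hd, e, hs⟩ := i b hb
    obtain ⟨v, hv, e1⟩ := hs x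
    obtain ⟨w, hw, e2⟩ := hs y
    have m1 := (mul_mem_cancel_right (c.le hv)).mp (e1 ▸ c.mem _)
    have m2 := (mul_mem_cancel_right (c.le hw)).mp (e2 ▸ c.mem _)
    rw [e1, e2, g5 _ m1 _ m2 v hv w hw, g3 d hd e _ (c.mem x) _ (c.mem y)]
  obtain ⟨x, v, hv, rfl⟩ := c.onto x hx
  obtain ⟨y, w, hw, rfl⟩ := c.onto y hy
  rw [g5 _ (c.mem x) _ (c.mem y) v hv w hw]
  refine form0 c.two (c := fun x y => γ (s x) (s y)) (fun x x' y => ?_) (fun x y y' => ?_) a0 a1 a3 (g6 a (Or.inl rfl))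
    (g6 _ (Or.inr rfl)) x y
  · obtain ⟨v, hv, e⟩ := c.add x x'
    rw [e, ← mul_one (s y), g5 _ (mul_mem (c.mem x) (c.mem x')) _ (c.mem y) v hv 1 (one_mem _), mul_one,
      g1 _ (c.mem x) _ (c.mem x') _ (c.mem y)]
  · obtain ⟨v, hv, e⟩ := c.add y y'
    rw [e, ← mul_one (s x), g5 _ (c.mem x) _ (mul_mem (c.mem y) (c.mem y')) 1 (one_mem _) v hv, mul_one,
      g2 _ (c.mem x) _ (c.mem y) _ (c.mem y')]

end Sec

variable [Finite K] (X : Suz K) (h : CX ρ)
include h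

theorem l2_ab (h4 : X.q ≠ 4) {x y : K} (hx : x ∈ X.Z) (hy : y ∈ X.Z) : h.cm x y = 1 := by
  obtain ⟨F, _, _, h2, hF, ⟨c⟩⟩ := X.exists_fd
  obtain ⟨g, g0, hg⟩ := exists_gen F
  have := X.four_le_q
  rw [Nat.card_eq_fintype_card, hF] at hg
  obtain ⟨x, rfl⟩ := (c.mem_Z x).mp hx
  obtain ⟨y, rfl⟩ := (c.mem_Z y).mp hy
  have hc : ∀ a b, Commute (c.z a) (c.z b) := fun a b => by rw [Commute, SemiconjBy, ← c.z_add, ← c.z_add, add_comm]
  have i : ∀ a : F, a ≠ 0 → ∀ x y, h.cm (c.z (a * x)) (c.z (a * y)) = h.cm (c.z x) (c.z y) := fun a a0 x y => by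
    rw [← h.cm_conj (hc x y) (c.κ (Units.mk0 a a0)), c.conj, c.conj]; rfl
  have g1 : g + 1 ≠ 0 := fun e => hg 1 one_pos (by omega) (by linear_combination e - h2)
  exact form0 h2 (c := fun x y => h.cm (c.z x) (c.z y)) (fun x x' y => by rw [c.z_add, h.cm_mul_left (hc _ _)])
    (fun x y y' => by rw [c.z_add, h.cm_mul_right (hc _ _)]) g0 g1 (hg 3 (by omega) (by omega)) (i g g0) (i _ g1) x y

theorem sz_inj [Finite Y] [IsSimpleGroup K] (hp : commutator Y = ⊤) (hc : Nat.card X.Q = X.q ^ 2) (h8 : X.q ≠ 8) :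
    Function.Injective ρ := by
  have r := X.rk1 X.core_eq_bot
  have hS := X.struct
  have h4 := X.four_le_q
  have hn : ¬ IsMulCommutative X.Q := fun a => by
    have h5 := hS.ab fun x hx y hy => congrArg Subtype.val (a.is_comm.comm (⟨x, hx⟩ : X.Q) ⟨y, hy⟩)
    rw [h5] at hc
    change X.q = _ at hc
    nlinarith
  have hg : Rec.gen X.Q X.t = ⊤ := ((Rec.gen_normal r).eq_bot_or_eq_top).resolve_left
    fun e => X.tH ((mem_bot.1 (e ▸ Rec.Rk1.t_mem (Q := X.Q)) : X.t = 1) ▸ one_mem _)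
  have hD := (Rec.rec_Sz r hS.two hc hn).1
  rw [hg, top_inf_eq] at hD
  obtain ⟨n, hn2, hq⟩ := X.exists_q
  have := Fintype.ofFinite (GaloisField 2 n)
  have hF := Rec.card_GF (n := n) (by omega)
  obtain ⟨θ, j, c⟩ := r.exists_sc hS.two hc hn (hF.trans hq.symm)
  obtain ⟨θ, j, c, e⟩ := c.norm r hc
  have H : Rec.Th θ := ⟨c.two, c.theta r e⟩
  obtain ⟨m, hm, rfl, he⟩ := H.exists_pow hn2 hF
  obtain ⟨f⟩ := c.iso r e he
  have hK := X.card_K
  have hG := X.card_G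
  rw [hD, hc] at hG
  have h2q : 2 ∣ X.q := hq ▸ dvd_pow_self 2 (by omega)
  refine h.inj_of hp fun p pp => ?_
  have := Fact.mk pp
  by_cases p2 : p = 2
  · subst p2
    refine ⟨X.Q, fun hd => ?_, ?_⟩
    · have h1 := X.Q.card_mul_index
      rw [hG, hc, mul_comm (_ + 1), mul_assoc, Nat.mul_right_inj (by positivity)] at h1
      rw [h1, Nat.prime_two.dvd_mul, Nat.dvd_add_right (dvd_pow h2q two_ne_zero)] at hd
      omega
    obtain ⟨g, g0, hg⟩ := exists_gen (GaloisField 2 (2 * m + 1))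
    have h32 : 32 ≤ 2 ^ (2 * m + 1) := by
      have : m ≠ 1 := by rintro rfl; exact h8 hq
      exact Nat.pow_le_pow_right (n := 2) (i := 5) (by norm_num) (by omega)
    rw [Nat.card_eq_fintype_card, hF] at hg
    have t2 := c.two
    have g1 : g + 1 ≠ 0 := fun e => hg 1 one_pos (by omega) (by linear_combination e - t2)
    have mZ : ∀ y, j 0 y ∈ X.Z := fun y => X.mem_Z.mpr ⟨c.mem _ _, by
      rw [c.mul, ← c.j0]; congr 1 <;> grind⟩
    have mZ' : ∀ w ∈ X.Z, ∃ y, w = j 0 y := fun w hw => by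
      obtain ⟨x, y, rfl⟩ := c.surj w (X.Z_le hw)
      have h1 := (X.mem_Z.mp hw).2
      rw [c.mul, ← c.j0] at h1
      have h2 := c.sinj x 0 (by have := (c.inj _ _ _ _ h1).2; grind)
      exact ⟨y, by rw [h2]⟩
    have sc : Sec X.Q X.Z fun a => j a 0 := ⟨t2, X.Z_le, fun x hx w hw => (X.Z_comm hw hx).symm, fun w hw => by
        obtain ⟨y, rfl⟩ := mZ' w hw
        obtain ⟨x, rfl⟩ := c.ssurj y
        exact ⟨(X.mem_Z.mp hw).2, j x 0, c.mem _ _, by rw [c.mul]; congr 1 <;> grind⟩,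
      fun a => c.mem _ _, fun a b => ⟨_, mZ (θ a * b), by rw [c.mul, c.mul]; congr 1 <;> grind⟩, fun x hx => by
        obtain ⟨x, y, rfl⟩ := c.surj x hx
        exact ⟨x, _, mZ y, by rw [c.mul]; congr 1 <;> grind⟩⟩
    obtain ⟨k, hk, ak⟩ := c.act g g0
    have k1 : k ≠ 1 := by
      rintro rfl
      exact hg 1 one_pos (by omega) (by simpa using (c.inj _ _ _ _ (by simpa using ak 1 0)).1.symm)
    have nZ := X.K_le.trans (X.D_le.trans X.H_le_norm_Z)
    refine sc.ok h (fun x hx y hy => ?_) (nZ hk) (fun w hw => ?_)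
      (fun v hv e => (X.K_fpf hk (X.Z_le hv) (mul_inv_eq_iff_eq_mul.mp e)).resolve_left k1) (fun a w hw => ?_) g0 g1
      (hg 3 (by omega) (by omega)) fun b hb => ?_
    · obtain ⟨a, b, rfl⟩ := c.surj x hx
      obtain ⟨a', b', rfl⟩ := c.surj y hy
      rw [commutatorElement_def, c.inv, c.inv, c.mul, c.mul, c.mul, show a + a' + a + a' = 0 by grind]
      exact mZ _
    · obtain ⟨v, hv, e⟩ := r.exists_comm hk k1 X.Z_le (fun y hy => (mem_normalizer_iff.mp (nZ hk) y).mp hy) hw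
      exact ⟨v⁻¹, inv_mem hv, by rwa [inv_inv]⟩
    · obtain ⟨y, rfl⟩ := mZ' w hw
      refine formSz t2 H.th (c := fun x y => h.cm (j x 0) (j 0 y)) (fun x x' y => sc.cm_add h (mZ y) x x')
        (fun x y y' => ?_) (g := g + 1) g1 (by grind) (by
          rw [show g + 1 + 1 = g by grind]; exact hg 7 (by omega) (by omega)) (fun a a0 x y => ?_) a y
      · rw [← h.cm_mul_right (sc.cen _ (c.mem _ _) _ (mZ y')), c.mul]; congr 2 <;> grind
      · obtain ⟨d, -, ad⟩ := c.act a a0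
        rw [← h.cm_conj (sc.cen _ (c.mem x 0) _ (mZ y)) d, ad, ad, mul_zero, mul_zero]
    · obtain ⟨d, hd, ad⟩ := c.act b (by rcases hb with rfl | rfl <;> assumption)
      exact ⟨d, nZ hd, X.K_comm hd hk, fun x => ⟨1, one_mem _, by rw [ad, mul_zero, mul_one]⟩⟩
  have pq : ¬ p ∣ X.q := fun hd => p2 ((Nat.prime_dvd_prime_iff_eq pp Nat.prime_two).mp (pp.dvd_of_dvd_pow (hq ▸ hd)))
  by_cases hd : p ∣ X.q ^ 2 + 1
  · obtain ⟨R⟩ : Nonempty (Sylow p K) := inferInstance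
    refine ⟨R, R.not_dvd_index, h.ok_of_cyclic (lin_cyc ((Units.coeHom _).comp ((Lie.Sz _ _).subtype.comp
      (f.toMonoidHom.comp ((inclusion hg.ge).comp (topEquiv.symm.toMonoidHom.comp (R : Subgroup K).subtype)))))
      (Units.val_injective.comp (Subtype.val_injective.comp (f.injective.comp ((inclusion_injective hg.ge).comp
        (topEquiv.symm.injective.comp Subtype.val_injective))))) R.isPGroup' p2 fun d d0 d4 e => ?_)⟩
    rw [Fintype.card_fin] at d4 e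
    rw [Nat.card_eq_fintype_card, hF, ← hq, ← ZMod.natCast_eq_natCast_iff] at e
    rw [← ZMod.natCast_eq_zero_iff] at hd pq
    have t2 : ((2 : ℕ) : ZMod p) ≠ 0 := fun e =>
      p2 ((Nat.prime_dvd_prime_iff_eq pp Nat.prime_two).mp ((ZMod.natCast_eq_zero_iff _ _).mp e))
    push_cast at hd e t2
    interval_cases d <;> grind
  · refine ⟨X.K, fun h1 => ?_, h.ok_of_cyclic X.K_cyclic⟩
    have h2 := X.K.card_mul_index
    rw [hG, mul_comm _ (Nat.card X.K), Nat.mul_right_inj Nat.card_pos.ne'] at h2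
    rw [h2, pp.dvd_mul] at h1
    exact h1.elim hd fun e => pq (pp.dvd_of_dvd_pow e)

end Cfsg.Agent.H7.Mu
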