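import Cfsg.Agent.H7.Mu2

/-! The group `SU₃(2ⁿ)`: order, centre, tori. -/

set_option autoImplicit false
set_option linter.unusedSectionVars false

namespace Cfsg.Agent.H7.Mu

open Subgroup Matrix Cfsg.Agent.H1.U3 Cfsg.Agent.BS.Rec
open scoped commutatorElement

variable {E : Type*} [Field E] {σ : E →+* E} [Ctx σ] {q : ℕ}

theorem σ_ne (μ : Eˣ) : σ μ ≠ 0 := (map_ne_zero σ).2 μ.ne_zero

/-- diagonal matrices in the hyperbolic basis -/
def dM (σ : E →+* E) (μ : Eˣ) : Matrix (Fin 3) (Fin 3) E := !![μ, 0, 0; 0, σ μ / μ, 0; 0, 0, (σ μ)⁻¹]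

/-- the action of the diagonal matrices on the unipotent group -/
def ac3 (μ : Eˣ) (u : US σ) : US σ := ⟨σ μ ^ 2 / μ * u.a, σ μ * μ * u.b, by
  have := σ_ne (σ := σ) μ
  simp only [map_mul, map_div₀, map_pow, invol]
  field_simp
  linear_combination u.h⟩

variable (hq : ∀ x, σ x = x ^ q)

def ofM (M : Matrix (Fin 3) (Fin 3) E) (h1 : M.det = 1) (h2 : ∀ x y, hf σ (M *ᵥ x) (M *ᵥ y) = hf σ x y) : SU 3 E q :=
  ⟨⟨Bm E * M * Bi E, by rw [H1.U3.det_conj, h1]⟩, fun v w => by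
    change hermForm 3 E q ((Bm E * M * Bi E) *ᵥ v) ((Bm E * M * Bi E) *ᵥ w) = _
    rw [← mulVec_mulVec, ← mulVec_mulVec, ← mulVec_mulVec, ← mulVec_mulVec, herm_Bm hq, h2,
      ← herm_Bm hq, mulVec_mulVec, mulVec_mulVec, Bm_mul_Bi, one_mulVec, one_mulVec]⟩

def δ0 (μ : Eˣ) : SU 3 E q := ofM hq (dM σ μ) (by
    have := σ_ne (σ := σ) μ
    simp [dM, det_fin_three]; field_simp) fun x y => by
  have := σ_ne (σ := σ) μ
  simp [hf, dM, mulVec, dotProduct, Fin.sum_univ_three]; field_simp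

theorem cm_δ0 (μ : Eˣ) : cm (δ0 hq μ) = dM σ μ := conj_conj _

def δ : Eˣ →* SU 3 E q := MonoidHom.mk' (δ0 hq) fun a b => cm_inj (by
  rw [cm_mul, cm_δ0, cm_δ0, cm_δ0]
  ext i j; fin_cases i <;> fin_cases j <;> simp [dM, mul_comm, div_mul_div_comm])

theorem cm_δ (μ : Eˣ) : cm (δ hq μ) = dM σ μ := cm_δ0 hq μ

theorem δ_inj : Function.Injective (δ hq) := fun a b e => by
  have := congrFun (congrFun (congrArg cm e) 0) 0
  rw [cm_δ, cm_δ] at this
  exact Units.ext this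

theorem δ_conj (μ : Eˣ) (u : US σ) : δ hq μ * toSU hq u * (δ hq μ)⁻¹ = toSU hq (ac3 μ u) :=
  mul_inv_eq_iff_eq_mul.mpr (cm_inj (by
    have := σ_ne (σ := σ) μ
    rw [cm_mul, cm_mul, cm_δ, cm_U, cm_U]
    ext i j; fin_cases i <;> fin_cases j <;> simp [dM, um, ac3] <;> field_simp))

theorem δ_e3 (μ : Eˣ) : cm (δ hq μ) *ᵥ e3 1 = e3 (μ : E) := by
  rw [cm_δ]; ext i; fin_cases i <;> simp [dM, e3, mulVec, dotProduct, Fin.sum_univ_three]

theorem stab_e3 {A : SU 3 E q} (e : cm A *ᵥ e3 1 = e3 1) : A ∈ (toSU hq).range := by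
  rcases iso_cases (cm_iso hq A (iso_iv one_ne_zero 1)).1 (cm_iso hq A (iso_iv one_ne_zero 1)).2 with
    ⟨c, hc, e1⟩ | ⟨c, u, hc, e1⟩
  · have := cm_hf hq A (e3 1) (iv 1 (1 : US σ))
    rw [e, e1] at this
    simp [hf, e3, iv] at this
  have h1 := cm_hf hq A (iv 1 (1 : US σ)) (e3 1)
  rw [e, e1] at h1
  obtain rfl : c = 1 := by simpa [hf, e3, iv] using h1
  have := cm_diag hq (A := toSU hq u⁻¹ * A) one_ne_zero one_ne_zero (by rw [cm_mul, ← mulVec_mulVec, e, cm_U, um_e3])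
    (by rw [cm_mul, ← mulVec_mulVec, e1, cm_U, um_iv, inv_mul_cancel])
  rw [mul_one, inv_one, ← one_fin_three, ← cm_one (q := q)] at this
  exact ⟨u, inv_mul_eq_one.mp (map_inv (toSU hq) u ▸ cm_inj this)⟩

/-- the natural module in the hyperbolic basis -/
def VV (E : Type*) := Fin 3 → E

instance actVV : MulAction (SU 3 E q) (VV E) where
  smul A (v : Fin 3 → E) := cm A *ᵥ v
  one_smul (v : Fin 3 → E) := show cm 1 *ᵥ v = v by rw [cm_one, one_mulVec]
  mul_smul a b (v : Fin 3 → E) := show cm (a * b) *ᵥ v = cm a *ᵥ (cm b *ᵥ v) by rw [cm_mul, mulVec_mulVec]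

include hq in
theorem card_SU [Finite E] : Nat.card (SU 3 E q) = Nat.card (US σ) * (Nat.card Eˣ * (Nat.card (US σ) + 1)) := by
  have h1 : MulAction.stabilizer (SU 3 E q) (show VV E from e3 (1 : E)) = (toSU hq).range :=
    le_antisymm (fun A => stab_e3 hq) (by
      rintro _ ⟨u, rfl⟩
      show cm _ *ᵥ _ = _
      rw [cm_U, um_e3])
  let f : Eˣ × Option (US σ) → VV E := fun p => p.2.elim (e3 (p.1 : E)) (iv (p.1 : E))
  have h2 : MulAction.orbit (SU 3 E q) (show VV E from e3 (1 : E)) = Set.range f := by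
    ext v
    constructor
    · rintro ⟨A, rfl⟩
      rcases iso_cases (cm_iso hq A (iso_e3 one_ne_zero)).1 (cm_iso hq A (iso_e3 one_ne_zero)).2 with
        ⟨c, hc, e⟩ | ⟨c, u, hc, e⟩
      exacts [⟨(Units.mk0 c hc, none), e.symm⟩, ⟨(Units.mk0 c hc, some u), e.symm⟩]
    · rintro ⟨⟨c, _ | u⟩, rfl⟩
      · exact ⟨δ hq c, δ_e3 hq c⟩
      · refine ⟨toSU hq u * wSU hq * δ hq c, show cm _ *ᵥ _ = iv _ u from ?_⟩
        rw [cm_mul, cm_mul, ← mulVec_mulVec, ← mulVec_mulVec, δ_e3, W_e3, cm_U, um_iv, mul_one]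
  have h3 : Function.Injective f := by
    rintro ⟨c, _ | u⟩ ⟨d, _ | v⟩ e
    · rw [show c = d from Units.ext (congrFun e 0)]
    · exact absurd (congrFun e 2).symm d.ne_zero
    · exact absurd (congrFun e 2) c.ne_zero
    · obtain rfl : c = d := Units.ext (congrFun e 2)
      rw [US.ext (mul_left_cancel₀ c.ne_zero (congrFun e 1)) (mul_left_cancel₀ c.ne_zero (congrFun e 0))]
  rw [← (toSU hq).range.card_mul_index, ← Nat.card_congr (MonoidHom.ofInjective (toSU_injective hq)).toEquiv, ← h1,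
    MulAction.index_stabilizer, h2, Set.ncard_range_of_injective h3, Nat.card_prod, Finite.card_option]

theorem cen_of_scalar {A : SU 3 E q} {c : E} (h : cm A = c • 1) (B : SU 3 E q) : Commute A B :=
  cm_inj (by rw [cm_mul, cm_mul, h]; simp)

include hq in
theorem scalar_of_cen {A : SU 3 E q} (h : A ∈ center (SU 3 E q)) : ∃ c : E, c ^ 3 = 1 ∧ cm A = c • 1 := by
  have h1 : ∀ B v, cm B *ᵥ (cm A *ᵥ v) = cm A *ᵥ (cm B *ᵥ v) := fun B v => by
    rw [mulVec_mulVec, mulVec_mulVec, ← cm_mul, ← cm_mul, mem_center_iff.mp h]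
  have h2 := h1 (toSU hq (lift σ 1))
  rw [cm_U] at h2
  obtain ⟨c, hc, e⟩ := (iso_cases (cm_iso hq A (iso_e3 one_ne_zero)).1 (cm_iso hq A (iso_e3 one_ne_zero)).2).resolve_right
    fun ⟨c, u, hc, e⟩ => by
      have := h2 (e3 1)
      rw [um_e3, e, um_iv] at this
      simpa [iv, hc] using congrFun this 1
  have h3 := cm_diag hq hc hc e (by rw [← W_e3 hq, ← h1, e, W_e3])
  have h4 : (c * c)⁻¹ = c := by
    simpa [h3, um, mulVec, dotProduct, Fin.sum_univ_three] using (congrFun (h2 ![0, 0, 1]) 1).symm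
  refine ⟨c, by rw [pow_three', ← inv_mul_cancel₀ (mul_ne_zero hc hc), h4, mul_comm], ?_⟩
  rw [h3, h4]; ext i k; fin_cases i <;> fin_cases k <;> simp

include hq in
theorem cube_of_cen {A : SU 3 E q} (h : A ∈ center (SU 3 E q)) : A ^ 3 = 1 := by
  obtain ⟨c, h1, h2⟩ := scalar_of_cen hq h
  refine cm_inj ?_
  rw [pow_three, cm_mul, cm_mul, h2, cm_one, smul_mul_assoc, smul_mul_assoc, one_mul, one_mul, smul_smul, smul_smul,
    ← pow_three', h1, one_smul]

include hq in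
theorem eq_center {N : Subgroup (SU 3 E q)} (h : N ≤ center (SU 3 E q)) : N = ⊥ ∨ N = center (SU 3 E q) := by
  refine or_iff_not_imp_left.mpr fun h0 => le_antisymm h fun B hB => ?_
  obtain ⟨⟨A, hA⟩, h1⟩ := ne_bot_iff_exists_ne_one.mp h0
  obtain ⟨c, c1, c2⟩ := scalar_of_cen hq (h hA)
  obtain ⟨d, d1, d2⟩ := scalar_of_cen hq hB
  have c3 : c ≠ 1 := fun e => h1 (Subtype.ext (cm_inj (by rw [c2, e, one_smul]; exact cm_one.symm)))
  obtain rfl | rfl | rfl : d = 1 ∨ d = c ∨ d = c * c := by grind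
  · rw [show B = 1 from cm_inj (by rw [d2, one_smul, cm_one])]; exact one_mem _
  · rwa [cm_inj (d2.trans c2.symm)]
  · rw [show B = A * A from cm_inj (by rw [d2, cm_mul, c2]; simp [smul_smul])]; exact mul_mem hA hA

include hq in
theorem perfect_SU [Finite E] (hp : commutator (PSU 3 E q) = ⊤) : commutator (SU 3 E q) = ⊤ := by
  have h1 : ∀ A : SU 3 E q, A ^ 4 = 1 → A ∈ commutator (SU 3 E q) := fun A hA => by
    have h2 : commutator (SU 3 E q) ⊔ center _ = ⊤ := by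
      rw [← QuotientGroup.ker_mk' (center (SU 3 E q)), ← comap_map_eq, map_commutator_eq,
        MonoidHom.range_eq_top.mpr (QuotientGroup.mk'_surjective _), ← commutator_def, hp, comap_top]
    obtain ⟨a, ha, z, hz, rfl⟩ := mem_sup_of_normal_left.mp (h2 ▸ mem_top A)
    rw [(show Commute a z from mem_center_iff.mp hz a).mul_pow, pow_succ z, cube_of_cen hq hz, one_mul] at hA
    exact mul_mem ha ((mul_mem_cancel_left (pow_mem ha 4)).mp (hA ▸ one_mem _))
  refine eq_top_iff.mpr fun A _ => closure_le _ |>.mpr ?_ (mem_clU hq A)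
  rintro _ (rfl | ⟨u, rfl⟩)
  · have : wSU hq * wSU hq = 1 := cm_inj (by
      rw [cm_mul, cm_one, show cm (wSU hq) = !![0, 0, 1; 0, 1, 0; 1, 0, 0] from conj_conj _]
      simp [one_fin_three])
    exact h1 _ (by rw [show 4 = 2 * 2 from rfl, pow_mul, sq (wSU hq), this, one_pow])
  · exact h1 _ (by rw [← map_pow, pow_four, map_one])

/-! ### the anisotropic torus -/

abbrev U1 (E : Type*) [Field E] (q : ℕ) : Subgroup Eˣ := (powMonoidHom (q + 1) : Eˣ →* Eˣ).ker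

theorem U1_mul (x : U1 E q) : ((x : Eˣ) : E) * ((x : Eˣ) : E) ^ q = 1 := by
  rw [← pow_succ']; exact congrArg Units.val x.2

def tor0 (x : U1 E q × U1 E q) : SU 3 E q :=
  ⟨⟨diagonal ![(x.1.1 : E), (x.2.1 : E), ((x.1 * x.2)⁻¹.1 : E)], by simp [Fin.prod_univ_three]; field_simp⟩, fun v w => by
    have h : ∀ (y : U1 E q) (a b : E), ((y : Eˣ) : E) * a * (((y : Eˣ) : E) * b) ^ q = a * b ^ q := fun y a b => by
      rw [mul_pow, mul_mul_mul_comm, U1_mul, one_mul]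
    show hermForm 3 E q (diagonal _ *ᵥ v) (diagonal _ *ᵥ w) = _
    simp only [hermForm, mulVec_diagonal, Fin.sum_univ_three]
    exact congrArg₂ (· + ·) (congrArg₂ (· + ·) (h _ _ _) (h _ _ _)) (h _ _ _)⟩

def tor : U1 E q × U1 E q →* SU 3 E q := MonoidHom.mk' tor0 fun a b => Subtype.ext (Subtype.ext (by
  show diagonal _ = diagonal _ * diagonal _
  rw [diagonal_mul_diagonal]
  congr 1; ext i; fin_cases i <;> simp; ring))

theorem tor_val (x : U1 E q × U1 E q) : (tor x).1.1 = diagonal ![(x.1.1 : E), (x.2.1 : E), ((x.1 * x.2)⁻¹.1 : E)] := rfl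

theorem tor_inj : Function.Injective (tor : U1 E q × U1 E q → SU 3 E q) := fun a b e => by
  have := diagonal_injective ((tor_val a).symm.trans ((congrArg (·.1.1) e).trans (tor_val b)))
  exact Prod.ext (Subtype.ext (Units.ext (congrFun this 0))) (Subtype.ext (Units.ext (congrFun this 1)))

def sw (h2 : (2 : E) = 0) : SU 3 E q := ⟨⟨!![0, 1, 0; 1, 0, 0; 0, 0, 1], by
    simp [det_fin_three]; linear_combination -h2⟩, fun v w => by
  show hermForm 3 E q (!![0, 1, 0; 1, 0, 0; 0, 0, 1] *ᵥ v) (!![0, 1, 0; 1, 0, 0; 0, 0, 1] *ᵥ w) = _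
  simp [hermForm, mulVec, dotProduct, Fin.sum_univ_three]; ring⟩

def cy (E : Type*) [Field E] (q : ℕ) : SU 3 E q := ⟨⟨!![0, 0, 1; 1, 0, 0; 0, 1, 0], by simp [det_fin_three]⟩, fun v w => by
  show hermForm 3 E q (!![0, 0, 1; 1, 0, 0; 0, 1, 0] *ᵥ v) (!![0, 0, 1; 1, 0, 0; 0, 1, 0] *ᵥ w) = _
  simp [hermForm, mulVec, dotProduct, Fin.sum_univ_three]; ring⟩

theorem sw_conj (h2 : (2 : E) = 0) (x y : U1 E q) : sw h2 * tor (x, y) * (sw h2)⁻¹ = tor (y, x) :=
  mul_inv_eq_iff_eq_mul.mpr (Subtype.ext (Subtype.ext (by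
    show !![0, 1, 0; 1, 0, 0; 0, 0, 1] * diagonal _ = diagonal _ * !![0, 1, 0; 1, 0, 0; 0, 0, 1]
    ext i j; fin_cases i <;> fin_cases j <;> simp [mul_comm])))

theorem cy_conj (x y : U1 E q) : cy E q * tor (x, y) * (cy E q)⁻¹ = tor ((x * y)⁻¹, x) :=
  mul_inv_eq_iff_eq_mul.mpr (Subtype.ext (Subtype.ext (by
    show !![0, 0, 1; 1, 0, 0; 0, 1, 0] * diagonal _ = diagonal _ * !![0, 0, 1; 1, 0, 0; 0, 1, 0]
    ext i j; fin_cases i <;> fin_cases j <;> simp [mul_comm])))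

theorem cy_cube : cy E q ^ 3 = 1 := Subtype.ext (Subtype.ext (by
  show (!![0, 0, 1; 1, 0, 0; 0, 1, 0] : Matrix _ _ E) ^ 3 = 1
  simp [pow_three, one_fin_three]))

theorem cy_not_mem : cy E q ∉ tor.range := fun ⟨x, e⟩ => by
  simpa [tor_val, cy] using congrFun (congrFun (congrArg (·.1.1) e) 1) 0

theorem tor_cen {x : U1 E q × U1 E q} (h : cy E q * tor x * (cy E q)⁻¹ = tor x) (B : SU 3 E q) : Commute (tor x) B := by
  obtain ⟨x, y⟩ := x
  obtain ⟨h1, rfl⟩ := Prod.mk.inj (tor_inj ((cy_conj x y).symm.trans h))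
  refine cen_of_scalar (c := (x.1 : E)) ?_ B
  rw [cm, tor_val, h1, show ![((x : Eˣ) : E), (x : Eˣ), (x : Eˣ)] = fun _ => ((x : Eˣ) : E) by
    ext i; fin_cases i <;> rfl, ← smul_one_eq_diagonal, Matrix.mul_smul, Matrix.smul_mul, Matrix.mul_one, Bi_mul_Bm]

end Cfsg.Agent.H7.Mu
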