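import Cfsg.Agent.H7.Mu3
import Cfsg.Agent.H7.CI6

/-! Covering groups of `U₃(2ⁿ)`. -/

set_option autoImplicit false
set_option linter.unusedSectionVars false

namespace Cfsg.Agent.H7.Mu

open Subgroup Matrix Cfsg.Agent.H1.U3 Cfsg.Agent.BS.Rec
open scoped commutatorElement

variable {E : Type*} [Field E] [Finite E] {σ : E →+* E} [Ctx σ] {q : ℕ} (hq : ∀ x, σ x = x ^ q)
  {Y : Type*} [Group Y] {ρ : Y →* SU 3 E q} (h : CX ρ)

theorem sec_su : Sec (toSU hq).range ((center (US σ)).map (toSU hq)) fun a => toSU hq (lift σ a) where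
  two := two σ
  le := map_le_range _ _
  cen := by
    rintro _ ⟨u, rfl⟩ _ ⟨z, hz, rfl⟩
    exact (show Commute u z from Subgroup.mem_center_iff.mp hz u).map _
  sq := by
    rintro _ ⟨z, hz, rfl⟩
    have h0 := H1.U3.mem_center_iff.mp hz
    obtain ⟨x, hx⟩ := H1.Singer.exists_sq (two σ) z.b
    have h1 : σ x = x := by
      have h1 := congrArg σ hx
      rw [map_pow, fixed_of_a h0] at h1
      have := two σ
      grind
    refine ⟨?_, _, ⟨lift σ x, rfl⟩, ?_⟩ <;> rw [← map_mul]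
    · rw [show z * z = 1 from US.ext (sq_a z) (by rw [sq_b, h0, mul_zero, one_b]), map_one]
    · rw [US.ext ((sq_a _).trans h0.symm) (by rw [sq_b, lift_a, h1, ← hx, sq])]
  mem a := ⟨_, rfl⟩
  add a b := ⟨_, ⟨(lift σ a * lift σ b)⁻¹ * lift σ (a + b), H1.U3.mem_center_iff.mpr (by simp), rfl⟩, by
    rw [← map_mul, ← map_mul, mul_inv_cancel_left]⟩
  onto := by
    rintro _ ⟨u, rfl⟩
    exact ⟨u.a, _, ⟨(lift σ u.a)⁻¹ * u, H1.U3.mem_center_iff.mpr (by simp), rfl⟩, by rw [← map_mul, mul_inv_cancel_left]⟩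

include h in
theorem ok_U (hE : Nat.card E = q ^ 2) (h4 : q = 4 ∨ 8 ≤ q) : Ok ρ (toSU hq).range := by
  have c := sec_su hq
  have t2 := two σ
  obtain ⟨g, g0, hg⟩ := exists_gen E
  rw [hE] at hg
  have nZ : ∀ μ, δ hq μ ∈ normalizer ((center (US σ)).map (toSU hq) : Set (SU 3 E q)) := fun μ =>
    H5.mem_normalizer_of_conj_mem (by
      rintro _ ⟨z, hz, rfl⟩
      exact ⟨ac3 μ z, H1.U3.mem_center_iff.mpr (by simp [ac3, H1.U3.mem_center_iff.mp hz]), (δ_conj hq μ z).symm⟩)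
  have i0 : ∀ (μ : Eˣ) x, ∃ w ∈ (center (US σ)).map (toSU hq),
      toSU hq (lift σ (σ μ ^ 2 / μ * x)) = δ hq μ * toSU hq (lift σ x) * (δ hq μ)⁻¹ * w := fun μ x =>
    ⟨_, ⟨(ac3 μ (lift σ x))⁻¹ * lift σ (σ μ ^ 2 / μ * x), H1.U3.mem_center_iff.mpr (by simp [ac3]), rfl⟩, by
      rw [δ_conj, ← map_mul, mul_inv_cancel_left]⟩
  have hN : σ g * g ≠ 1 := by
    rw [hq, ← pow_succ]; exact hg _ (by omega) (by rcases h4 with rfl | h4 <;> nlinarith)
  have hN' : σ (σ g * g) = σ g * g := norm_fixed g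
  obtain ⟨a, a0, a1, a3, ha⟩ : ∃ a : E, a ≠ 0 ∧ a + 1 ≠ 0 ∧ a ^ 3 ≠ 1 ∧
      ∀ b, b = a ∨ b = a + 1 → b ≠ 0 → ∃ μ : Eˣ, σ μ ^ 2 / μ = b := by
    rcases h4 with rfl | h4
    · refine ⟨g, g0, fun e => hg 1 one_pos (by omega) (by grind), hg 3 (by omega) (by omega), fun b _ b0 =>
        ⟨Units.mk0 (b ^ 13) (pow_ne_zero _ b0), ?_⟩⟩
      have := Fintype.ofFinite E
      have := FiniteField.pow_card_sub_one_eq_one b b0
      rw [← Nat.card_eq_fintype_card, hE] at this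
      rw [hq, Units.val_mk0, div_eq_iff (pow_ne_zero _ b0)]
      grind
    · refine ⟨σ g * g, mul_ne_zero ((map_ne_zero σ).2 g0) g0, by grind, ?_, fun b hb b0 => ⟨Units.mk0 b b0, ?_⟩⟩
      · rw [hq, ← pow_succ, ← pow_mul]; exact hg _ (by omega) (by nlinarith)
      · have : σ b = b := by rcases hb with rfl | rfl <;> simp [mul_comm]
        rw [Units.val_mk0, this, sq, mul_div_cancel_right₀ _ b0]
  refine c.ok h (k := δ hq (Units.mk0 g g0)) ?_ (nZ _) ?_ ?_ (fun x w hw => ?_) a0 a1 a3 fun b hb => ?_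
  · rintro _ ⟨u, rfl⟩ _ ⟨v, rfl⟩
    exact ⟨⁅u, v⁆, H1.U3.mem_center_iff.mpr (by simp [commutatorElement_def]), map_commutatorElement _ _ _⟩
  · rintro _ ⟨z, hz, rfl⟩
    have h0 := H1.U3.mem_center_iff.mp hz
    have h1 : σ (z.b / (1 + σ g * g)) = z.b / (1 + σ g * g) := by rw [map_div₀, map_add, map_one, hN', fixed_of_a h0]
    refine ⟨_, ⟨zz _ h1, H1.U3.mem_center_iff.mpr rfl, rfl⟩, ?_⟩
    rw [δ_conj, ← map_inv, ← map_mul]
    have : 1 + σ g * g ≠ 0 := by grind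
    refine congrArg _ (US.ext (by simp [ac3, h0]) ?_)
    simp only [mul_b, inv_b, zz_b, h1, ac3, zz_a, mul_zero, add_zero, Units.val_mk0]
    field_simp
  · rintro _ ⟨z, hz, rfl⟩ e
    rw [δ_conj] at e
    have h1 : σ g * g * z.b = z.b := congrArg US.b (toSU_injective hq e)
    rw [show z = 1 from US.ext (H1.U3.mem_center_iff.mp hz) (by simp only [one_b]; grind), map_one]
  · obtain ⟨r, rfl⟩ : ∃ r, q = r + 1 := ⟨q - 1, by omega⟩
    have := Fintype.ofFinite E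
    have h1 := FiniteField.pow_card_sub_one_eq_one g g0
    rw [← Nat.card_eq_fintype_card, hE, show (r + 1) ^ 2 - 1 = r * (r + 1) + r from Nat.sub_eq_of_eq_add (by ring), pow_add,
      pow_mul, ← hq] at h1
    have h3 := hg (r * 3) (by omega) (by rcases h4 with h4 | h4 <;> nlinarith)
    rw [pow_mul] at h3
    have m0 := pow_ne_zero r g0
    generalize g ^ r = μ at h1 h3 m0
    refine add_kill t2 (φ := fun a => h.cm (toSU hq (lift σ a)) w) (c.cm_add h hw) (s := σ μ ^ 2 / μ) (t := 1) (fun e => h3 (by grind)) (fun y => ?_) x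
    obtain ⟨v, hv, e⟩ := i0 (Units.mk0 μ m0) y
    have h2 := h.cm_conj (c.cen _ (c.mem y) w hw) (δ hq (Units.mk0 μ m0))
    obtain ⟨z, hz, rfl⟩ := id hw
    rw [δ_conj _ _ z, show ac3 (Units.mk0 μ m0) z = z from
      US.ext (by simp [ac3, H1.U3.mem_center_iff.mp hz]) (by simp [ac3, h1])] at h2
    rw [one_mul, ← h2, ← c.cm_mul h (δ hq _ * _ * _) hv hw, ← e]; rfl
  · obtain ⟨μ, rfl⟩ := ha b hb (by rcases hb with rfl | rfl <;> assumption)
    exact ⟨_, nZ μ, by rw [← map_mul, ← map_mul, mul_comm], i0 μ⟩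

include h in
theorem cm_tor (t2 : (2 : E) = 0) (h2 : 2 ∣ q) : ∀ x ∈ tor.range, ∀ y ∈ tor.range, h.cm x y = 1 := by
  obtain ⟨g, hg⟩ := IsCyclic.exists_generator (α := U1 E q)
  have hc : Commute (tor (g, 1)) (tor (1, g)) := (Commute.all _ _).map _
  have h1 := h.cm_conj hc (sw t2)
  rw [sw_conj, sw_conj, h.cm_swap, inv_eq_iff_mul_eq_one] at h1
  have h3 := h.cm_pow hc (q + 1)
  obtain ⟨k, hk⟩ := h2
  rw [← map_pow, show ((1, g) : U1 E q × U1 E q) ^ (q + 1) = 1 from Prod.ext (one_pow _) (Subtype.ext g.2), map_one, h.cm_one,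
    show q + 1 = 2 * k + 1 by omega, pow_succ, pow_mul, sq, h1, one_pow, one_mul] at h3
  obtain ⟨a, ha⟩ := h.surj (tor (g, 1))
  obtain ⟨b, hb⟩ := h.surj (tor (1, g))
  have h4 : Commute a b := h.comm_of_cm (by rw [ha, hb, ← h3])
  have h5 : ∀ x ∈ tor.range, ∃ i j : ℤ, x = ρ (a ^ i * b ^ j) := by
    rintro _ ⟨⟨x, y⟩, rfl⟩
    obtain ⟨i, rfl⟩ := hg x
    obtain ⟨j, rfl⟩ := hg y
    exact ⟨i, j, by rw [map_mul, map_zpow, map_zpow, ha, hb, ← map_zpow, ← map_zpow, ← map_mul]; simp⟩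
  intro x hx y hy
  obtain ⟨i, j, rfl⟩ := h5 x hx
  obtain ⟨i', j', rfl⟩ := h5 y hy
  rw [h.cm_eq]
  exact (((Commute.zpow_zpow_self a i i').mul_right (h4.zpow_zpow i j')).mul_left
    ((h4.symm.zpow_zpow j i').mul_right (Commute.zpow_zpow_self b j j'))).commutator_eq

include h in
theorem su_inj [Finite Y] (hp : commutator Y = ⊤) {n : ℕ} (hn : 2 ≤ n) (hqn : q = 2 ^ n) [Fintype E]
    (hE : Fintype.card E = 4 ^ n) : Function.Injective ρ := by
  obtain ⟨σ, hσ, hq⟩ := exists_ctx (by omega) hE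
  have hU := card_US (σ := σ) hE
  rw [← hqn] at hq hU
  have hE' : Nat.card E = q ^ 2 := by rw [Nat.card_eq_fintype_card, hE, hqn, ← pow_mul, mul_comm, pow_mul]; rfl
  have h4 : q = 4 ∨ 8 ≤ q := by
    rcases hn.eq_or_lt with rfl | h3
    exacts [Or.inl hqn, Or.inr (hqn ▸ Nat.pow_le_pow_right (n := 2) (i := 3) (by norm_num) h3)]
  have h2 : 2 ∣ q := hqn ▸ dvd_pow_self 2 (by omega)
  obtain ⟨r, hr⟩ : ∃ r, q = r + 1 := ⟨q - 1, by omega⟩
  have hm : Nat.card Eˣ = r * (q + 1) := by rw [Nat.card_units, hE', hr]; exact Nat.sub_eq_of_eq_add (by ring)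
  have hG := card_SU hq
  rw [hU, hm] at hG
  have idx : ∀ {A : Type _} [Group A] (f : A →* SU 3 E q), Function.Injective f →
      Nat.card A * f.range.index = Nat.card (SU 3 E q) := fun f hf => by
    rw [Nat.card_congr (MonoidHom.ofInjective hf).toEquiv, card_mul_index]
  have q0 : 0 < q := by omega
  refine h.inj_of hp fun p pp => ?_
  have := Fact.mk pp
  by_cases p2 : p = 2
  · subst p2
    refine ⟨_, fun hd => ?_, ok_U hq h hE' h4⟩
    have h1 := idx _ (toSU_injective hq)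
    rw [hG, hU, Nat.mul_right_inj (by positivity)] at h1
    rw [h1, Nat.prime_two.dvd_mul, Nat.prime_two.dvd_mul, Nat.dvd_add_right (dvd_pow h2 three_ne_zero)] at hd
    omega
  have pq : ¬ p ∣ q := fun hd => p2 ((Nat.prime_dvd_prime_iff_eq pp Nat.prime_two).mp (pp.dvd_of_dvd_pow (hqn ▸ hd)))
  by_cases h1 : p ∣ q + 1
  · have hn : cy E q ∈ normalizer ((tor.range : Subgroup (SU 3 E q)) : Set (SU 3 E q)) := H5.mem_normalizer_of_conj_mem (by
      rintro _ ⟨⟨x, y⟩, rfl⟩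
      exact ⟨_, (cy_conj x y).symm⟩)
    refine ⟨_, fun hd => ?_, h.ok_sup hp (cm_tor h (two σ) h2) hn (by rintro _ ⟨x, rfl⟩; exact tor_cen)⟩
    have o3 : Nat.card (zpowers (cy E q)) = 3 := by
      rw [Nat.card_zpowers, orderOf_eq_prime cy_cube fun e => cy_not_mem (e ▸ one_mem _)]
    have h3 := H8.card_sup_mul_card_inf (zpowers_le.mpr hn)
    have h5 : tor.range ⊓ zpowers (cy E q) = ⊥ := by
      have := Fact.mk (by rw [o3]; exact Nat.prime_three : (Nat.card (zpowers (cy E q))).Prime)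
      rcases eq_bot_or_eq_top_of_prime_card (tor.range.subgroupOf (zpowers (cy E q))) with e | e
      exacts [disjoint_iff.mp (subgroupOf_eq_bot.mp e), (cy_not_mem (subgroupOf_eq_top.mp e (mem_zpowers _))).elim]
    have h6 := (tor.range ⊔ zpowers (cy E q)).card_mul_index
    rw [h5, card_bot, mul_one, o3, ← Nat.card_congr (MonoidHom.ofInjective tor_inj).toEquiv, Nat.card_prod,
      IsCyclic.card_powMonoidHom_ker, hm, Nat.gcd_mul_left_left] at h3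
    rw [h3, hG, show q ^ 3 * (r * (q + 1) * (q ^ 3 + 1)) = (q + 1) * (q + 1) * (q ^ 3 * r * (r ^ 2 + r + 1)) by
      rw [hr]; ring, mul_assoc, Nat.mul_right_inj (by positivity)] at h6
    have pr : ¬ p ∣ q ^ 3 * r := fun e => (pp.dvd_mul.mp e).elim (fun e => pq (pp.dvd_of_dvd_pow e)) fun e =>
      p2 ((Nat.prime_dvd_prime_iff_eq pp Nat.prime_two).mp ((Nat.dvd_add_right e).mp (by rwa [hr] at h1)))
    have h7 := (pp.dvd_mul.mp (h6 ▸ hd.mul_left 3)).resolve_left pr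
    obtain rfl : p = 3 := (Nat.prime_dvd_prime_iff_eq pp Nat.prime_three).mp ((pp.dvd_mul.mp ((Nat.dvd_add_right h7).mp (by
      rw [show r ^ 2 + r + 1 + 3 * q = (q + 1) * (q + 1) by rw [hr]; ring]; exact h1.mul_right _))).resolve_right pq)
    have h8 : 3 ^ 2 ∣ r ^ 2 + r + 1 := (Nat.Coprime.pow_left 2 (pp.coprime_iff_not_dvd.mpr pr)).dvd_of_dvd_mul_left
      (h6 ▸ Nat.mul_dvd_mul_left 3 hd)
    obtain ⟨k, rfl⟩ : ∃ k, r = 3 * k + 1 := ⟨r / 3, by omega⟩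
    rw [show (3 * k + 1) ^ 2 + (3 * k + 1) + 1 = 3 ^ 2 * (k ^ 2 + k) + 3 by ring, Nat.dvd_add_right (dvd_mul_right _ _)] at h8
    omega
  by_cases hd : p ∣ q ^ 3 + 1
  · obtain ⟨R⟩ : Nonempty (Sylow p (SU 3 E q)) := inferInstance
    refine ⟨R, R.not_dvd_index, h.ok_of_cyclic (lin_cyc ((slToMat 3 E).comp ((SU 3 E q).subtype.comp (R : Subgroup (SU 3 E q)).subtype))
      (fun a b e => Subtype.ext (Subtype.ext (Subtype.ext e))) R.isPGroup' p2 fun d d0 d4 e => ?_)⟩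
    rw [Fintype.card_fin] at d4 e
    rw [hE', ← ZMod.natCast_eq_natCast_iff] at e
    rw [← ZMod.natCast_eq_zero_iff] at hd pq h1
    push_cast at hd e h1
    interval_cases d <;> grind
  · refine ⟨(δ hq).range, fun h3 => ?_, h.ok_of_cyclic (isCyclic_of_surjective _ (δ hq).rangeRestrict_surjective)⟩
    have h5 := idx _ (δ_inj hq)
    rw [hG, hm, mul_left_comm, Nat.mul_right_inj (by positivity [show 0 < r by omega])] at h5
    rw [h5, pp.dvd_mul] at h3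
    exact h3.elim (fun e => pq (pp.dvd_of_dvd_pow e)) hd

theorem der_perfect {G G' : Type*} [Group G] [Group G'] (f : G →* G') {D : Subgroup G} (h1 : D.map f ≤ ⁅D, D⁆.map f)
    (h2 : ∀ z ∈ D, f z = 1 → ∀ y ∈ D, Commute z y) : commutator ↥⁅D, D⁆ = ⊤ := by
  have hle : ⁅D, D⁆ ≤ D := commutator_le_self D
  have h3 : ∀ x ∈ D, ∃ y ∈ ⁅D, D⁆, ∃ z, (∀ w ∈ D, Commute z w) ∧ x = y * z := fun x hx => by
    obtain ⟨y, hy, e⟩ := h1 (mem_map_of_mem f hx)
    exact ⟨y, hy, y⁻¹ * x, h2 _ (mul_mem (inv_mem (hle hy)) hx) (by simp [e]), by simp⟩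
  refine map_injective (subtype_injective _) (le_antisymm (map_mono le_top) ?_)
  rw [map_subtype_commutator, ← MonoidHom.range_eq_map, range_subtype]
  refine commutator_le.mpr fun a ha b hb => ?_
  obtain ⟨a, ha', z, hz, rfl⟩ := h3 a ha
  obtain ⟨b, hb', w, hw, rfl⟩ := h3 b hb
  have e1 := (hz _ hb).commutator_eq
  have e2 := (hw _ (hle ha')).symm.commutator_eq
  rw [cmul (e1 ▸ Commute.one_left _) (e1 ▸ Commute.one_left _), cmul' (e2 ▸ Commute.one_left _), e1, e2, mul_one, mul_one]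
  exact commutator_mem_commutator ha' hb'

/-- a perfect group without proper perfect central extension covers the perfect central extensions of its central
quotients -/
theorem exists_cover {S K : Type*} {L : Type*} [Group S] [Group K] [Group L] [Finite S] [Finite L] {π : S →* K}
    {ρ : L →* K} (hπ : CX π) (h : CX ρ) (hS : commutator S = ⊤) (hL : commutator L = ⊤)
    (inj : ∀ (Y : Subgroup (L × S)) (f : Y →* S), CX f → commutator Y = ⊤ → Function.Injective f) :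
    ∃ f : S →* L, Function.Surjective f ∧ ∀ s, ρ (f s) = π s := by
  let P := (ρ.comp (MonoidHom.fst L S)).eqLocus (π.comp (MonoidHom.snd L S))
  have e1 : P.map (MonoidHom.fst L S) = ⊤ := eq_top_iff.mpr fun l _ =>
    (hπ.surj (ρ l)).elim fun s e => ⟨(l, s), e.symm, rfl⟩
  have e2 : P.map (MonoidHom.snd L S) = ⊤ := eq_top_iff.mpr fun s _ =>
    (h.surj (π s)).elim fun l e => ⟨(l, s), e, rfl⟩
  have e3 : ⁅P, P⁆.map (MonoidHom.fst L S) = ⊤ := by rw [map_commutator, e1]; exact hL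
  have e4 : ⁅P, P⁆.map (MonoidHom.snd L S) = ⊤ := by rw [map_commutator, e2]; exact hS
  have hle : ⁅P, P⁆ ≤ P := commutator_le_self P
  have hc : ∀ z ∈ P, z.2 = 1 → ∀ y, Commute z y := fun z hz e y =>
    Prod.ext (h.cen z.1 (hz.trans (by simp [e])) y.1) (by simp [e])
  have h2 := der_perfect (MonoidHom.snd L S) (e4 ▸ le_top) fun z hz e y _ => hc z hz e y
  let f := (MonoidHom.snd L S).comp ⁅P, P⁆.subtype
  have cx : CX f := ⟨fun s => (e4.ge (mem_top s)).elim fun y hy => ⟨⟨y, hy.1⟩, hy.2⟩,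
    fun z hz y => Subtype.ext (hc z (hle z.2) hz y)⟩
  let e := MulEquiv.ofBijective f ⟨inj _ f cx h2, cx.surj⟩
  refine ⟨(MonoidHom.fst L S).comp (⁅P, P⁆.subtype.comp e.symm.toMonoidHom), fun l => ?_, fun s => ?_⟩
  · obtain ⟨y, hy, rfl⟩ := e3.ge (mem_top l)
    exact ⟨e ⟨y, hy⟩, by simp⟩
  · obtain ⟨y, rfl⟩ := e.surjective s
    exact (congrArg (fun t : ↥⁅P, P⁆ => ρ t.1.1) (e.symm_apply_apply y)).trans (hle y.2)

theorem cover_psu {L : Type*} [Group L] [Finite L] {ρ : L →* PSU 3 E q} (h : CX ρ) (hL : commutator L = ⊤)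
    {n : ℕ} (hn : 2 ≤ n) (hqn : q = 2 ^ n) [Fintype E] (hE : Fintype.card E = 4 ^ n) :
    (Nonempty (L ≃* PSU 3 E q) ∨ Nonempty (L ≃* SU 3 E q)) ∧ ∀ z, ρ z = 1 → z ^ 3 = 1 := by
  obtain ⟨σ, hσ, hq⟩ := exists_ctx (by omega) hE
  rw [← hqn] at hq
  obtain ⟨f, h1, h2⟩ := exists_cover (π := QuotientGroup.mk' (center (SU 3 E q))) ⟨QuotientGroup.mk'_surjective _,
    fun z hz y => (Subgroup.mem_center_iff.mp ((QuotientGroup.eq_one_iff z).mp hz) y).symm⟩ h (perfect_SU hq (by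
      rw [commutator_def, ← MonoidHom.range_eq_top.mpr h.surj, ← map_commutator_eq, hL, MonoidHom.range_eq_map])) hL
    fun Y f c hp => su_inj c hp hn hqn hE
  have h3 : ∀ s, ρ (f s) = 1 → s ∈ center (SU 3 E q) := fun s e => (QuotientGroup.eq_one_iff s).mp ((h2 s).symm.trans e)
  refine ⟨?_, fun z hz => by obtain ⟨s, rfl⟩ := h1 z; rw [← map_pow, cube_of_cen hq (h3 s hz), map_one]⟩
  rcases eq_center hq (N := f.ker) (fun s e => h3 s (by rw [show f s = 1 from e, map_one])) with e | e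
  · exact Or.inr ⟨(MulEquiv.ofBijective f ⟨(f.ker_eq_bot_iff).mp e, h1⟩).symm⟩
  · exact Or.inl ⟨(QuotientGroup.quotientKerEquivOfSurjective f h1).symm.trans (QuotientGroup.quotientMulEquivOfEq e)⟩

/-! ### the three families -/

universe u

variable {K : Type u} [Group K] [Finite K] (X : BS.Suz K)

theorem comm_mem_Z {x y : K} (hx : x ∈ X.Q) (hy : y ∈ X.Q) : ⁅x, y⁆ ∈ X.Z := by
  have h1 := X.struct.sq
  have h2 := X.conj_mem_Z (X.Q_le (inv_mem hx)) (mul_mem (mul_mem (h1 x hx) (h1 _ (mul_mem (inv_mem hx) hy))) (h1 _ (inv_mem hy)))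
  convert X.conj_mem_Z (X.Q_le hx) h2 using 1
  simp only [commutatorElement_def]; group

/-- the elements of `Q` whose commutators with `B` lie in `⟨c⟩` -/
def cq (B : Set K) (hB : B ⊆ X.Q) (c : K) : Subgroup K where
  carrier := {x | x ∈ X.Q ∧ ∀ y ∈ B, ⁅x, y⁆ ∈ zpowers c}
  one_mem' := ⟨one_mem _, fun y _ => by simp⟩
  mul_mem' {a b} ha hb := ⟨mul_mem ha.1 hb.1, fun y hy => by
    have := fun x hx => X.Z_comm (x := x) (comm_mem_Z X hb.1 (hB hy)) hx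
    rw [cmul (this a ha.1) (this y (hB hy))]
    exact mul_mem (ha.2 y hy) (hb.2 y hy)⟩
  inv_mem' {a} ha := ⟨inv_mem ha.1, fun y hy => by
    have := fun x hx => X.Z_comm (x := x) (comm_mem_Z X (inv_mem ha.1) (hB hy)) hx
    have e := cmul (this a ha.1) (this y (hB hy))
    rw [mul_inv_cancel, commutatorElement_one_left] at e
    exact (mul_mem_cancel_left (ha.2 y hy)).mp (e ▸ one_mem _)⟩

theorem gen3 (hQ : X.Q ≠ X.Z) {a b : K} (ha : a ∈ X.Q) (hb : b ∈ X.Q) :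
    ∃ T : Subgroup K, a ∈ T ∧ b ∈ T ∧ (∀ z ∈ X.Q, (∀ x ∈ X.Q, Commute z x) → z ∈ T) ∧ ¬ X.Q ≤ T := by
  by_contra! hn
  have hz : ∀ (B : Set K) (hB : B ⊆ X.Q), ∀ z ∈ X.Q, (∀ x ∈ X.Q, Commute z x) → z ∈ cq X B hB ⁅a, b⁆ :=
    fun B hB z hz e => ⟨hz, fun y hy => by rw [(e y (hB hy)).commutator_eq]; exact one_mem _⟩
  have h1 := hn (cq X {a, b} (by rintro _ (rfl | rfl) <;> assumption) ⁅a, b⁆)
    ⟨ha, by rintro _ (rfl | rfl) <;> simp⟩ ⟨hb, by
      rintro _ (rfl | rfl)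
      · exact inv_mem_iff.mp (by rw [commutatorElement_inv]; exact mem_zpowers _)
      · simp⟩ (hz _ _)
  have h2 := hn (cq X X.Q subset_rfl ⁅a, b⁆)
    ⟨ha, fun y hy => inv_mem_iff.mp (by rw [commutatorElement_inv]; exact (h1 hy).2 a (Or.inl rfl))⟩
    ⟨hb, fun y hy => inv_mem_iff.mp (by rw [commutatorElement_inv]; exact (h1 hy).2 b (Or.inr rfl))⟩ (hz _ _)
  have h3 := (X.mem_Z.mp (comm_mem_Z X ha hb))
  have h4 : ⁅a, b⁆ = 1 := by
    have := X.card_K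
    have := X.four_le_q
    obtain ⟨⟨k, hk⟩, k1⟩ := ne_bot_iff_exists_ne_one.mp ((one_lt_card_iff_ne_bot X.K).mp (by omega))
    have hH := X.D_le (X.K_le hk)
    have h5 := (h2 (X.conj_mem_Q hH ha)).2 _ (X.conj_mem_Q hH hb)
    rw [← conjugate_commutatorElement] at h5
    rcases (H9.mem_zpowers_of_mul_self h3.2).mp h5 with e | e
    · exact conj_eq_one_iff.mp e
    · exact (X.K_fpf hk h3.1 (mul_inv_eq_iff_eq_mul.mp e)).resolve_left fun e => k1 (Subtype.ext e)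
  refine hQ (X.struct.ab fun x hx y hy => commutatorElement_eq_one_iff_mul_comm.mp ?_)
  simpa [h4] using (h2 hx).2 y hy

theorem suz_cases [IsSimpleGroup K] (hQ : X.Q ≠ X.Z) :
    (Nat.card X.Q = X.q ^ 2 ∧ ∃ (m : ℕ) (F : Type) (_ : Field F) (_ : Fintype F), 1 ≤ m ∧ Fintype.card F = 2 ^ (2 * m + 1) ∧
      X.q = 2 ^ (2 * m + 1) ∧ Nonempty (K ≃* Lie.Sz F (2 ^ (m + 1)))) ∨
    ∃ (n : ℕ) (F : Type) (_ : Field F) (_ : Fintype F), 2 ≤ n ∧ Fintype.card F = 4 ^ n ∧ Nonempty (K ≃* PSU 3 F (2 ^ n)) := by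
  have h := X.rk1 X.core_eq_bot
  have hS := X.struct
  have e : gen X.Q X.t ≃* K := (MulEquiv.subgroupCongr (((gen_normal h).eq_bot_or_eq_top).resolve_left
    fun e => X.tH ((mem_bot.1 (e ▸ Rk1.t_mem (Q := X.Q)) : X.t = 1) ▸ one_mem _))).trans topEquiv
  rcases hS.cases with ⟨hr, h0 | ⟨hc, w, hw, x, hx, hne⟩⟩ | ⟨hr, hc, -⟩
  · exact absurd h0 hQ
  · obtain ⟨-, F, _, _, n, h1, h2, -, ⟨f⟩⟩ := rec_U3 h hc hS.sq X.s_mem_Z
      (by rw [X.tst, hr, inv_eq_of_mul_eq_one_right X.ss]) (X.mem_W.1 hw).1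
      (fun e => hne (by simp [e])) (X.mem_W.1 hw).2
    exact Or.inr ⟨n, F, _, _, h1, by rw [h2, ← pow_mul, mul_comm, pow_mul]; rfl, ⟨e.symm.trans f⟩⟩
  · obtain ⟨-, -, F, _, _, m, h1, h2, h3, ⟨f⟩⟩ := rec_Sz h hS.two hc fun a =>
      hQ (hS.ab fun x hx y hy => congrArg Subtype.val (a.is_comm.comm (⟨x, hx⟩ : X.Q) ⟨y, hy⟩))
    exact Or.inl ⟨hc, m, F, _, _, h1, h2, h3, ⟨e.symm.trans f⟩⟩

/-- the double cover of `L₂(4)` -/
theorem l2_four [Finite Y] {ρ : Y →* K} (h : CX ρ) (hp : commutator Y = ⊤) (hk : ∀ z, ρ z = 1 → ∃ k, z ^ 2 ^ k = 1)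
    (hQ : X.Q = X.Z) {x y : K} (hx : x ∈ X.Z) (hy : y ∈ X.Z) (hn : h.cm x y ≠ 1) :
    ∃ c, c * c = 1 ∧ c ≠ 1 ∧ ρ c = 1 ∧ (∀ z, ρ z = 1 → z = 1 ∨ z = c) ∧ ∀ a, a * a = 1 → a = 1 ∨ a = c := by
  have h4 : X.q = 4 := by_contra fun e => hn (l2_ab X h e hx hy)
  have hc : ∀ u ∈ X.Z, ∀ v ∈ X.Z, Commute u v := fun u hu v hv => X.Z_comm hu (X.Z_le hv)
  have sq : ∀ u ∈ X.Z, u * u = 1 := fun u hu => (X.mem_Z.mp hu).2
  have c0 : ∀ u, h.cm u u = 1 := fun u => commutatorElement_self _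
  have x1 : x ≠ 1 := fun e => hn (by rw [e, h.cm_swap, h.cm_one, inv_one])
  have ox := H4.orderOf_eq_two_of (sq x hx) x1
  have hr : GW.Refl x y := ⟨H4.orderOf_eq_two_of (sq y hy) fun e => hn (by rw [e, h.cm_one]), hc y hy x hx, fun e => hn (e ▸ c0 _)⟩
  have h5 : ∀ u ∈ X.Z, u = 1 ∨ u = x ∨ u = y ∨ u = x * y := fun u hu => (GW.mem_four ox hr).mp
    ((eq_of_le_of_card_ge (GW.four_le.mpr ⟨hx, hy⟩) (h4.trans (GW.card_four ox hr).symm).le).ge hu)
  have c2 : h.cm x y * h.cm x y = 1 := by rw [← h.cm_mul_right (hc x hx y hy), sq y hy, h.cm_one]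
  have h6 : ∀ u ∈ X.Z, h.cm x u ∈ zpowers (h.cm x y) ∧ h.cm y u ∈ zpowers (h.cm x y) := fun u hu => by
    rcases h5 u hu with e | e | e | e <;> rw [e] <;>
      simp [h.cm_one, c0, h.cm_swap x y, h.cm_mul_right (hc x hx y hy), h.cm_mul_right (Commute.refl y)]
  have h7 : ∀ z, ρ z = 1 → z = 1 ∨ z = h.cm x y := fun z hz => by
    have h7 := (commutator_le (H₃ := zpowers (h.cm x y))).mpr (fun a ha b hb => by
      rw [← h.cm_eq]
      rcases h5 _ ha with e | e | e | e <;> rw [e]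
      · rw [h.cm_swap (ρ b), h.cm_one, inv_one]; exact one_mem _
      · exact (h6 _ hb).1
      · exact (h6 _ hb).2
      · rw [h.cm_mul_left (hc y hy _ hb)]; exact mul_mem (h6 _ hb).1 (h6 _ hb).2) (h.pow_index_mem hp X.Z hz)
    obtain ⟨k, hk⟩ := hk z hz
    obtain ⟨m, hm⟩ := exists_pow_eq_self_of_coprime (x := z) (n := X.Z.index) (Nat.Coprime.coprime_dvd_right
      (orderOf_dvd_of_pow_eq_one hk) (Nat.Coprime.pow_right k (Nat.coprime_two_right.mpr (Nat.odd_iff.mpr (by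
        have := (H8.Clos.suz_sylow X).not_dvd_relIndex
        rw [relIndex_top_right, hQ] at this
        omega)))))
    exact (H9.mem_zpowers_of_mul_self c2).mp (hm ▸ pow_mem h7 m)
  have c1 : ρ (h.cm x y) = 1 := by rw [h.map_cm, (hc x hx y hy).commutator_eq]
  refine ⟨_, c2, hn, c1, h7, fun a ha => h7 a (by_contra fun a1 => hn ?_)⟩
  have h8 : ∀ b, ρ b ∈ X.Z → b * b = 1 := fun b hb => by
    have h8 : ∀ z, ρ z = 1 → z * z = 1 := fun z hz => by rcases h7 z hz with rfl | rfl <;> simp [c2]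
    by_cases b1 : ρ b = 1
    · exact h8 b b1
    obtain ⟨g, e⟩ := X.conj_s (by rw [← map_mul, ha, map_one]) a1
    obtain ⟨g', e'⟩ := X.conj_s (sq _ hb) b1
    obtain ⟨d, e1⟩ := h.surj (g' * g⁻¹)
    have e2 : ρ ((d * a * d⁻¹)⁻¹ * b) = 1 := by simp [e1, ← e, ← e', mul_assoc]
    rw [← mul_inv_cancel_left (d * a * d⁻¹) b, ← pow_two, (h.cen _ e2 _).symm.mul_pow, pow_two, pow_two, h8 _ e2, conj_mul, ha]
    simp
  obtain ⟨a, rfl⟩ := h.surj x
  obtain ⟨b, rfl⟩ := h.surj y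
  rw [h.cm_eq]
  exact commutatorElement_eq_one_iff_mul_comm.mpr (BS.comm_of_sq (A := X.Z.comap ρ) h8 hx hy)

end Cfsg.Agent.H7.Mu
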