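import Mathlib

/-! A checker for coset enumeration certificates (generators are involutions). -/

set_option autoImplicit false

namespace Cfsg.Agent.H7.TC

/-- entry `k` of the table -/
def get (T k : ℕ) : ℕ := (T >>> (12 * k)) % 4096

/-- overwrite entry `k` -/
def set (T k v : ℕ) : ℕ := T ^^^ ((get T k ^^^ v) <<< (12 * k))

theorem get_lt (T k : ℕ) : get T k < 4096 := Nat.mod_lt _ (by norm_num)

theorem testBit_get (T k i : ℕ) : (get T k).testBit i = (decide (i < 12) && T.testBit (12 * k + i)) := by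
  unfold get
  rw [show (4096 : ℕ) = 2 ^ 12 from rfl, Nat.testBit_mod_two_pow, Nat.testBit_shiftRight]

theorem get_set {T k v : ℕ} (hv : v < 4096) (k' : ℕ) :
    get (set T k v) k' = if k' = k then v else get T k' := by
  have hb : ∀ i, 12 ≤ i → (get T k ^^^ v).testBit i = false := fun i hi =>
    Nat.testBit_lt_two_pow (lt_of_lt_of_le (Nat.xor_lt_two_pow (n := 12) (get_lt T k) hv)
      (Nat.pow_le_pow_right (by norm_num) hi))
  refine Nat.eq_of_testBit_eq fun i => ?_
  rw [testBit_get, set, Nat.testBit_xor, Nat.testBit_shiftLeft]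
  by_cases hi : i < 12
  · split_ifs with h
    · subst h
      simp [hi, Nat.testBit_xor, testBit_get]
    · rw [testBit_get]
      rcases lt_or_gt_of_ne h with h | h
      · have : ¬ (12 * k' + i ≥ 12 * k) := by omega
        simp [this]
      · rw [hb _ (by omega)]; simp
  · split_ifs with h
    · rw [Nat.testBit_lt_two_pow (lt_of_lt_of_le hv (Nat.pow_le_pow_right (n := 2) (by norm_num)
        (show 12 ≤ i by omega)))]
      simp [hi]
    · simp [testBit_get, hi]

/-- guarded write -/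
def wr (T n p g q : ℕ) : ℕ :=
  bif Nat.ble 1 p && Nat.ble 1 q && Nat.blt p n && Nat.blt q n then set T (8 * p + g) q else T

/-- evaluate, then continue -/
def force {α : Type} (n : ℕ) (k : ℕ → α) : α :=
  Nat.casesOn (motive := fun _ => α) (n + 1) (k 0) fun m => k m

theorem force_eq {α : Type} (n : ℕ) (k : ℕ → α) : force n k = k n := rfl

/-- forward trace -/
def tr (T : ℕ) : List ℕ → ℕ → ℕ
  | [], i => i
  | g :: w, i => tr T w (get T (8 * i + g))

/-- backward trace -/
def bk (T : ℕ) : List ℕ → ℕ → ℕ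
  | [], i => i
  | g :: w, i => get T (8 * bk T w i + g)

/-- follow the coincidences -/
def fd (T : ℕ) : ℕ → ℕ → ℕ
  | 0, i => i
  | f + 1, i => force (get T (8 * i + 7)) fun j => bif Nat.beq j 0 then i else fd T f j

/-- write an edge in both directions -/
def wr2 (T n p g q : ℕ) : ℕ := force p fun p => force q fun q => wr (wr T n p g q) n q g p

/-- record a coincidence -/
def mg (T n p q : ℕ) : ℕ :=
  force p fun p => force q fun q => bif Nat.ble p q then wr T n q 7 p else wr T n p 7 q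

/-- the new table -/
def stepT (R : List (List ℕ)) (T n ty a b c : ℕ) : ℕ :=
  bif Nat.beq ty 0 then wr2 T (n + 1) a (b % 8) n
  else bif Nat.beq ty 1 then
    wr2 T n (tr T ((R.getD b []).take c) a) ((R.getD b []).getD c 7)
      (bk T ((R.getD b []).drop (c + 1)) a)
  else bif Nat.beq ty 2 then mg T n (tr T ((R.getD b []).take c) a) (bk T ((R.getD b []).drop c) a)
  else bif Nat.beq ty 3 then wr2 T n (fd T 99 a) (b % 8) (fd T 99 (get T (8 * a + b % 8)))
  else bif Nat.beq ty 4 then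
    mg T n (fd T 99 (get T (8 * a + b % 8))) (fd T 99 (get T (8 * fd T 99 a + b % 8)))
  else mg T n (fd T 99 a) (fd T 99 (get T (8 * fd T 99 (get T (8 * a + b % 8)) + b % 8)))

/-- replay a certificate -/
def run (R : List (List ℕ)) (fin : ℕ → Bool) : List ℕ → ℕ → ℕ → Bool
  | [], T, _ => fin T
  | s :: l, T, n =>
    Nat.blt n 4096 && Nat.blt (s / 8 % 4096) n &&
      force (stepT R T n (s % 8) (s / 8 % 4096) (s / 32768 % 32) (s / 1048576)) fun T' =>
        force (bif Nat.beq (s % 8) 0 then n + 1 else n) fun n' => run R fin l T' n'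

/-- initial table -/
def init : List ℕ → ℕ
  | [] => 0
  | g :: l => wr (init l) 2 1 (g % 8) 1

variable {X Ω : Type*} [Group X] [MulAction X Ω]

/-- action of a word -/
def act (x : ℕ → X) : List ℕ → Ω → Ω
  | [], ω => ω
  | g :: w, ω => act x w (x g • ω)

theorem act_append (x : ℕ → X) (u v : List ℕ) (ω : Ω) : act x (u ++ v) ω = act x v (act x u ω) := by
  induction u generalizing ω with
  | nil => rfl
  | cons g u ih => exact ih _

theorem act_inj (x : ℕ → X) (u : List ℕ) {ω ω' : Ω} (h : act x u ω = act x u ω') : ω = ω' := by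
  induction u generalizing ω ω' with
  | nil => exact h
  | cons g u ih => exact MulAction.injective (x g) (ih h)

theorem act_eq (x : ℕ → X) (u : List ℕ) (ω : Ω) : act x u ω = (u.map x).reverse.prod • ω := by
  induction u generalizing ω with
  | nil => simp [act]
  | cons g u ih => simp [act, ih, mul_smul]

/-- the table is correct -/
structure Good (x : ℕ → X) (pt : ℕ → Ω) (T n : ℕ) : Prop where
  le : n ≤ 4096
  ok : ∀ i g, g < 8 → get T (8 * i + g) ≠ 0 →
    i ≠ 0 ∧ i < n ∧ get T (8 * i + g) < n ∧ x g • pt i = pt (get T (8 * i + g))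

section
variable {x : ℕ → X} {pt : ℕ → Ω} {T n : ℕ}

theorem Good.wr (h : Good x pt T n) {p g q : ℕ} (hg : g < 8)
    (e : p ≠ 0 → q ≠ 0 → x g • pt p = pt q) : Good x pt (wr T n p g q) n := by
  unfold TC.wr
  cases hc : (Nat.ble 1 p && Nat.ble 1 q && Nat.blt p n && Nat.blt q n)
  · exact h
  simp only [Bool.and_eq_true, Nat.ble_eq, Nat.blt_eq] at hc
  obtain ⟨⟨⟨h1, h2⟩, h3⟩, h4⟩ := hc
  refine ⟨h.le, fun i g' hg' => ?_⟩
  rw [cond_true, get_set (h4.trans_le h.le)]
  split_ifs with hk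
  · obtain ⟨rfl, rfl⟩ : i = p ∧ g' = g := by omega
    exact fun _ => ⟨by omega, h3, h4, e (by omega) (by omega)⟩
  · exact h.ok i g' hg'

theorem Good.wr2 (hx : ∀ g, x g * x g = 1) (h : Good x pt T n) {p g q : ℕ} (hg : g < 8)
    (e : p ≠ 0 → q ≠ 0 → x g • pt p = pt q) : Good x pt (wr2 T n p g q) n :=
  (h.wr hg e).wr hg fun h1 h2 => by rw [← e h2 h1, ← mul_smul, hx, one_smul]

theorem Good.mg (h7 : x 7 = 1) (h : Good x pt T n) {p q : ℕ}
    (e : p ≠ 0 → q ≠ 0 → pt p = pt q) : Good x pt (mg T n p q) n := by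
  unfold TC.mg
  simp only [force_eq]
  cases Nat.ble p q
  · exact h.wr (by norm_num) fun h1 h2 => by rw [h7, one_smul, e h1 h2]
  · exact h.wr (by norm_num) fun h1 h2 => by rw [h7, one_smul, e h2 h1]

theorem Good.grow (h : Good x pt T n) (hn : n < 4096) (y : Ω) :
    Good x (Function.update pt n y) T (n + 1) := by
  refine ⟨hn, fun i g hg h0 => ?_⟩
  obtain ⟨h1, h2, h3, h4⟩ := h.ok i g hg h0
  refine ⟨h1, by omega, by omega, ?_⟩
  rw [Function.update_of_ne h2.ne, Function.update_of_ne h3.ne, h4]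

theorem Good.get (h : Good x pt T n) {i g : ℕ} (hg : g < 8) (h0 : get T (8 * i + g) ≠ 0) :
    i ≠ 0 ∧ pt (get T (8 * i + g)) = x g • pt i :=
  ⟨(h.ok i g hg h0).1, (h.ok i g hg h0).2.2.2.symm⟩

theorem Good.tr (h : Good x pt T n) {w : List ℕ} (hw : ∀ g ∈ w, g < 8) {i : ℕ}
    (h0 : tr T w i ≠ 0) : i ≠ 0 ∧ pt (tr T w i) = act x w (pt i) := by
  induction w generalizing i with
  | nil => exact ⟨h0, rfl⟩
  | cons g w ih =>
    obtain ⟨h1, h2⟩ := ih (fun g hg => hw g (List.mem_cons_of_mem _ hg)) h0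
    obtain ⟨h3, h4⟩ := h.get (hw g List.mem_cons_self) h1
    exact ⟨h3, by rw [TC.tr, h2, h4, act]⟩

theorem Good.bk (hx : ∀ g, x g * x g = 1) (h : Good x pt T n) {w : List ℕ} (hw : ∀ g ∈ w, g < 8)
    {i : ℕ} (h0 : bk T w i ≠ 0) : act x w (pt (bk T w i)) = pt i := by
  induction w with
  | nil => rfl
  | cons g w ih =>
    obtain ⟨h3, h4⟩ := h.get (hw g List.mem_cons_self) h0
    rw [TC.bk, act, h4, ← mul_smul, hx, one_smul]
    exact ih (fun g hg => hw g (List.mem_cons_of_mem _ hg)) h3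

theorem Good.fd (h7 : x 7 = 1) (h : Good x pt T n) (f : ℕ) {i : ℕ} (h0 : fd T f i ≠ 0) :
    i ≠ 0 ∧ pt (fd T f i) = pt i := by
  induction f generalizing i with
  | zero => exact ⟨h0, rfl⟩
  | succ f ih =>
    rw [TC.fd, force_eq] at h0 ⊢
    cases hb : Nat.beq (TC.get T (8 * i + 7)) 0
    · rw [hb, cond_false] at h0
      obtain ⟨h1, h2⟩ := ih h0
      obtain ⟨h3, h4⟩ := h.get (by norm_num) h1
      exact ⟨h3, by rw [cond_false, h2, h4, h7, one_smul]⟩
    · rw [hb, cond_true] at h0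
      exact ⟨h0, rfl⟩

theorem Good.step (hx : ∀ g, x g * x g = 1) (h7 : x 7 = 1) {R : List (List ℕ)}
    (hR : ∀ r ∈ R, (∀ g ∈ r, g < 8) ∧ ∀ ω : Ω, act x r ω = ω) (h : Good x pt T n) {ty : ℕ}
    (hty : ty ≠ 0) (a b c : ℕ) : Good x pt (stepT R T n ty a b c) n := by
  have hb : b % 8 < 8 := Nat.mod_lt _ (by norm_num)
  obtain ⟨r1, r2⟩ : (∀ g ∈ R.getD b [], g < 8) ∧ ∀ ω : Ω, act x (R.getD b []) ω = ω := by
    rw [List.getD_eq_getElem?_getD]
    cases hr : R[b]? with
    | none => exact ⟨by simp, fun _ => rfl⟩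
    | some r => exact hR r (List.mem_of_getElem? hr)
  unfold stepT
  rw [show Nat.beq ty 0 = false from Bool.eq_false_iff.mpr fun e => hty (Nat.eq_of_beq_eq_true e),
    cond_false]
  generalize R.getD b [] = r at r1 r2
  have t1 : ∀ g ∈ r.take c, g < 8 := fun g hg => r1 g (List.mem_of_mem_take hg)
  have t2 : ∀ k, ∀ g ∈ r.drop k, g < 8 := fun k g hg => r1 g (List.mem_of_mem_drop hg)
  cases Nat.beq ty 1
  swap
  · by_cases hc : c < r.length
    · have hg : r.getD c 7 = r[c] := List.getD_eq_getElem _ _ hc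
      refine h.wr2 hx (hg ▸ r1 _ (List.getElem_mem hc)) fun h1 h2 => ?_
      apply act_inj x (r.drop (c + 1))
      rw [h.bk hx (t2 _) h2, (h.tr t1 h1).2, hg]
      have := r2 (pt a)
      rwa [← List.take_append_drop c r, act_append, List.drop_eq_getElem_cons hc, act] at this
    · have hg : r.getD c 7 = 7 := List.getD_eq_default _ _ (by omega)
      refine h.wr2 hx (by rw [hg]; norm_num) fun h1 h2 => ?_
      rw [hg, h7, one_smul, (h.tr t1 h1).2, List.take_of_length_le (by omega), r2,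
        List.drop_eq_nil_of_le (by omega), TC.bk]
  cases Nat.beq ty 2
  swap
  · refine h.mg h7 fun h1 h2 => ?_
    apply act_inj x (r.drop c)
    rw [h.bk hx (t2 _) h2, (h.tr t1 h1).2, ← act_append, List.take_append_drop, r2]
  cases Nat.beq ty 3
  swap
  · refine h.wr2 hx hb fun h1 h2 => ?_
    obtain ⟨h3, h4⟩ := h.fd h7 _ h2
    rw [h4, (h.fd h7 _ h1).2, (h.get hb h3).2]
  cases Nat.beq ty 4
  swap
  · refine h.mg h7 fun h1 h2 => ?_
    obtain ⟨h3, h4⟩ := h.fd h7 _ h2
    obtain ⟨h5, h6⟩ := h.fd h7 _ h1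
    obtain ⟨h8, h9⟩ := h.get hb h3
    rw [h4, h6, h9, (h.get hb h5).2, (h.fd h7 _ h8).2]
  · refine h.mg h7 fun h1 h2 => ?_
    obtain ⟨h3, h4⟩ := h.fd h7 _ h2
    obtain ⟨h8, h9⟩ := h.get hb h3
    obtain ⟨h5, h6⟩ := h.fd h7 _ h8
    rw [h4, h9, h6, (h.get hb h5).2, (h.fd h7 _ h1).2, ← mul_smul, hx, one_smul]

theorem run_sound (hx : ∀ g, x g * x g = 1) (h7 : x 7 = 1) {R : List (List ℕ)}
    (hR : ∀ r ∈ R, (∀ g ∈ r, g < 8) ∧ ∀ ω : Ω, act x r ω = ω) {fin : ℕ → Bool} {l : List ℕ}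
    (h : Good x pt T n) (hn : 1 < n) (e : run R fin l T n = true) :
    ∃ (pt' : ℕ → Ω) (T' n' : ℕ), pt' 1 = pt 1 ∧ Good x pt' T' n' ∧ fin T' = true := by
  induction l generalizing pt T n with
  | nil => exact ⟨pt, T, n, rfl, h, e⟩
  | cons s l ih =>
    rw [run] at e
    simp only [Bool.and_eq_true, Nat.blt_eq, force_eq] at e
    obtain ⟨⟨e1, e2⟩, e3⟩ := e
    by_cases hty : s % 8 = 0
    · rw [hty, show Nat.beq 0 0 = true from rfl, cond_true] at e3
      have hb : s / 32768 % 32 % 8 < 8 := Nat.mod_lt _ (by norm_num)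
      have := (h.grow e1 (x (s / 32768 % 32 % 8) • pt (s / 8 % 4096))).wr2 hx
        (p := s / 8 % 4096) (q := n) hb fun _ _ => by
          rw [Function.update_self, Function.update_of_ne e2.ne]
      obtain ⟨pt', T', n', h1, h2⟩ := ih this (by omega) e3
      exact ⟨pt', T', n', by rw [h1, Function.update_of_ne hn.ne], h2⟩
    · rw [show Nat.beq (s % 8) 0 = false from
        Bool.eq_false_iff.mpr fun e => hty (Nat.eq_of_beq_eq_true e), cond_false] at e3
      exact ih (h.step hx h7 hR hty _ _ _) hn e3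

end

theorem good_init (x : ℕ → X) (ω : Ω) {l : List ℕ} (hl : ∀ g ∈ l, g < 8 ∧ x g • ω = ω) :
    Good x (fun _ => ω) (init l) 2 := by
  induction l with
  | nil => exact ⟨by norm_num, fun i g _ h => absurd (by simp [init, get]) h⟩
  | cons g l ih =>
    obtain ⟨h1, h2⟩ := hl g List.mem_cons_self
    exact (ih fun g hg => hl g (List.mem_cons_of_mem _ hg)).wr (Nat.mod_lt _ (by norm_num))
      fun _ _ => by rw [Nat.mod_eq_of_lt h1, h2]

/-- the final test: the marked points are permuted by the generators -/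
def closed (gens : List ℕ) (M T : ℕ) : Bool :=
  (List.range 4096).all fun i => !M.testBit i || gens.all fun g => M.testBit (get T (8 * i + g))

/-- number of marked points -/
def cnt (M : ℕ) : ℕ := ((List.range 4096).filter M.testBit).length

open Subgroup

theorem hR_of {x : ℕ → X} {R : List (List ℕ)} (h1 : ∀ r ∈ R, ∀ g ∈ r, g < 8)
    (h2 : ∀ r ∈ R, (r.map x).prod = 1) (hx : ∀ g, x g * x g = 1) :
    ∀ r ∈ R, (∀ g ∈ r, g < 8) ∧ ∀ ω : Ω, act x r ω = ω := fun r hr =>
  ⟨h1 r hr, fun ω => by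
    have : (r.map x).reverse.prod = (r.map x).prod⁻¹ := by
      rw [List.prod_inv_reverse, List.map_map]
      congr 2
      exact List.map_congr_left fun g _ => eq_inv_of_mul_eq_one_left (hx g)
    rw [act_eq, this, h2 r hr, inv_one, one_smul]⟩

/-- a generator lies in the subgroup -/
theorem mem_of_run {x : ℕ → X} (hx : ∀ g, x g * x g = 1) (h7 : x 7 = 1) {R : List (List ℕ)}
    (h1 : ∀ r ∈ R, ∀ g ∈ r, g < 8) (h2 : ∀ r ∈ R, (r.map x).prod = 1) (U : Subgroup X)
    {sub : List ℕ} (hs : ∀ g ∈ sub, g < 8 ∧ x g ∈ U) {l : List ℕ} {g : ℕ} (hg : g < 8)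
    (e : run R (fun T => Nat.beq (get T (8 * 1 + g)) 1) l (init sub) 2 = true) : x g ∈ U := by
  have h0 := good_init x ((1 : X) : X ⧸ U) (l := sub) fun g hg => ⟨(hs g hg).1, by
    rw [MulAction.Quotient.smul_coe, smul_eq_mul, mul_one, eq_comm, QuotientGroup.eq]
    simpa using (hs g hg).2⟩
  obtain ⟨pt, T, n, p1, p2, p3⟩ := run_sound hx h7 (hR_of h1 h2 hx) h0 (by norm_num) e
  have p4 := Nat.eq_of_beq_eq_true p3
  have := (p2.get hg (by rw [p4]; norm_num)).2
  rw [p4, p1, MulAction.Quotient.smul_coe, smul_eq_mul, mul_one, QuotientGroup.eq] at this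
  simpa using this

/-- bound for the index -/
theorem card_le_of_run [Finite X] {x : ℕ → X} (hx : ∀ g, x g * x g = 1) (h7 : x 7 = 1)
    {R : List (List ℕ)} (h1 : ∀ r ∈ R, ∀ g ∈ r, g < 8) (h2 : ∀ r ∈ R, (r.map x).prod = 1)
    {sub gens : List ℕ} (hs : ∀ g ∈ sub, g < 8) (hg : ∀ g ∈ gens, g < 8) {l : List ℕ}
    {M : ℕ} (m0 : M.testBit 0 = false) (m1 : M.testBit 1 = true)
    (e : run R (closed gens M) l (init sub) 2 = true) :
    Nat.card (closure (x '' {g | g ∈ gens})) ≤ cnt M * Nat.card (closure (x '' {g | g ∈ sub})) := by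
  classical
  set U := closure (x '' {g | g ∈ sub})
  set K := closure (x '' {g | g ∈ gens})
  have h0 := good_init x ((1 : X) : X ⧸ U) (l := sub) fun g hg => ⟨hs g hg, by
    rw [MulAction.Quotient.smul_coe, smul_eq_mul, mul_one, eq_comm, QuotientGroup.eq]
    simpa using (Subgroup.subset_closure ⟨g, hg, rfl⟩ : x g ∈ U)⟩
  obtain ⟨pt, T, n, p1, p2, p3⟩ := run_sound hx h7 (hR_of h1 h2 hx) h0 (by norm_num) e
  simp only [closed, List.all_eq_true, List.mem_range, Bool.or_eq_true, Bool.not_eq_true'] at p3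
  let Z : Finset (X ⧸ U) := ((List.range 4096).filter M.testBit).toFinset.image pt
  have hZ : ∀ k ∈ K, ∀ z ∈ Z, k • z ∈ Z := by
    have key : ∀ g ∈ gens, ∀ z ∈ Z, x g • z ∈ Z := by
      intro g hgg z hz
      simp only [Z, Finset.mem_image, List.mem_toFinset, List.mem_filter, List.mem_range] at hz ⊢
      obtain ⟨i, ⟨i1, i2⟩, rfl⟩ := hz
      have := (p3 i i1).resolve_left (by simp [i2]) g hgg
      refine ⟨_, ⟨get_lt _ _, this⟩, (p2.get (hg g hgg) fun e => ?_).2⟩
      rw [e, m0] at this; exact absurd this (by simp)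
    intro k hk
    refine closure_induction_left (p := fun k _ => ∀ z ∈ Z, k • z ∈ Z) (by simp) ?_ ?_ hk
    · rintro _ ⟨g, hgg, rfl⟩ y _ ih z hz
      rw [mul_smul]; exact key g hgg _ (ih z hz)
    · rintro _ ⟨g, hgg, rfl⟩ y _ ih z hz
      rw [mul_smul, ← eq_inv_of_mul_eq_one_left (hx g)]; exact key g hgg _ (ih z hz)
  have h1Z : ((1 : X) : X ⧸ U) ∈ Z := by
    simp only [Z, Finset.mem_image, List.mem_toFinset, List.mem_filter, List.mem_range]
    exact ⟨1, ⟨by norm_num, m1⟩, p1⟩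
  have hc : Z.card ≤ cnt M := Finset.card_image_le.trans (List.toFinset_card_le _)
  let f : K → Z × U := fun k => (⟨((k : X) : X ⧸ U), by
    simpa using hZ k k.2 _ h1Z⟩, ⟨(((k : X) : X ⧸ U).out)⁻¹ * k, QuotientGroup.eq.mp
      (QuotientGroup.out_eq' _)⟩)
  have hf : Function.Injective f := by
    intro k k' e
    have e1 : ((k : X) : X ⧸ U) = ((k' : X) : X ⧸ U) := congrArg (fun z => (z.1 : X ⧸ U)) e
    have e2 : (((k : X) : X ⧸ U).out)⁻¹ * k = (((k' : X) : X ⧸ U).out)⁻¹ * k' :=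
      congrArg (fun z => (z.2 : X)) e
    rw [e1] at e2
    exact Subtype.ext (mul_left_cancel e2)
  calc Nat.card K ≤ Nat.card (Z × U) := Nat.card_le_card_of_injective f hf
    _ = Z.card * Nat.card U := by rw [Nat.card_prod, Nat.card_eq_fintype_card, Fintype.card_coe]
    _ ≤ _ := Nat.mul_le_mul_right _ hc

end Cfsg.Agent.H7.TC
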