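import Cfsg.Agent.H7.J1U

/-! Conjugacy classes of involutions whose weak closure in the centralizer is `2 × A₅`. -/

set_option autoImplicit false

namespace Cfsg.Agent.H7

namespace A5

theorem exists_gen : ∃ a v x : A5, (a ≠ 1 ∧ a * a = 1 ∧ v * a = a * v) ∧ (x * x = 1 ∧ a * x ≠ 1 ∧
    (a * x) ^ 3 = 1) ∧ v * x ≠ 1 ∧ (v * x) ^ 5 = 1 := by
  decide +kernel

theorem gen_conj : ∀ a : A5, a ≠ 1 ∧ a * a = 1 → ∀ x : A5, x * x = 1 ∧ a * x ≠ 1 ∧ (a * x) ^ 3 = 1 →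
    ∀ y : A5, y * y = 1 ∧ a * y ≠ 1 ∧ (a * y) ^ 3 = 1 → ∃ w, w * a = a * w ∧ y = w * x * w⁻¹ := by
  decide +kernel

theorem cent_comm : ∀ a : A5, a ≠ 1 → a * a = 1 → ∀ v, v * a = a * v → v * v = 1 ∧ ∀ w, w * a = a * w →
    v * w = w * v := by decide +kernel

theorem conj_next : ∀ a : A5, a * a = 1 → ∀ r, r * a * r⁻¹ ≠ a → r * a * r⁻¹ * a = a * (r * a * r⁻¹) →
    r * (r * a * r⁻¹) * r⁻¹ = a * (r * a * r⁻¹) := by decide +kernel

theorem two_inv : ∀ g : A5, ∃ a, a * a = 1 ∧ a * g * (a * g) = 1 := by decide +kernel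

theorem card_cent : ∀ a : A5, a ≠ 1 → a * a = 1 →
    (Finset.univ.filter fun v : A5 => v * a = a * v).card = 4 := by decide +kernel

theorem cen : ∀ a : A5, (∀ b, a * b = b * a) → a = 1 := by decide +kernel

end A5

namespace Jk

open Subgroup Cfsg.Agent.H8

variable {G : Type*} [Group G]

structure W0 (D : G → Prop) (u : G) (φ : A5 →* G) : Prop where
  iv : Iv u
  inj : Function.Injective φ
  comm : ∀ x, Commute (φ x) u
  ne : ∀ x, φ x ≠ u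
  mem : ∀ x, D x → Commute x u → ∃ a, x = φ a ∨ x = u * φ a
  norm : ∀ g, Commute g u → ∀ a, ∃ b, g * φ a * g⁻¹ = φ b

structure WT (D : G → Prop) (u : G) (φ : A5 →* G) : Prop extends W0 D u φ where
  dt : D u
  da : ∀ a, Iv a → D (φ a)
  db : ∀ a, Iv a → D (u * φ a)

structure WK (D : G → Prop) : Prop where
  cj : ∀ x, D x → ∀ g, D (g * x * g⁻¹)
  loc : ∀ u, D u → ∃ φ, WT D u φ

variable {D : G → Prop} {t u : G} {φ : A5 →* G}

namespace W0

variable (h : W0 D t φ)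
include h

theorem cm {x y : A5} : Commute (φ x) (φ y) ↔ Commute x y := by
  rw [Commute, SemiconjBy, ← map_mul, ← map_mul, h.inj.eq_iff]; rfl

theorem iv_iff {x : A5} : Iv (φ x) ↔ Iv x := by
  rw [Iv, Iv, ← map_mul, ← map_one φ, h.inj.eq_iff, h.inj.ne_iff]

theorem mul_ne (x y : A5) : t * φ x ≠ φ y := fun e =>
  h.ne (y * x⁻¹) (by rw [map_mul, map_inv, ← e, mul_inv_cancel_right])

theorem mul_mul (x y : A5) : t * φ x * (t * φ y) = φ (x * y) := by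
  rw [mul_assoc, ← mul_assoc (φ x), (h.comm x).eq, mul_assoc, h.iv.cancel, map_mul]

theorem comm' (x : A5) : Commute (t * φ x) t := (Commute.refl t).mul_left (h.comm x)

theorem cancel {g x : G} (c : Commute g t) (c' : Commute g (t * x)) : Commute g x := by
  have := c.mul_right c'
  rwa [h.iv.cancel] at this

theorem cases {x : G} (hx : D x) (ix : Iv x) (c : Commute x t) (ne : x ≠ t) :
    ∃ a, Iv a ∧ (x = φ a ∨ x = t * φ a) := by
  obtain ⟨a, rfl | rfl⟩ := h.mem x hx c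
  · exact ⟨a, h.iv_iff.mp ix, Or.inl rfl⟩
  · refine ⟨a, ⟨h.inj ?_, fun e => ne (by rw [e, map_one, mul_one])⟩, Or.inr rfl⟩
    rw [← h.mul_mul, ix.1, map_one]

theorem conj (hD : ∀ x, D x → ∀ g, D (g * x * g⁻¹)) (n : G) :
    W0 D (n * t * n⁻¹) ((MulAut.conj n).toMonoidHom.comp φ) where
  iv := h.iv.conj n
  inj := (MulAut.conj n).injective.comp h.inj
  comm x := cm_conj (h.comm x) n
  ne x e := h.ne x ((MulAut.conj n).injective e)
  mem g hg c := by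
    have := cm_conj c n⁻¹
    rw [show n⁻¹ * (n * t * n⁻¹) * n⁻¹⁻¹ = t by group] at this
    obtain ⟨x, e | e⟩ := h.mem _ (hD g hg n⁻¹) this
    · exact ⟨x, Or.inl (by simp [← e, mul_assoc])⟩
    · refine ⟨x, Or.inr ?_⟩
      change g = n * t * n⁻¹ * (n * φ x * n⁻¹)
      rw [_root_.conj_mul, ← e]; group
  norm g c a := by
    have := cm_conj c n⁻¹
    rw [show n⁻¹ * (n * t * n⁻¹) * n⁻¹⁻¹ = t by group] at this
    obtain ⟨b, hb⟩ := h.norm _ this a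
    refine ⟨b, ?_⟩
    change g * (n * φ a * n⁻¹) * g⁻¹ = n * φ b * n⁻¹
    rw [← hb]; group

end W0

theorem exists_other {a : A5} (ha : Iv a) : ∃ v, Iv v ∧ Commute v a ∧ v ≠ a ∧
    ∀ x, Commute x a → x = 1 ∨ x = a ∨ x = v ∨ x = a * v := by
  obtain ⟨v, v1, v2, v3, v4, v5⟩ := A5.cent_inv a ha.2 ha.1
  exact ⟨v, ⟨v3, v1⟩, v4, v2, v5⟩

namespace WK

variable (k : WK D)
include k

theorem iv {x : G} (hx : D x) : Iv x := (k.loc x hx).choose_spec.iv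

theorem tour (h : WT D t φ) {a b : A5} (ha : Iv a) (c : Commute b a) {g : G} (h1 : Commute g t)
    (h2 : Commute g (φ a)) : Commute g (φ b) := by
  obtain ⟨v, v1, v2, v3, v4⟩ := exists_other ha
  have : Commute g (φ v) := by
    obtain ⟨w, hw⟩ := h.norm g h1 v
    have c1 := cm_conj (h.cm.mpr v2) g
    rw [hw, conj_eq_of_cm h2, h.cm] at c1
    rcases v4 w c1 with rfl | rfl | rfl | rfl
    · exact absurd (hw.trans (map_one φ)) ((h.iv_iff.mpr v1).conj g).2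
    · rw [← conj_eq_of_cm h2] at hw
      exact absurd (h.inj ((MulAut.conj g).injective hw)) v3
    · exact cm_of_conj_eq hw
    · obtain ⟨ψ, j⟩ := k.loc _ (h.da a ha)
      rw [map_mul] at hw
      obtain ⟨c, e | e⟩ := j.mem _ (h.da v v1) (h.cm.mpr v2)
      · obtain ⟨c', e'⟩ := j.norm g h2 c
        exact absurd (by rw [← e', ← e, hw]) (j.mul_ne c c')
      · obtain ⟨c', e'⟩ := j.norm g h2 c
        rw [e, cj_mul', e', conj_eq_of_cm h2, j.iv.cancel] at hw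
        exact absurd hw (j.mul_ne c' c)
  rcases v4 b c with rfl | rfl | rfl | rfl
  exacts [by simp, h2, this, map_mul φ a v ▸ h2.mul_right this]

theorem tour' {x y z g : G} (hx : D x) (hy : D y) (hz : D z) (c : Commute y x) (ne : y ≠ x)
    (c1 : Commute z x) (c2 : Commute z y) (h1 : Commute g x) (h2 : Commute g y) : Commute g z := by
  obtain ⟨φ, h⟩ := k.loc x hx
  obtain ⟨a, ha, e⟩ := h.cases hy (k.iv hy) c ne
  have key : ∀ g, Commute g x → Commute g y → Commute g (φ a) := fun g h1 h2 => by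
    rcases e with rfl | rfl
    exacts [h2, h.cancel h1 h2]
  obtain ⟨b, rfl | rfl⟩ := h.mem z hz c1
  · exact k.tour h ha (h.cm.mp (key _ c1 c2)) h1 (key g h1 h2)
  · exact h1.mul_right (k.tour h ha (h.cm.mp (h.cancel (h.comm a) (key _ c1 c2).symm).symm) h1
      (key g h1 h2))

theorem inner (h : WT D t φ) {g : G} (hg : Commute g t) :
    ∃ a, ∀ b, Commute ((φ a)⁻¹ * g) (φ b) := by
  obtain ⟨a, v, x, ⟨a1, a2, hv⟩, hx, v1, v2⟩ := A5.exists_gen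
  obtain ⟨a', ha'⟩ := h.norm g hg a
  have ia := h.iv_iff.mp (ha' ▸ (h.iv_iff.mpr ⟨a2, a1⟩).conj g)
  obtain ⟨l, rfl⟩ := A5.conj_two a a1 a2 a' ia.2 ia.1
  set g' := (φ l)⁻¹ * g with hg'
  have c1 : Commute g' t := (h.comm l).inv_left.mul_left hg
  have c2 : Commute g' (φ a) := cm_of_conj_eq (by
    rw [hg', show (φ l)⁻¹ * g * φ a * ((φ l)⁻¹ * g)⁻¹ = (φ l)⁻¹ * (g * φ a * g⁻¹) * φ l by group, ha']
    simp [mul_assoc])
  obtain ⟨y, hy⟩ := h.norm g' c1 x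
  have e : φ (a * y) = g' * φ (a * x) * g'⁻¹ := by
    rw [map_mul, map_mul, cj_mul', hy, conj_eq_of_cm c2]
  obtain ⟨w, w1, rfl⟩ := A5.gen_conj a ⟨a1, a2⟩ x hx y ⟨h.inj (by
      rw [map_mul, ← hy, ← cj_mul', ← map_mul, hx.1]; simp), fun e' => hx.2.1 (h.inj (by
      rw [e', map_one, eq_comm, mul_inv_eq_one, mul_eq_left] at e; rw [e, map_one])),
    h.inj (by rw [map_pow, e, conj_pow, ← map_pow, hx.2.2]; simp)⟩
  have c3 : ∀ b, Commute b a → Commute ((φ w)⁻¹ * g') (φ b) := fun b hb =>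
    (h.cm.mpr ((A5.cent_comm a a1 a2 w w1).2 b hb)).inv_left.mul_left (k.tour h ⟨a2, a1⟩ hb c1 c2)
  have c4 : Commute ((φ w)⁻¹ * g') (φ x) := cm_of_conj_eq (by
    rw [show (φ w)⁻¹ * g' * φ x * ((φ w)⁻¹ * g')⁻¹ = (φ w)⁻¹ * (g' * φ x * g'⁻¹) * φ w by group, hy]
    simp [mul_assoc])
  have : Fact (Nat.Prime 3) := ⟨by norm_num⟩
  have : Fact (Nat.Prime 5) := ⟨by norm_num⟩
  have key : ∀ b, Commute b a → b * x ∈ (centralizer {(φ w)⁻¹ * g'}).comap φ := fun b hb =>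
    mem_centralizer_singleton_iff.mpr (map_mul φ b x ▸ ((c3 b hb).mul_right c4).symm)
  have := A5.eq_top ((centralizer {(φ w)⁻¹ * g'}).comap φ)
    (mem_centralizer_singleton_iff.mpr (c3 a (Commute.refl a)).symm) (key a (Commute.refl a)) (key v hv)
    (Iv.ord ⟨a2, a1⟩) (orderOf_eq_prime hx.2.2 hx.2.1) (orderOf_eq_prime v2 v1)
  refine ⟨l * w, fun b => ?_⟩
  rw [map_mul, mul_inv_rev, mul_assoc]
  exact Commute.symm (mem_centralizer_singleton_iff.mp (mem_comap.mp (this ▸ mem_top b)))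

section closure

variable {Z : G → Prop} (hD : ∀ x, Z x → D x)
  (hZ : ∀ x ψ, WT D x ψ → Z x → ∀ b y, Z y → Z (ψ b * y * (ψ b)⁻¹))
include hZ

omit k in
theorem cls_a (h : WT D t φ) (ht : Z t) {a b : A5} (ha : Iv a) (hb : Iv b) (z : Z (φ a)) : Z (φ b) := by
  obtain ⟨g, rfl⟩ := A5.conj_two a ha.2 ha.1 b hb.2 hb.1
  simpa using hZ t φ h ht g _ z

omit k in
theorem cls_b (h : WT D t φ) (ht : Z t) {a b : A5} (ha : Iv a) (hb : Iv b) (z : Z (t * φ a)) :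
    Z (t * φ b) := by
  obtain ⟨g, rfl⟩ := A5.conj_two a ha.2 ha.1 b hb.2 hb.1
  have := hZ t φ h ht g _ z
  rw [cj_mul', conj_eq_of_cm (h.comm g)] at this
  simpa using this

theorem close_a (h : WT D t φ) (ht : Z t) {a : A5} (ha : Iv a) (z : Z (φ a)) {x : G} (hx : D x)
    (c : Commute x t) : Z x := by
  by_cases ne : x = t
  · exact ne ▸ ht
  obtain ⟨b, hb, rfl | rfl⟩ := h.cases hx (k.iv hx) c ne
  · exact cls_a hZ h ht ha hb z
  refine cls_b hZ h ht ha hb ?_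
  obtain ⟨v, v1, v2, v3, -⟩ := exists_other ha
  obtain ⟨ψ, j⟩ := k.loc _ (h.da a ha)
  have z1 := cls_a hZ h ht ha v1 z
  have z2 := cls_a hZ h ht ha (ha.mul v1 v2 v3) z
  rw [map_mul] at z2
  obtain ⟨c, hc, z3, z4⟩ : ∃ c, Iv c ∧ Z (ψ c) ∧ Z (φ a * ψ c) := by
    obtain ⟨c, hc, e | e⟩ := j.cases (h.da v v1) (h.iv_iff.mpr v1) (h.cm.mpr v2) fun e => v3 (h.inj e)
    · exact ⟨c, hc, e ▸ z1, e ▸ z2⟩
    · exact ⟨c, hc, by rwa [e, j.iv.cancel] at z2, e ▸ z1⟩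
  obtain ⟨d, hd, e | e⟩ := j.cases (h.db a ha) (k.iv (h.db a ha))
    ((h.comm a).symm.mul_left (Commute.refl _)) (h.mul_ne a a)
  · exact e ▸ cls_a hZ j z hc hd z3
  · exact e ▸ cls_b hZ j z hc hd z4

include hD

theorem close (ht : Z t) (hu : Z u) (c : Commute u t) (ne : u ≠ t) {x : G} (hx : D x)
    (c' : Commute x t) : Z x := by
  obtain ⟨φ, h⟩ := k.loc t (hD t ht)
  obtain ⟨a, ha, rfl | rfl⟩ := h.cases (hD u hu) (k.iv (hD u hu)) c ne
  · exact k.close_a hZ h ht ha hu hx c'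
  refine k.close_a hZ h ht ha ?_ hx c'
  obtain ⟨v, v1, v2, v3, -⟩ := exists_other ha
  obtain ⟨ψ, j⟩ := k.loc _ (h.db a ha)
  have c1 : Commute (φ a) (t * φ a) := (h.comm a).mul_right (Commute.refl _)
  obtain ⟨c0, hc0, e | e⟩ := j.cases (hD t ht) h.iv c.symm ne.symm
  · exact k.close_a hZ j hu hc0 (e ▸ ht) (h.da a ha) c1
  obtain ⟨c2, hc2, e2 | e2⟩ := j.cases (h.db v v1) (k.iv (h.db v v1))
    ((h.comm' v).mul_right ((h.comm a).symm.mul_left (h.cm.mpr v2))) fun e => v3 (h.inj (mul_left_cancel e))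
  · exact k.close_a hZ j hu hc2 (e2 ▸ cls_b hZ h ht ha v1 hu) (h.da a ha) c1
  exfalso
  have e0 : ψ c0 = φ a := by
    rw [← j.iv.cancel (ψ c0), ← e, mul_assoc, (h.comm a).eq, h.iv.cancel]
  have e3 : ψ (c0 * c2) = φ v := by
    rw [map_mul, e0, ← j.iv.cancel (ψ c2), ← e2, h.mul_mul, map_mul, (h.iv_iff.mpr ha).cancel]
  have i3 := j.iv_iff.mp (e3 ▸ h.iv_iff.mpr v1)
  obtain ⟨r, hr⟩ := A5.conj_two c0 hc0.2 hc0.1 _ i3.2 i3.1
  obtain ⟨ρ, hρ⟩ := A5.conj_two a ha.2 ha.1 v v1.2 v1.1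
  have n1 := A5.conj_next c0 hc0.1 r (fun e => v3 (h.inj (by rw [← e3, ← hr, e, e0])))
    (hr ▸ j.cm.mp (by rw [e3, e0]; exact h.cm.mpr v2))
  have n2 := A5.conj_next a ha.1 ρ (hρ ▸ v3) (hρ ▸ v2)
  rw [hr] at n1
  rw [hρ] at n2
  have f1 := congrArg ψ hr
  have f2 := congrArg ψ n1
  have f3 := congrArg φ hρ
  have f4 := congrArg φ n2
  rw [map_mul, map_mul, map_inv] at f1 f2 f3 f4
  rw [e0, e3] at f1
  rw [map_mul ψ c0 (c0 * c2), e0, e3, ← map_mul φ] at f2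
  have s : ∀ y, ψ r * y * (ψ r)⁻¹ = φ ρ * y * (φ ρ)⁻¹ → Commute ((φ ρ)⁻¹ * ψ r) y := fun y hy =>
    cm_of_conj_eq (by
      rw [show (φ ρ)⁻¹ * ψ r * y * ((φ ρ)⁻¹ * ψ r)⁻¹ = (φ ρ)⁻¹ * (ψ r * y * (ψ r)⁻¹) * φ ρ by group, hy]
      group)
  have := (h.comm ρ).mul_left (k.tour' (h.da a ha) (h.da v v1) (hD t ht) (h.cm.mpr v2)
    (fun e => v3 (h.inj e)) (h.comm a).symm (h.comm v).symm (s _ (f1.trans f3.symm))
    (s _ (f2.trans f4.symm)))
  rw [mul_inv_cancel_left] at this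
  exact v3 (h.inj (by rw [← f1, conj_eq_of_cm (h.cancel this (j.comm r))]))

end closure

end WK

end Jk

end Cfsg.Agent.H7
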