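import Cfsg.Agent.H7.WC1
import Cfsg.Agent.H7.Disc

/-! The connected component of the commuting graph. -/

set_option autoImplicit false

namespace Cfsg.Agent.H7.Jk

open Subgroup Cfsg.Agent.H8

variable {G : Type*} [Group G] {D : G → Prop} {t u : G} {φ : A5 →* G}

def Ee (D : G → Prop) (c x : G) : Prop := D x ∧ ∀ y, D y → Commute y x → Commute c y

theorem WT.ind (h : WT D t φ) {P : G → Prop} (h1 : P 1) (hm : ∀ x y, P x → P y → P (x * y))
    (hD : ∀ y, D y → Commute y t → P y) (b : A5) : P (φ b) := by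
  have : ∀ a : A5, a * a = 1 → P (φ a) := fun a ha => by
    by_cases a1 : a = 1
    · rwa [a1, map_one]
    · exact hD _ (h.da a ⟨ha, a1⟩) (h.comm a)
  obtain ⟨a, a1, a2⟩ := A5.two_inv b
  have := hm _ _ (this a a1) (this _ a2)
  rwa [← map_mul, ← mul_assoc, a1, one_mul] at this

theorem Ee.cm {c : G} (e : Ee D c t) (h : WT D t φ) (b : A5) : Commute c (φ b) :=
  h.ind (Commute.one_right c) (fun _ _ => Commute.mul_right) e.2 b

def Adj (D : G → Prop) (x y : G) : Prop := D y ∧ Commute y x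

def Dl (D : G → Prop) (t : G) : G → Prop := Relation.ReflTransGen (Adj D) t

namespace WK

variable (k : WK D)
include k

theorem ee_conj (c x : G) (ψ : A5 →* G) (h : WT D x ψ) (e : Ee D c x) (b : A5) (y : G) (hy : Ee D c y) :
    Ee D c (ψ b * y * (ψ b)⁻¹) := ⟨k.cj _ hy.1 _, fun z hz c1 => by
  have h1 := cm_conj c1 (ψ b)⁻¹
  rw [show (ψ b)⁻¹ * (ψ b * y * (ψ b)⁻¹) * (ψ b)⁻¹⁻¹ = y by group] at h1
  have := cm_conj (hy.2 _ (k.cj z hz _) h1) (ψ b)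
  rwa [conj_eq_of_cm (e.cm h b).symm, show ψ b * ((ψ b)⁻¹ * z * (ψ b)⁻¹⁻¹) * (ψ b)⁻¹ = z by group] at this⟩

theorem spread {Z : G → Prop} (hD : ∀ x, Z x → D x)
    (hZ : ∀ x ψ, WT D x ψ → Z x → ∀ b y, Z y → Z (ψ b * y * (ψ b)⁻¹)) {w w' : G} (h1 : Z w) (h2 : Z w')
    (c : Commute w' w) (ne : w' ≠ w) {x : G} (hx : Dl D w x) : Z x := by
  suffices Z x ∧ ∃ y, Z y ∧ Commute y x ∧ y ≠ x from this.1
  induction hx with
  | refl => exact ⟨h1, w', h2, c, ne⟩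
  | @tail x x' _ hb ih =>
    obtain ⟨z, y, y1, y2, y3⟩ := ih
    refine ⟨k.close hD hZ z y1 y2 y3 hb.1 hb.2, ?_⟩
    by_cases e : x = x'
    · exact e ▸ ⟨y, y1, y2, y3⟩
    · exact ⟨x, z, hb.2.symm, e⟩

theorem pigeon [Finite G] (h : WT D t φ) {a : A5} (ha : Iv a) {e : G} (h1 : Commute e t)
    (h2 : Commute e (φ a)) : ∃ z w w', (∃ b, z = φ b ∨ z = t * φ b) ∧ Commute t w ∧ Commute w' w ∧
      w' ≠ w ∧ Ee D (z⁻¹ * e) w ∧ Ee D (z⁻¹ * e) w' := by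
  classical
  have ht := h.dt
  set A : Set G := {z | (z = 1 ∨ D z) ∧ Commute z t ∧ Commute z (φ a)} with hA
  have hA' : A = φ '' {b | b * a = a * b} ∪ (fun b => t * φ b) '' {b | b * a = a * b} := by
    ext z
    constructor
    · rintro ⟨rfl | hz, z1, z2⟩
      · exact Or.inl ⟨1, by simp, map_one φ⟩
      obtain ⟨b, rfl | rfl⟩ := h.mem z hz z1
      · exact Or.inl ⟨b, h.cm.mp z2, rfl⟩
      · exact Or.inr ⟨b, h.cm.mp (h.cancel (h.comm a) z2.symm).symm, rfl⟩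
    · rintro (⟨b, hb, rfl⟩ | ⟨b, hb, rfl⟩)
      · refine ⟨?_, h.comm b, h.cm.mpr hb⟩
        by_cases b1 : b = 1
        exacts [Or.inl (by rw [b1, map_one]), Or.inr (h.da b ⟨(A5.cent_comm a ha.2 ha.1 b hb).1, b1⟩)]
      · refine ⟨Or.inr ?_, h.comm' b, (h.comm a).symm.mul_left (h.cm.mpr hb)⟩
        by_cases b1 : b = 1
        exacts [by simpa [b1] using ht, h.db b ⟨(A5.cent_comm a ha.2 ha.1 b hb).1, b1⟩]
  have hc : A.ncard = 8 := by
    have h4 : {b | b * a = a * b}.ncard = 4 := by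
      rw [Set.ncard_eq_toFinset_card', Set.toFinset_ofPred, A5.card_cent a ha.2 ha.1]
    rw [hA', Set.ncard_union_eq, Set.ncard_image_of_injective _ h.inj,
      Set.ncard_image_of_injective _ fun a b e => h.inj (mul_left_cancel e), h4]
    rw [Set.disjoint_left]
    rintro _ ⟨a, -, rfl⟩ ⟨b, -, e⟩
    exact h.mul_ne _ _ e
  have ne : φ a ≠ t := h.ne a
  have cA : ∀ g, Commute g t → Commute g (φ a) → ∀ z ∈ A, Commute g z := fun g g1 g2 z hz => by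
    rcases hz.1 with rfl | hz'
    exacts [Commute.one_right g, k.tour' ht (h.da a ha) hz' (h.comm a) ne hz.2.1 hz.2.2 g1 g2]
  have mul : ∀ x ∈ A, ∀ y ∈ A, x * y ∈ A := by
    rw [hA']
    rintro _ (⟨b, hb, rfl⟩ | ⟨b, hb, rfl⟩) _ (⟨c, hc, rfl⟩ | ⟨c, hc, rfl⟩)
    · exact Or.inl ⟨b * c, Commute.mul_left hb hc, map_mul _ _ _⟩
    · exact Or.inr ⟨b * c, Commute.mul_left hb hc, by
        simp only [map_mul]; rw [← mul_assoc, ← mul_assoc, (h.comm b).eq]⟩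
    · exact Or.inr ⟨b * c, Commute.mul_left hb hc, by simp only [map_mul, mul_assoc]⟩
    · exact Or.inl ⟨b * c, Commute.mul_left hb hc, (h.mul_mul b c).symm⟩
  have key : ∀ w, ∃ z, w ∈ A \ {1} → z ∈ A ∧ Ee D (z⁻¹ * e) w ∧ Ee D ((w * z)⁻¹ * e) w := fun w => by
    by_cases hw : w ∈ A \ {1}
    swap
    · exact ⟨1, fun h => absurd h hw⟩
    have dw : D w := hw.1.1.resolve_left hw.2
    obtain ⟨ψ, j⟩ := k.loc w dw
    have ew := cA e h1 h2 w hw.1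
    obtain ⟨c, hc⟩ := k.inner j ew
    have c0 : Commute ((ψ c)⁻¹ * e) w := (j.comm c).inv_left.mul_left ew
    have e1 : Ee D ((ψ c)⁻¹ * e) w := ⟨dw, fun y hy c1 => by
      obtain ⟨b, rfl | rfl⟩ := j.mem y hy c1
      exacts [hc b, c0.mul_right (hc b)]⟩
    have c1 : ∀ z ∈ A, D z → Commute (ψ c) z := fun z hz dz => by
      have := ((e1.2 z dz (cA z hz.2.1 hz.2.2 w hw.1)).mul_left (cA e h1 h2 z hz).inv_left).inv_left
      rwa [mul_inv_cancel_right, inv_inv] at this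
    have m1 : t ∈ A := ⟨Or.inr ht, Commute.refl t, (h.comm a).symm⟩
    have m2 : φ a ∈ A := ⟨Or.inr (h.da a ha), h.comm a, Commute.refl _⟩
    refine ⟨ψ c, fun _ => ⟨⟨?_, c1 t m1 ht, c1 _ m2 (h.da a ha)⟩, e1, dw, fun y hy c2 => ?_⟩⟩
    · obtain ⟨z, hz, dz, ne⟩ : ∃ z ∈ A, D z ∧ z ≠ w := by
        by_cases e : t = w
        exacts [⟨_, m2, h.da a ha, e ▸ ne⟩, ⟨t, m1, ht, e⟩]
      obtain ⟨b, hb, e⟩ := j.cases dz (k.iv dz) (cA z hz.2.1 hz.2.2 w hw.1) ne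
      have : Commute c b := j.cm.mp (by
        rcases e with rfl | rfl
        exacts [c1 _ hz dz, j.cancel (j.comm c) (c1 _ hz dz)])
      by_cases c1 : c = 1
      exacts [Or.inl (by rw [c1, map_one]), Or.inr (j.da c ⟨(A5.cent_comm b hb.2 hb.1 c this).1, c1⟩)]
    · rw [← (j.comm c).eq, mul_inv_rev, mul_assoc]
      exact c2.symm.inv_left.mul_left (e1.2 y hy c2)
  choose z hz using key
  obtain ⟨⟨w, i⟩, ⟨hw, -⟩, ⟨w', i'⟩, ⟨hw', -⟩, n1, n2⟩ := Set.exists_ne_map_eq_of_ncard_lt_of_maps_to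
    (s := (A \ {1}) ×ˢ (Set.univ : Set Bool)) (t := A)
    (f := fun p => if p.2 then p.1 * z p.1 else z p.1) (by
      rw [Set.ncard_prod, Set.ncard_sdiff_singleton_of_mem (by simp [hA]), hc, Set.ncard_univ]; simp)
    (by
      rintro ⟨w, i⟩ ⟨hw, -⟩
      cases i
      exacts [(hz w hw).1, mul _ hw.1 _ (hz w hw).1])
  have m : ∀ w ∈ A \ {1}, ∀ i : Bool, (if i then w * z w else z w) ∈ A ∧
      Ee D ((if i then w * z w else z w)⁻¹ * e) w := fun w hw i => by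
    cases i
    exacts [⟨(hz w hw).1, (hz w hw).2.1⟩, ⟨mul _ hw.1 _ (hz w hw).1, (hz w hw).2.2⟩]
  refine ⟨_, w, w', ?_, hw.1.2.1.symm, cA w' hw'.1.2.1 hw'.1.2.2 w hw.1, ?_, (m w hw i).2, ?_⟩
  · have := (m w hw i).1
    rw [hA'] at this
    rcases this with ⟨b, -, e⟩ | ⟨b, -, e⟩
    exacts [⟨b, Or.inl e.symm⟩, ⟨b, Or.inr e.symm⟩]
  · rintro rfl
    cases i <;> cases i' <;> simp_all
  · exact (show _ = _ from n2) ▸ (m w' hw' i').2

end WK

end Cfsg.Agent.H7.Jk
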