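import Cfsg.Agent.H7.WC2
import Cfsg.Agent.H7.TwoTools

/-! The subgroup generated by a connected component is `J₁`. -/

set_option autoImplicit false

namespace Cfsg.Agent.H7.Jk

open Subgroup Cfsg.Agent.H8
open scoped commutatorElement

universe u

variable {G : Type u} [Group G] {D : G → Prop} {t u : G} {φ : A5 →* G}

theorem Dl.mem {x : G} (ht : D t) (h : Dl D t x) : D x := by
  induction h with
  | refl => exact ht
  | tail _ h _ => exact h.1

theorem Dl.symm {x : G} (ht : D t) (h : Dl D t x) : Dl D x t := by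
  induction h with
  | refl => exact Relation.ReflTransGen.refl
  | tail h1 h ih => exact Relation.ReflTransGen.head ⟨Dl.mem ht h1, h.2.symm⟩ ih

theorem Dl.adj {x y : G} (h : Dl D t x) (hy : D y) (c : Commute y x) : Dl D t y :=
  Relation.ReflTransGen.tail h ⟨hy, c⟩

theorem Dl.rfl : Dl D t t := Relation.ReflTransGen.refl

def Xc (D : G → Prop) (t : G) : Subgroup G := closure {x | Dl D t x}

theorem Dl.mem_Xc {x : G} (h : Dl D t x) : x ∈ Xc D t := subset_closure h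

theorem WT.mem_Xc {x : G} {ψ : A5 →* G} (h : WT D x ψ) (hx : Dl D t x) (b : A5) : ψ b ∈ Xc D t :=
  h.ind (one_mem _) (fun _ _ => mul_mem) (fun _ hy c => (hx.adj hy c).mem_Xc) b

namespace WK

variable (k : WK D)
include k

theorem dl_conj {x y : G} (h : Dl D x y) (g : G) : Dl D (g * x * g⁻¹) (g * y * g⁻¹) := by
  induction h with
  | refl => exact Dl.rfl
  | tail _ h ih => exact ih.adj (k.cj _ h.1 g) (cm_conj h.2 g)

def Mc (ht : D t) : Subgroup G where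
  carrier := {g | Dl D t (g * t * g⁻¹)}
  one_mem' := by simpa using Dl.rfl
  mul_mem' {a b} ha hb := by
    have := Relation.ReflTransGen.trans ha (k.dl_conj hb a)
    rwa [show a * (b * t * b⁻¹) * a⁻¹ = a * b * t * (a * b)⁻¹ by group] at this
  inv_mem' {a} ha := by
    have := k.dl_conj ha a⁻¹
    rw [show a⁻¹ * (a * t * a⁻¹) * a⁻¹⁻¹ = t by group] at this
    exact this.symm (k.cj t ht _)

variable (h : WT D t φ)
include h

theorem mc_conj {g x : G} (hg : g ∈ k.Mc h.dt) (hx : Dl D t x) : Dl D t (g * x * g⁻¹) :=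
  Relation.ReflTransGen.trans hg (k.dl_conj hx g)

theorem mem_mc {g x : G} (hx : Dl D t x) (c : Commute g x) : g ∈ k.Mc h.dt := by
  have := k.dl_conj (hx.symm h.dt) g
  rw [conj_eq_of_cm c] at this
  exact Relation.ReflTransGen.trans hx this

theorem xc_le : Xc D t ≤ k.Mc h.dt := (closure_le _).mpr fun _ hx => k.mem_mc h hx (Commute.refl _)

theorem exists_nb : ∃ ρ ∈ Xc D t, Commute (ρ * t * ρ⁻¹) t ∧ ρ * t * ρ⁻¹ ≠ t := by
  obtain ⟨a, -, -, ⟨a1, a2, -⟩, -⟩ := A5.exists_gen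
  have da := h.da a ⟨a2, a1⟩
  obtain ⟨ψ, j⟩ := k.loc _ da
  obtain ⟨c, hc, e⟩ := j.cases h.dt h.iv (h.comm a).symm (h.ne a).symm
  obtain ⟨v, v1, v2, v3, -⟩ := exists_other hc
  obtain ⟨r, hr⟩ := A5.conj_two c hc.2 hc.1 v v1.2 v1.1
  have f := congrArg ψ hr
  rw [map_mul, map_mul, map_inv] at f
  refine ⟨ψ r, j.mem_Xc (Dl.rfl.adj da (h.comm a)) r, ?_⟩
  generalize φ a = u at j e
  rcases e with rfl | rfl
  · exact f ▸ ⟨j.cm.mpr v2, fun e => v3 (j.inj e)⟩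
  · rw [cj_mul', conj_eq_of_cm (j.comm r), f]
    exact ⟨(j.comm' v).mul_right ((j.comm c).symm.mul_left (j.cm.mpr v2)),
      fun e => v3 (j.inj (mul_left_cancel e))⟩

theorem trans {x : G} (hx : Dl D t x) : ∃ ρ ∈ Xc D t, ρ * t * ρ⁻¹ = x := by
  obtain ⟨ρ, h1, h2, h3⟩ := k.exists_nb h
  refine k.spread (Z := fun x => ∃ ρ ∈ Xc D t, ρ * t * ρ⁻¹ = x) ?_ ?_ ⟨1, one_mem _, by simp⟩
    ⟨ρ, h1, rfl⟩ h2 h3 hx
  · rintro _ ⟨ρ, -, rfl⟩
    exact k.cj t h.dt ρ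
  · rintro _ ψ j ⟨ρ, h1, rfl⟩ b _ ⟨σ, h2, rfl⟩
    exact ⟨ψ b * σ, mul_mem (j.mem_Xc (k.xc_le h h1) b) h2, by group⟩

theorem cent [Finite G] {g : G} (hg : Commute g t) :
    ∃ z, (∃ b, z = φ b ∨ z = t * φ b) ∧ ∀ y ∈ Xc D t, Commute (z⁻¹ * g) y := by
  obtain ⟨a, -, -, ⟨a1, a2, -⟩, -⟩ := A5.exists_gen
  obtain ⟨c, hc⟩ := k.inner h hg
  obtain ⟨z, w, w', ⟨b, hb⟩, h1, h2, h3, h4, h5⟩ := k.pigeon h ⟨a2, a1⟩
    ((h.comm c).inv_left.mul_left hg) (hc a)
  refine ⟨φ c * z, ⟨c * b, ?_⟩, fun y hy => ?_⟩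
  · rcases hb with rfl | rfl
    · exact Or.inl (map_mul _ _ _).symm
    · exact Or.inr (by rw [map_mul, ← mul_assoc, ← mul_assoc, (h.comm c).eq])
  · rw [mul_inv_rev, mul_assoc]
    refine mem_centralizer_singleton_iff.mp ((closure_le (centralizer {_})).mpr (fun x hx => ?_) hy) |>.symm
    have := k.spread (fun _ h => h.1) (k.ee_conj _) h4 h5 h2 h3
      (Relation.ReflTransGen.trans (Dl.rfl.adj h.dt h1) hx)
    exact mem_centralizer_singleton_iff.mpr (this.2 x this.1 (Commute.refl x)).symm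

theorem odd_rel [Finite G] (ho : Odd (centralizer ({t} : Set G)).index) :
    Odd ((centralizer ({t} : Set G)).relIndex (Xc D t)) := by
  have : (fun s => s * t * s⁻¹) '' (Xc D t : Set G) = (fun s => s * t * s⁻¹) '' (k.Mc h.dt : Set G) :=
    (Set.image_mono (k.xc_le h)).antisymm (by
      rintro _ ⟨m, hm, rfl⟩
      exact k.trans h hm)
  rw [relIndex_centralizer_eq, this, ← relIndex_centralizer_eq]
  exact ho.of_dvd_nat (relIndex_dvd_index_of_le fun g hg =>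
    k.mem_mc h Dl.rfl (mem_centralizer_singleton_iff.mp hg))

theorem jt {Y : Type*} [Group Y] [Finite G] (f : Xc D t →* Y) (hf : Function.Surjective f)
    (hk : f.ker = center _) :
    JT (f ⟨t, Dl.rfl.mem_Xc⟩) (f.comp (φ.codRestrict _ (h.mem_Xc Dl.rfl))) := by
  have c1 : ∀ x : Xc D t, f x = 1 ↔ ∀ y ∈ Xc D t, Commute x.1 y := fun x => by
    rw [← MonoidHom.mem_ker, hk, mem_center_iff]
    exact ⟨fun e y hy => (congrArg Subtype.val (e ⟨y, hy⟩)).symm, fun e y => Subtype.ext (e y y.2).symm⟩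
  have c2 : ¬ ∀ y ∈ Xc D t, Commute t y := fun e => by
    obtain ⟨ρ, h1, -, h3⟩ := k.exists_nb h
    exact h3 (conj_eq_of_cm (e ρ h1).symm)
  have c3 : ∀ a, (∀ y ∈ Xc D t, Commute (φ a) y) → a = 1 := fun a e =>
    A5.cen a fun b => h.cm.mp (e _ (h.mem_Xc Dl.rfl b))
  have c4 : ∀ a, ¬ ∀ y ∈ Xc D t, Commute (t * φ a) y := fun a e => c2 (by
    have : a = 1 := A5.cen a fun b => h.cm.mp (h.cancel (h.comm b) (e _ (h.mem_Xc Dl.rfl b)).symm).symm
    simpa [this] using e)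
  refine ⟨⟨by rw [← map_mul, c1]; simp [h.iv.1], fun e => c2 ((c1 _).mp e)⟩,
    (injective_iff_map_eq_one _).mpr fun a e => c3 a ((c1 _).mp e), 
    fun a => Commute.map (x := ⟨φ a, h.mem_Xc Dl.rfl a⟩) (y := ⟨t, Dl.rfl.mem_Xc⟩)
      (Subtype.ext (h.comm a).eq) f,
    fun a e => c4 a ((c1 (⟨t, Dl.rfl.mem_Xc⟩ * ⟨φ a, h.mem_Xc Dl.rfl a⟩)).mp ?_), fun g hg => ?_⟩
  · rw [map_mul, show f ⟨φ a, _⟩ = _ from e, ← map_mul, c1]; simp [h.iv.1]
  obtain ⟨g, rfl⟩ := hf g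
  have z := (c1 (⟨t, Dl.rfl.mem_Xc⟩ * (g * ⟨t, Dl.rfl.mem_Xc⟩ * g⁻¹))).mp (by
    rw [map_mul, map_mul, map_mul, map_inv, conj_eq_of_cm hg, ← map_mul, c1]; simp [h.iv.1])
  change ∀ y ∈ Xc D t, Commute (t * (g * t * (g : G)⁻¹)) y at z
  have : Commute g.1 t := cm_of_conj_eq (by
    obtain ⟨b, e | e⟩ := h.mem _ (k.cj t h.dt g) (h.cancel (Commute.refl t) (z t Dl.rfl.mem_Xc).symm).symm
    · exact absurd (e ▸ z) (c4 b)
    · rw [e, h.iv.cancel] at z
      rw [e, c3 b z, map_one, mul_one])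
  obtain ⟨w, ⟨b, hb⟩, hw⟩ := k.cent h this
  have m : w ∈ Xc D t := by
    rcases hb with rfl | rfl
    exacts [h.mem_Xc Dl.rfl b, mul_mem Dl.rfl.mem_Xc (h.mem_Xc Dl.rfl b)]
  have := (c1 ((⟨w, m⟩ : Xc D t)⁻¹ * g)).mpr hw
  rw [map_mul, map_inv, inv_mul_eq_one] at this
  refine ⟨b, ?_⟩
  rcases hb with rfl | rfl
  exacts [Or.inl this.symm, Or.inr (by rw [← this, MonoidHom.comp_apply, ← map_mul]; rfl)]

variable [Finite G] (ho : Odd (centralizer ({t} : Set G)).index)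
include ho

theorem odd_index : Odd (centralizer ({⟨t, Dl.rfl.mem_Xc⟩} : Set (Xc D t))).index := by
  refine (congrArg (fun H : Subgroup (Xc D t) => Odd H.index) ?_).mp (k.odd_rel h ho)
  ext x
  simp [mem_subgroupOf, mem_centralizer_singleton_iff, Subtype.ext_iff]

theorem jan {Y : Type*} [Group Y] (f : Xc D t →* Y) (hf : Function.Surjective f)
    (hk : f.ker = center _) : Jan Y := by
  have j := k.jt h f hf hk
  have : Finite Y := Finite.of_surjective f hf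
  refine Jan.of_one j fun s hs => ?_
  obtain ⟨g, hg⟩ := BS.Rec.exists_conj_mem Nat.prime_two (x := s) (by rw [pow_two, hs.1])
    (T := centralizer {f ⟨t, Dl.rfl.mem_Xc⟩}) fun e => (k.odd_index h ho).not_two_dvd_nat
      (e.trans ((index_dvd_of_le (by
        rintro _ ⟨x, hx, rfl⟩
        exact mem_centralizer_singleton_iff.mpr
          (Commute.map (mem_centralizer_singleton_iff.mp hx) f))).trans (index_map_dvd _ hf)))
  have key : ∀ x : Xc D t, D x.1 → Commute x.1 t → g⁻¹ * s * g = f x →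
      ∃ g, g * f ⟨t, Dl.rfl.mem_Xc⟩ * g⁻¹ = s := fun x h1 h2 e => by
    obtain ⟨ρ, h3, h4⟩ := k.trans h (Dl.rfl.adj h1 h2)
    refine ⟨g * f ⟨ρ, h3⟩, ?_⟩
    rw [show s = g * (g⁻¹ * s * g) * g⁻¹ by group, e,
      show x = ⟨ρ, h3⟩ * ⟨t, Dl.rfl.mem_Xc⟩ * ⟨ρ, h3⟩⁻¹ from Subtype.ext h4.symm]
    simp only [map_mul, map_inv]; group
  by_cases e : g⁻¹ * s * g = f ⟨t, Dl.rfl.mem_Xc⟩
  · exact key _ h.dt (Commute.refl t) e
  obtain ⟨a, a1, a2, e | e⟩ := j.inv_cases (by simpa using hs.conj g⁻¹)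
    (mem_centralizer_singleton_iff.mp hg) e
  · exact key ⟨φ a, h.mem_Xc Dl.rfl a⟩ (h.da a ⟨a2, a1⟩) (h.comm a) e
  · exact key (⟨t, Dl.rfl.mem_Xc⟩ * ⟨φ a, h.mem_Xc Dl.rfl a⟩) (h.db a ⟨a2, a1⟩) (h.comm' a)
      (e.trans (map_mul f _ _).symm)

omit ho [Finite G] in
theorem perfect : commutator (Xc D t) = ⊤ := by
  apply map_injective (Xc D t).subtype_injective
  rw [map_subtype_commutator, ← MonoidHom.range_eq_map, range_subtype]
  refine le_antisymm (commutator_le.mpr fun a ha b hb =>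
    mul_mem (mul_mem (mul_mem ha hb) (inv_mem ha)) (inv_mem hb)) ((closure_le _).mpr fun x hx => ?_)
  obtain ⟨a, -, -, ⟨a1, a2, -⟩, -⟩ := A5.exists_gen
  obtain ⟨ρ, h1, rfl⟩ := k.trans h hx
  obtain ⟨σ, h2, e⟩ := k.trans h (Dl.rfl.adj (h.da a ⟨a2, a1⟩) (h.comm a))
  obtain ⟨b, c, rfl⟩ := A5.exists_comm a
  have m : ∀ b, ρ * σ⁻¹ * φ b * (ρ * σ⁻¹)⁻¹ ∈ Xc D t := fun b =>
    mul_mem (mul_mem (mul_mem h1 (inv_mem h2)) (h.mem_Xc Dl.rfl b)) (inv_mem (mul_mem h1 (inv_mem h2)))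
  have := commutator_mem_commutator (m b) (m c)
  simp only [map_mul, map_inv] at e
  rwa [show ⁅ρ * σ⁻¹ * φ b * (ρ * σ⁻¹)⁻¹, ρ * σ⁻¹ * φ c * (ρ * σ⁻¹)⁻¹⁆ =
    ρ * σ⁻¹ * (φ b * φ c * (φ b)⁻¹ * (φ c)⁻¹) * (ρ * σ⁻¹)⁻¹ by rw [commutatorElement_def]; group, ← e,
    show ρ * σ⁻¹ * (σ * t * σ⁻¹) * (ρ * σ⁻¹)⁻¹ = ρ * t * ρ⁻¹ by group] at this

theorem center_eq : center (Xc D t) = ⊥ := by
  have hk := QuotientGroup.ker_mk' (center (Xc D t))
  have hf := QuotientGroup.mk'_surjective (center (Xc D t))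
  have J := k.jan h ho _ hf hk
  have j := k.jt h _ hf hk
  generalize QuotientGroup.mk' (center (Xc D t)) = f at hk hf J j
  refine eq_bot_iff.mpr fun z hz => by_contra fun z1 => ?_
  obtain ⟨p, hp, hd⟩ := Nat.exists_prime_and_dvd (mt orderOf_eq_one_iff.mp z1)
  have := Fact.mk hp
  have ho' := orderOf_pow_orderOf_div (orderOf_pos z).ne' hd
  have hz' := pow_mem hz (orderOf z / p)
  generalize z ^ (orderOf z / p) = w at ho' hz'
  have pw : IsPGroup p (zpowers w) := IsPGroup.of_card (n := 1) (by rw [Nat.card_zpowers, ho', pow_one])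
  suffices ∃ P : Sylow p (Xc D t), w ∈ (P : Subgroup _) ∧ IsMulCommutative (P : Subgroup (Xc D t)) by
    obtain ⟨P, h1, h2⟩ := this
    have := H6.eq_one_of_mem_commutator_of_comm P h2 h1 (k.perfect h ▸ mem_top w)
      fun n _ => mem_center_iff.mp hz' n
    rw [this, orderOf_one] at ho'
    exact hp.one_lt.ne ho'
  by_cases p2 : p = 2
  · subst p2
    obtain ⟨P, hP, h1⟩ := exists_isSylowIn_ge pw (K := centralizer {⟨t, Dl.rfl.mem_Xc⟩})
      (by rw [zpowers_le]; exact mem_centralizer_singleton_iff.mpr (mem_center_iff.mp hz' _).symm)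
    have hP' : IsSylowIn 2 P ⊤ := IsSylowIn.of_not_dvd_relIndex le_top hP.pgroup (by
      rw [relIndex_top_right, ← relIndex_mul_index hP.le, Nat.prime_two.dvd_mul]
      exact not_or.mpr ⟨hP.not_dvd_relIndex, (k.odd_index h ho).not_two_dvd_nat⟩)
    refine ⟨hP'.toSylowTop, h1 (mem_zpowers w), ⟨⟨fun x y => Subtype.ext ?_⟩⟩⟩
    have sq : ∀ x ∈ P, f x * f x = 1 := fun x hx => by
      obtain ⟨n, hn⟩ := hP.pgroup ⟨x, hx⟩
      have h1 : f x ^ 2 ^ n = 1 := by rw [← map_pow, show x ^ 2 ^ n = 1 from congrArg Subtype.val hn, map_one]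
      have h2 := J.pow_thirty j.iv (Commute.map (mem_centralizer_singleton_iff.mp (hP.le hx)) f)
      rw [← pow_two, ← orderOf_dvd_iff_pow_eq_one]
      exact Nat.Coprime.dvd_of_dvd_mul_left (m := 15) (Nat.Coprime.coprime_dvd_left
        (orderOf_dvd_of_pow_eq_one h1) (Nat.Coprime.pow_left n (by norm_num))) (orderOf_dvd_of_pow_eq_one h2)
    have dec : ∀ x ∈ P, ∃ b, ∃ z : Xc D t, (z.1 = φ b ∨ z.1 = t * φ b) ∧ z⁻¹ * x ∈ center _ := fun x hx => by
      obtain ⟨z, ⟨b, hb⟩, hz⟩ := k.cent h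
        (congrArg Subtype.val (mem_centralizer_singleton_iff.mp (hP.le hx)))
      refine ⟨b, ⟨z, ?_⟩, hb, mem_center_iff.mpr fun y => Subtype.ext (hz y y.2).symm⟩
      rcases hb with rfl | rfl
      exacts [h.mem_Xc Dl.rfl b, mul_mem Dl.rfl.mem_Xc (h.mem_Xc Dl.rfl b)]
    obtain ⟨x, hx⟩ := x
    obtain ⟨y, hy⟩ := y
    obtain ⟨a, u, h1, h2⟩ := dec x hx
    obtain ⟨b, v, h3, h4⟩ := dec y hy
    have inv : ∀ x ∈ P, (f x)⁻¹ = f x := fun x hx => inv_eq_of_mul_eq_one_right (sq x hx)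
    have c : Commute (f x) (f y) := by
      have := inv _ (mul_mem hx hy)
      rw [map_mul, mul_inv_rev, inv x hx, inv y hy] at this
      exact this.symm
    have fe : ∀ {u x : Xc D t}, u⁻¹ * x ∈ center _ → f x = f u := fun hu => by
      rw [← hk, MonoidHom.mem_ker, map_mul, map_inv, inv_mul_eq_one] at hu
      exact hu.symm
    have fa : ∀ {u : Xc D t} {a}, u.1 = φ a → f u = f.comp (φ.codRestrict _ (h.mem_Xc Dl.rfl)) a :=
      fun e => congrArg f (Subtype.ext e)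
    have fb : ∀ {u : Xc D t} {a}, u.1 = t * φ a →
        f u = f ⟨t, Dl.rfl.mem_Xc⟩ * f.comp (φ.codRestrict _ (h.mem_Xc Dl.rfl)) a :=
      fun e => (congrArg f (Subtype.ext e)).trans (map_mul f _ _)
    rw [fe h2, fe h4] at c
    have c1 : Commute u.1 v.1 := by
      rcases h1 with e | e <;> rcases h3 with e' | e' <;> rw [e, e']
      · rw [fa e, fa e', j.cm] at c
        exact h.cm.mpr c
      · rw [fa e, fb e', Commute.symm_iff, j.cm'] at c
        exact (h.comm a).mul_right (h.cm.mpr c).symm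
      · rw [fb e, fa e', j.cm'] at c
        exact (h.comm b).symm.mul_left (h.cm.mpr c)
      · rw [fb e, fb e'] at c
        have := ((Commute.refl _).mul_left (j.comm a)).mul_right c
        rw [j.iv.cancel, j.cm'] at this
        exact (h.comm' a).mul_right ((h.comm b).symm.mul_left (h.cm.mpr this))
    have c2 : Commute u v := Subtype.ext c1
    have := (c2.mul_right (mem_center_iff.mp h4 u)).mul_left
      (Commute.symm (mem_center_iff.mp h2 (v * (v⁻¹ * y))))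
    rwa [mul_inv_cancel_left, mul_inv_cancel_left] at this
  · obtain ⟨P, hP⟩ := pw.exists_le_sylow
    refine ⟨P, hP (mem_zpowers w), ?_⟩
    obtain ⟨n, hn⟩ := (P.2.map f).exists_card_eq
    have hd := card_subgroup_dvd_card ((P : Subgroup _).map f)
    rw [hn, J.card_eq.1] at hd
    have : IsCyclic ((P : Subgroup _).map f) := by
      refine isCyclic_of_card_dvd_prime (p := p) ?_
      rw [hn]
      rcases Nat.lt_or_ge n 2 with n2 | n2
      · exact (pow_dvd_pow p (by omega)).trans (pow_one p).dvd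
      have h1 := (pow_dvd_pow p n2).trans hd
      have h2 : p ∣ 2 ^ 3 * (3 * (5 * (7 * (11 * 19)))) := (dvd_pow_self p two_ne_zero).trans h1
      simp only [hp.dvd_mul, hp.prime.dvd_pow_iff_dvd three_ne_zero] at h2
      rcases h2 with e | e | e | e | e | e <;>
        rw [Nat.prime_dvd_prime_iff_eq hp (by norm_num)] at e <;> subst e <;> simp_all
    exact MonoidHom.isMulCommutative_of_isCyclic_of_ker_le_center (f.subgroupMap P) fun x hx => mem_center_iff.mpr fun y =>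
      Subtype.ext (mem_center_iff.mp (hk ▸ (congrArg Subtype.val hx : x.1 ∈ f.ker)) y.1)

theorem jan' : Jan (Xc D t) := k.jan h ho (MonoidHom.id _) Function.surjective_id
  (by rw [k.center_eq h ho, MonoidHom.ker_id])

theorem mc_eq_top : k.Mc h.dt = ⊤ := by
  have J := k.jan' h ho
  have cen : ∀ z : Xc D t, (∀ y, Commute z y) → z = 1 := fun z hz =>
    mem_bot.mp (k.center_eq h ho ▸ mem_center_iff.mpr fun y => (hz y).symm)
  obtain ⟨a, -, x, ⟨a1, a2, -⟩, ⟨x1, x2, x3⟩, -⟩ := A5.exists_gen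
  have dec : ∀ m ∈ k.Mc h.dt, ∃ x, ∀ y, Commute (((Xc D t).subtype x)⁻¹ * m) ((Xc D t).subtype y) := by
    intro m hm
    obtain ⟨ρ, h1, h2⟩ := k.trans h hm
    obtain ⟨z, ⟨b, hb⟩, hz⟩ := k.cent h (g := ρ⁻¹ * m) (cm_of_conj_eq (by
      rw [show ρ⁻¹ * m * t * (ρ⁻¹ * m)⁻¹ = ρ⁻¹ * (m * t * m⁻¹) * ρ by group, ← h2]; group))
    refine ⟨⟨ρ * z, mul_mem h1 ?_⟩, fun y => by simpa [mul_assoc] using hz y y.2⟩
    rcases hb with rfl | rfl
    exacts [h.mem_Xc Dl.rfl b, mul_mem Dl.rfl.mem_Xc (h.mem_Xc Dl.rfl b)]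
  have dl : ∀ x : Xc D t, Iv x → ∃ ρ ∈ Xc D t, ρ * t * ρ⁻¹ = x := fun x hx => by
    obtain ⟨ρ, e⟩ := J.cj ⟨t, Dl.rfl.mem_Xc⟩ x ⟨Subtype.ext h.iv.1, fun e => h.iv.2 (congrArg Subtype.val e)⟩ hx
    exact ⟨ρ, ρ.2, congrArg Subtype.val e⟩
  refine disc_aux ⟨cen, fun y hy => ?_, ?_, fun K _ hK => J.normal_eq_bot K hK⟩ _ G rfl (Xc D t).subtype _
    ⟨subtype_injective _, fun x => k.xc_le h x.2, dec, fun y hy g hg => ?_⟩
  · obtain ⟨ψ, j⟩ := J.jt y hy
    exact ⟨ψ a, ⟨j.sq.mpr a2, j.ne_one.mpr a1⟩, j.comm a, j.ne a⟩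
  · obtain ⟨y, hy⟩ := J.ex
    obtain ⟨ψ, j⟩ := J.jt y hy
    have hx : x ≠ 1 := by
      rintro rfl
      rw [mul_one, pow_succ, pow_two, a2, one_mul] at x3
      exact a1 x3
    refine ⟨ψ a, ψ x, ⟨j.sq.mpr a2, j.ne_one.mpr a1⟩, ⟨j.sq.mpr x1, j.ne_one.mpr hx⟩, fun c => x2 ?_⟩
    have c' : Commute a x := j.cm.mp c
    rwa [pow_succ, c'.mul_pow, pow_two, pow_two, a2, x1, one_mul, one_mul] at x3
  · obtain ⟨ρ, h1, h2⟩ := dl y hy
    obtain ⟨w, hw⟩ := dec _ hg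
    have dy : D (g * y * g⁻¹) := k.cj _ (h2 ▸ k.cj t h.dt ρ) g
    have : Dl D t (g * y * g⁻¹) := by
      by_cases w1 : w = 1
      · exact Dl.rfl.adj dy (by simpa [w1] using hw ⟨t, Dl.rfl.mem_Xc⟩)
      · obtain ⟨σ, h3, h4⟩ := dl w ⟨DH.sq_of_dec cen (subtype_injective _) hw (k.iv dy).1, w1⟩
        refine Dl.adj (h4 ▸ k.xc_le h h3 : Dl D t w) dy ?_
        have := (Commute.refl _).mul_left (hw w)
        rwa [mul_inv_cancel_left] at this
    refine (mul_mem_cancel_right (k.xc_le h h1)).mp ?_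
    change Dl D t _
    rwa [← h2, show g * (ρ * t * ρ⁻¹) * g⁻¹ = g * ρ * t * (g * ρ)⁻¹ by group] at this

end WK

end Cfsg.Agent.H7.Jk
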